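import Mathlib
import Cfsg.Agent.Lib.Linear.Transvection
import Cfsg.Agent.Lib.ShortPresSL2.Main
import Cfsg.Agent.Lib.ShortPresSLn.Sem

/-!
# Short presentations of `Ω⁺`, part 1: monomial matrices and generation lemmas in `SL_n`
-/

set_option autoImplicit false
set_option linter.unusedSectionVars false

namespace Cfsg.Agent.Lib.ShortPresDn

open Equiv
open Schur.SteinbergSLn (trv trv_rel trv_smul)
open Cfsg.Agent.Lib.Linear (sl_ext_single sl_eq_top_of_transvection_mem)
open ShortPresSLn (permHom permS_single torS torS_single tS tS_single)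

variable {F : Type*} [Field F] {n : ℕ}

local notation "SLn" => Matrix.SpecialLinearGroup (Fin n) F

theorem trv_inv {i j : Fin n} (h : i ≠ j) (c : F) : (trv n F i j c)⁻¹ = trv n F i j (-c) :=
  (Schur.SteinbergSLn.x_neg (trv_rel n) h c).symm

theorem trv_coe {i j : Fin n} (h : i ≠ j) (c : F) :
    (trv n F i j c : Matrix (Fin n) (Fin n) F) = 1 + Matrix.single i j c := by
  simp [trv, h, Matrix.SpecialLinearGroup.transvection_coe]

theorem transvection_eq_trv {i j : Fin n} (h : i ≠ j) (c : F) :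
    Matrix.SpecialLinearGroup.transvection h c = trv n F i j c := by simp [trv, h]

theorem trv_commute {i j k l : Fin n} (hij : i ≠ j) (hkl : k ≠ l) (hil : i ≠ l) (hjk : j ≠ k) (t u : F) :
    Commute (trv n F i j t) (trv n F k l u) := (trv_rel n).comm i j k l hij hkl hil hjk t u

/-- A subgroup containing all transvections is everything. -/
theorem sl_top (H : Subgroup SLn) (h : ∀ i j, i ≠ j → ∀ c, trv n F i j c ∈ H) : H = ⊤ :=
  sl_eq_top_of_transvection_mem H fun i j hij c => transvection_eq_trv (F := F) hij c ▸ h i j hij c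

/-! ### Monomial matrices -/

/-- A monomial matrix: `e_k ↦ α_k e_{σ k}`. -/
def Mono (g : SLn) (σ : Perm (Fin n)) (α : Fin n → Fˣ) : Prop :=
  ∀ (k : Fin n) (a : F), g • (Pi.single k a : Fin n → F) = Pi.single (σ k) ((α k : F) * a)

theorem Mono.one : Mono (1 : SLn) 1 1 := fun k a => by simp

theorem Mono.mul {g h : SLn} {σ τ : Perm (Fin n)} {α β : Fin n → Fˣ} (hg : Mono g σ α) (hh : Mono h τ β) :
    Mono (g * h) (σ * τ) (fun k => α (τ k) * β k) := fun k a => by
  rw [mul_smul, hh, hg, Units.val_mul, mul_assoc]; rfl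

theorem Mono.inv {g : SLn} {σ : Perm (Fin n)} {α : Fin n → Fˣ} (hg : Mono g σ α) :
    Mono g⁻¹ σ⁻¹ (fun k => (α (σ⁻¹ k))⁻¹) := fun k a => by
  rw [inv_smul_eq_iff, hg]
  simp [Perm.inv_def]

theorem mono_permHom (π : alternatingGroup (Fin n)) : Mono (permHom n F π) (π : Perm (Fin n)) 1 :=
  fun k a => (permS_single π k a).trans (by simp)

theorem mono_torS (w : Fˣ) (i j : Fin n) :
    Mono (torS w i j : SLn) 1 (Pi.mulSingle i w * Pi.mulSingle j w⁻¹) :=
  fun k a => (torS_single w i j k a).trans (by simp)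

theorem mono_tS {i j : Fin n} (h : i ≠ j) :
    Mono (tS i j : SLn) (Equiv.swap i j) (fun k => if k = i then -1 else 1) := fun k a => by
  rw [tS_single h]
  split_ifs with h1 h2
  · subst h1; simp
  · subst h2; simp [h1]
  · simp [Equiv.swap_apply_of_ne_of_ne h1 h2, h1]

/-- Monomial matrices permute the transvections. -/
theorem Mono.conj_trv {g : SLn} {σ : Perm (Fin n)} {α : Fin n → Fˣ} (hg : Mono g σ α) {i j : Fin n}
    (h : i ≠ j) (c : F) :
    g * trv n F i j c * g⁻¹ = trv n F (σ i) (σ j) ((α i : F) * ((α j)⁻¹ : Fˣ) * c) := by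
  rw [mul_inv_eq_iff_eq_mul]
  refine sl_ext_single fun k => ?_
  rw [mul_smul, mul_smul, trv_smul h, hg, trv_smul (σ.injective.ne h), smul_add, hg, hg]
  congr 1
  rcases eq_or_ne k j with rfl | hk
  · simp [Units.val_inv_eq_inv_val]; field_simp
  · simp [Pi.single_eq_of_ne hk.symm, Pi.single_eq_of_ne (σ.injective.ne hk).symm]

theorem exists_mono (σ : Perm (Fin n)) (α : Fin n → Fˣ)
    (h : ((Perm.sign σ : ℤ) : F) * ∏ k, (α k : F) = 1) : ∃ g : SLn, Mono g σ α := by
  refine ⟨⟨(σ⁻¹).permMatrix F * Matrix.diagonal (fun k => (α k : F)), ?_⟩, fun k a => ?_⟩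
  · rw [Matrix.det_mul, Matrix.det_permutation, Perm.sign_inv, Matrix.det_diagonal]
    exact_mod_cast h
  · show Matrix.mulVec ((σ⁻¹).permMatrix F * Matrix.diagonal (fun k => (α k : F))) _ = _
    rw [← Matrix.mulVec_mulVec, Matrix.permMatrix_mulVec]
    funext x
    rcases eq_or_ne x (σ k) with rfl | hx
    · show (Matrix.diagonal fun k => (α k : F)).mulVec (Pi.single k a) (σ⁻¹ (σ k)) = _
      rw [Perm.inv_def, Equiv.symm_apply_apply, Matrix.mulVec_diagonal]; simp
    · have : σ⁻¹ x ≠ k := fun e => hx (by rw [← e]; simp)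
      show (Matrix.diagonal fun k => (α k : F)).mulVec (Pi.single k a) (σ⁻¹ x) = _
      rw [Matrix.mulVec_diagonal, Pi.single_eq_of_ne this, Pi.single_eq_of_ne hx, mul_zero]

/-- A monomial matrix with given permutation, with signs only at one chosen place. -/
theorem exists_mono_perm (σ : Perm (Fin n)) (z : Fin n) :
    ∃ (g : SLn) (α : Fin n → Fˣ), Mono g σ α ∧ ∀ k, k ≠ z → α k = 1 := by
  let e : Fˣ := Units.map (Int.castRingHom F).toMonoidHom (Perm.sign σ)
  have hprod : ∏ k, ((Pi.mulSingle z e : Fin n → Fˣ) k : F) = (e : F) := by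
    rw [← Units.coe_prod, Fintype.prod_pi_mulSingle']
  obtain ⟨g, hg⟩ := exists_mono σ (Pi.mulSingle z e) (by
    rw [hprod]
    show ((Perm.sign σ : ℤ) : F) * ((Perm.sign σ : ℤ) : F) = 1
    rcases Int.units_eq_one_or (Perm.sign σ) with e1 | e1 <;> simp [e1])
  exact ⟨g, _, hg, fun k hk => Pi.mulSingle_eq_of_ne (M := fun _ => Fˣ) hk _⟩

theorem exists_perm_two {a b i j : Fin n} (hab : a ≠ b) (hij : i ≠ j) :
    ∃ σ : Perm (Fin n), σ a = i ∧ σ b = j := by
  refine ⟨Equiv.swap (Equiv.swap a i b) j * Equiv.swap a i, ?_, by simp⟩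
  rw [Perm.mul_apply, Equiv.swap_apply_left]
  refine Equiv.swap_apply_of_ne_of_ne ?_ hij
  intro e
  exact hab ((Equiv.swap a i).injective (by rw [← e, Equiv.swap_apply_left]))

theorem exists_perm_three {a b c i j k : Fin n} (hab : a ≠ b) (hac : a ≠ c) (hbc : b ≠ c) (hij : i ≠ j)
    (hik : i ≠ k) (hjk : j ≠ k) : ∃ σ : Perm (Fin n), σ a = i ∧ σ b = j ∧ σ c = k := by
  obtain ⟨σ, ha, hb⟩ := exists_perm_two hab hij
  refine ⟨Equiv.swap (σ c) k * σ, ?_, ?_, by simp⟩
  · rw [Perm.mul_apply, ha]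
    exact Equiv.swap_apply_of_ne_of_ne (ha ▸ σ.injective.ne hac) hik
  · rw [Perm.mul_apply, hb]
    exact Equiv.swap_apply_of_ne_of_ne (hb ▸ σ.injective.ne hbc) hjk

theorem exists_perm_four {a b c d i j k l : Fin n} (hab : a ≠ b) (hac : a ≠ c) (hbc : b ≠ c)
    (had : a ≠ d) (hbd : b ≠ d) (hcd : c ≠ d) (hij : i ≠ j) (hik : i ≠ k) (hjk : j ≠ k) (hil : i ≠ l)
    (hjl : j ≠ l) (hkl : k ≠ l) : ∃ σ : Perm (Fin n), σ a = i ∧ σ b = j ∧ σ c = k ∧ σ d = l := by
  obtain ⟨σ, ha, hb, hc⟩ := exists_perm_three hab hac hbc hij hik hjk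
  refine ⟨Equiv.swap (σ d) l * σ, ?_, ?_, ?_, by simp⟩
  · rw [Perm.mul_apply, ha]
    exact Equiv.swap_apply_of_ne_of_ne (ha ▸ σ.injective.ne had) hil
  · rw [Perm.mul_apply, hb]
    exact Equiv.swap_apply_of_ne_of_ne (hb ▸ σ.injective.ne hbd) hjl
  · rw [Perm.mul_apply, hc]
    exact Equiv.swap_apply_of_ne_of_ne (hc ▸ σ.injective.ne hcd) hkl

/-! ### Stabilisers of two coordinates -/

variable (a b : Fin n)

/-- The embedding of `SL` on the complement of two indices. -/
noncomputable def blockHom :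
    Matrix.SpecialLinearGroup {x : Fin n // ¬ (x = a ∨ x = b)} F →* SLn where
  toFun A := ⟨Matrix.reindexAlgEquiv F F (Equiv.sumCompl fun x : Fin n => x = a ∨ x = b)
      (Matrix.fromBlocks 1 0 0 A.1), by
    rw [Matrix.det_reindexAlgEquiv, Matrix.det_fromBlocks_zero₁₂, Matrix.det_one, one_mul, A.2]⟩
  map_one' := Subtype.ext (by simp [Matrix.fromBlocks_one])
  map_mul' A B := Subtype.ext (by
    show Matrix.reindexAlgEquiv F F _ _ = Matrix.reindexAlgEquiv F F _ _ * Matrix.reindexAlgEquiv F F _ _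
    rw [← map_mul, Matrix.fromBlocks_multiply]
    simp [Matrix.SpecialLinearGroup.coe_mul])

theorem blockHom_coe (A : Matrix.SpecialLinearGroup {x : Fin n // ¬ (x = a ∨ x = b)} F) (i j : Fin n) :
    (blockHom a b A : Matrix (Fin n) (Fin n) F) i j =
      if hi : i = a ∨ i = b then (if i = j then 1 else 0)
      else if hj : j = a ∨ j = b then 0 else A.1 ⟨i, hi⟩ ⟨j, hj⟩ := by
  show Matrix.fromBlocks (1 : Matrix _ _ F) 0 0 A.1
    ((Equiv.sumCompl fun x : Fin n => x = a ∨ x = b).symm i)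
    ((Equiv.sumCompl fun x : Fin n => x = a ∨ x = b).symm j) = _
  by_cases hi : i = a ∨ i = b <;> by_cases hj : j = a ∨ j = b
  · rw [dif_pos hi, Equiv.sumCompl_symm_apply_of_pos (p := fun x : Fin n => x = a ∨ x = b) hi,
      Equiv.sumCompl_symm_apply_of_pos (p := fun x : Fin n => x = a ∨ x = b) hj]
    simp [Matrix.one_apply]
  · rw [dif_pos hi, Equiv.sumCompl_symm_apply_of_pos (p := fun x : Fin n => x = a ∨ x = b) hi,
      Equiv.sumCompl_symm_apply_of_neg (p := fun x : Fin n => x = a ∨ x = b) hj,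
      if_neg (show ¬ i = j from fun e => hj (e ▸ hi))]
    rfl
  · rw [dif_neg hi, dif_pos hj,
      Equiv.sumCompl_symm_apply_of_neg (p := fun x : Fin n => x = a ∨ x = b) hi,
      Equiv.sumCompl_symm_apply_of_pos (p := fun x : Fin n => x = a ∨ x = b) hj]
    rfl
  · rw [dif_neg hi, dif_neg hj,
      Equiv.sumCompl_symm_apply_of_neg (p := fun x : Fin n => x = a ∨ x = b) hi,
      Equiv.sumCompl_symm_apply_of_neg (p := fun x : Fin n => x = a ∨ x = b) hj]
    rfl

variable {a b}

/-- Elements that are trivial on the rows and columns `a`, `b`. -/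
theorem mem_of_block (H : Subgroup SLn)
    (hH : ∀ i j, i ≠ j → i ≠ a → i ≠ b → j ≠ a → j ≠ b → ∀ c, trv n F i j c ∈ H) (g : SLn)
    (hc : ∀ x, (x = a ∨ x = b) → ∀ k, g.1 k x = if k = x then 1 else 0)
    (hr : ∀ x, (x = a ∨ x = b) → ∀ k, g.1 x k = if x = k then 1 else 0) : g ∈ H := by
  let D : Matrix {x : Fin n // ¬ (x = a ∨ x = b)} {x : Fin n // ¬ (x = a ∨ x = b)} F :=
    g.1.submatrix Subtype.val Subtype.val
  have hg : Matrix.reindexAlgEquiv F F (Equiv.sumCompl fun x : Fin n => x = a ∨ x = b)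
      (Matrix.fromBlocks 1 0 0 D) = g.1 := by
    ext i j
    show Matrix.fromBlocks (1 : Matrix _ _ F) 0 0 D
      ((Equiv.sumCompl fun x : Fin n => x = a ∨ x = b).symm i)
      ((Equiv.sumCompl fun x : Fin n => x = a ∨ x = b).symm j) = _
    by_cases hi : i = a ∨ i = b <;> by_cases hj : j = a ∨ j = b
    · rw [Equiv.sumCompl_symm_apply_of_pos (p := fun x : Fin n => x = a ∨ x = b) hi,
        Equiv.sumCompl_symm_apply_of_pos (p := fun x : Fin n => x = a ∨ x = b) hj, hc j hj i]
      simp [Matrix.one_apply]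
    · rw [Equiv.sumCompl_symm_apply_of_pos (p := fun x : Fin n => x = a ∨ x = b) hi,
        Equiv.sumCompl_symm_apply_of_neg (p := fun x : Fin n => x = a ∨ x = b) hj, hr i hi j,
        if_neg (show ¬ i = j from fun e => hj (e ▸ hi))]
      rfl
    · rw [Equiv.sumCompl_symm_apply_of_neg (p := fun x : Fin n => x = a ∨ x = b) hi,
        Equiv.sumCompl_symm_apply_of_pos (p := fun x : Fin n => x = a ∨ x = b) hj, hc j hj i,
        if_neg (show ¬ i = j from fun e => hi (e ▸ hj))]
      rfl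
    · rw [Equiv.sumCompl_symm_apply_of_neg (p := fun x : Fin n => x = a ∨ x = b) hi,
        Equiv.sumCompl_symm_apply_of_neg (p := fun x : Fin n => x = a ∨ x = b) hj]
      rfl
  have hD : D.det = 1 := by
    have := congrArg Matrix.det hg
    rw [Matrix.det_reindexAlgEquiv, Matrix.det_fromBlocks_zero₁₂, Matrix.det_one, one_mul, g.2] at this
    exact this
  have htop : H.comap (blockHom (F := F) a b) = ⊤ := by
    refine sl_eq_top_of_transvection_mem _ fun i j hij c => ?_
    have hij' : (i : Fin n) ≠ j := fun e => hij (Subtype.ext e)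
    have e : blockHom (F := F) a b (Matrix.SpecialLinearGroup.transvection hij c) = trv n F i j c := by
      apply Matrix.SpecialLinearGroup.ext
      intro x y
      rw [blockHom_coe, trv_coe hij', Matrix.add_apply, Matrix.one_apply, Matrix.single_apply]
      by_cases hx : x = a ∨ x = b
      · rw [dif_pos hx, if_neg (fun e : (i : Fin n) = x ∧ (j : Fin n) = y => i.2 (e.1 ▸ hx)), add_zero]
      · rw [dif_neg hx]
        by_cases hy : y = a ∨ y = b
        · rw [dif_pos hy, if_neg (fun e : x = y => hx (e ▸ hy)),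
            if_neg (fun e : (i : Fin n) = x ∧ (j : Fin n) = y => j.2 (e.2 ▸ hy)), add_zero]
        · rw [dif_neg hy]
          simp [Matrix.SpecialLinearGroup.transvection_coe, Matrix.one_apply, Matrix.single_apply,
            Subtype.ext_iff]
    show blockHom (F := F) a b _ ∈ H
    rw [e]
    exact hH i j hij' (fun e => i.2 (Or.inl e)) (fun e => i.2 (Or.inr e))
      (fun e => j.2 (Or.inl e)) (fun e => j.2 (Or.inr e)) c
  let D' : Matrix.SpecialLinearGroup {x : Fin n // ¬ (x = a ∨ x = b)} F := ⟨D, hD⟩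
  have : g = blockHom (F := F) a b D' := Subtype.ext hg.symm
  rw [this]
  have hm : D' ∈ H.comap (blockHom (F := F) a b) := by rw [htop]; exact Subgroup.mem_top D'
  exact hm

theorem Mono.col {g : SLn} {σ : Perm (Fin n)} {α : Fin n → Fˣ} (hg : Mono g σ α) (k x : Fin n) :
    g.1 k x = if k = σ x then (α x : F) else 0 := by
  have := congrFun (hg x 1) k
  rw [Matrix.SpecialLinearGroup.smul_def] at this
  simpa [Matrix.mulVec_single_one, Pi.single_apply] using this

/-- Monomial matrices fixing two indices. -/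
theorem mem_of_block_mono (H : Subgroup SLn)
    (hH : ∀ i j, i ≠ j → i ≠ a → i ≠ b → j ≠ a → j ≠ b → ∀ c, trv n F i j c ∈ H) {g : SLn}
    {σ : Perm (Fin n)} {α : Fin n → Fˣ} (hg : Mono g σ α) (hσ : σ a = a ∧ σ b = b)
    (hα : α a = 1 ∧ α b = 1) : g ∈ H := by
  refine mem_of_block H hH g (fun x hx k => ?_) fun x hx k => ?_
  · rw [hg.col]
    rcases hx with rfl | rfl
    · rw [hσ.1, hα.1]; simp
    · rw [hσ.2, hα.2]; simp
  · rw [hg.col]
    rcases hx with rfl | rfl
    · by_cases hk : x = k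
      · subst hk; rw [hσ.1, hα.1]; simp
      · rw [if_neg hk, if_neg]
        exact fun e => hk (σ.injective (hσ.1.trans e))
    · by_cases hk : x = k
      · subst hk; rw [hσ.2, hα.2]; simp
      · rw [if_neg hk, if_neg]
        exact fun e => hk (σ.injective (hσ.2.trans e))

theorem mul_trv_apply (g : SLn) {i j : Fin n} (h : i ≠ j) (c : F) (k l : Fin n) :
    (g * trv n F i j c).1 k l = g.1 k l + if l = j then g.1 k i * c else 0 := by
  rw [Matrix.SpecialLinearGroup.coe_mul, trv_coe h, mul_add, mul_one, Matrix.add_apply]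
  split_ifs with hl
  · subst hl; rw [Matrix.mul_single_apply_same]
  · rw [Matrix.mul_single_apply_of_ne _ _ _ _ _ hl]

theorem trv_mul_apply (g : SLn) {i j : Fin n} (h : i ≠ j) (c : F) (k l : Fin n) :
    (trv n F i j c * g).1 k l = g.1 k l + if k = i then c * g.1 j l else 0 := by
  rw [Matrix.SpecialLinearGroup.coe_mul, trv_coe h, add_mul, one_mul, Matrix.add_apply]
  split_ifs with hk
  · subst hk; rw [Matrix.single_mul_apply_same]
  · rw [Matrix.single_mul_apply_of_ne _ _ _ _ _ hk]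

/-- Elements fixing two unit vectors. -/
theorem mem_of_fix_cols (H : Subgroup SLn) (hab : a ≠ b)
    (hH : ∀ i j, i ≠ j → j ≠ a → j ≠ b → ∀ c, trv n F i j c ∈ H) (g : SLn)
    (hc : ∀ x, (x = a ∨ x = b) → ∀ k, g.1 k x = if k = x then 1 else 0) : g ∈ H := by
  classical
  have hstep : ∀ s : Finset (Fin n), a ∉ s → b ∉ s → ∃ q ∈ H,
      (∀ x, (x = a ∨ x = b) → ∀ k, (g * q).1 k x = if k = x then 1 else 0) ∧
      ∀ y, (y ∈ s → (g * q).1 a y = 0 ∧ (g * q).1 b y = 0) := by
    intro s
    induction s using Finset.induction_on with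
    | empty => exact fun _ _ => ⟨1, H.one_mem, by simpa using hc, fun y h => absurd h (Finset.notMem_empty y)⟩
    | @insert y s hys ih =>
      intro has hbs
      rw [Finset.mem_insert, not_or] at has hbs
      obtain ⟨q, hq, hq1, hq2⟩ := ih has.2 hbs.2
      set u := (g * q).1 a y with hu
      set v := (g * q).1 b y with hv
      refine ⟨q * (trv n F a y (-u) * trv n F b y (-v)),
        H.mul_mem hq (H.mul_mem (hH a y has.1 (Ne.symm has.1) (Ne.symm hbs.1) _)
          (hH b y hbs.1 (Ne.symm has.1) (Ne.symm hbs.1) _)), fun x hx k => ?_, fun z hz => ?_⟩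
      · rw [← mul_assoc, ← mul_assoc, mul_trv_apply _ hbs.1, mul_trv_apply _ has.1, hq1 x hx k]
        have hxy : x ≠ y := by rcases hx with rfl | rfl; exacts [has.1, hbs.1]
        simp [hxy]
      · rw [← mul_assoc, ← mul_assoc, mul_trv_apply _ hbs.1, mul_trv_apply _ hbs.1,
          mul_trv_apply _ has.1, mul_trv_apply _ has.1, mul_trv_apply _ has.1, mul_trv_apply _ has.1]
        rcases Finset.mem_insert.1 hz with rfl | hz
        · simp [hq1 a (Or.inl rfl), hq1 b (Or.inr rfl), hab, hab.symm, ← hu, ← hv, hbs.1]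
        · have hzy : z ≠ y := fun e => hys (e ▸ hz)
          simp [hzy, hq2 z hz]
  obtain ⟨q, hq, hq1, hq2⟩ := hstep (Finset.univ.filter fun x => ¬ (x = a ∨ x = b)) (by simp) (by simp)
  have : g * q ∈ H := by
    refine mem_of_block (a := a) (b := b) H (fun i j hij _ _ hja hjb c => hH i j hij hja hjb c) _ hq1
      fun x hx k => ?_
    by_cases hk : k = a ∨ k = b
    · rw [hq1 k hk x]
    · obtain ⟨h1, h2⟩ := hq2 k (Finset.mem_filter.2 ⟨Finset.mem_univ _, hk⟩)
      rw [if_neg (show ¬ x = k from fun e => hk (e ▸ hx))]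
      rcases hx with rfl | rfl
      exacts [h1, h2]
  have := H.mul_mem this (H.inv_mem hq)
  rwa [mul_inv_cancel_right] at this

/-- The transpose. -/
def trp (g : SLn) : SLn := ⟨g.1.transpose, by rw [Matrix.det_transpose, g.2]⟩

theorem trp_mul (g h : SLn) : trp (g * h) = trp h * trp g :=
  Subtype.ext (Matrix.transpose_mul g.1 h.1)

theorem trp_one : trp (1 : SLn) = 1 := Subtype.ext (by simp [trp])

theorem trp_trp (g : SLn) : trp (trp g) = g := Subtype.ext (Matrix.transpose_transpose _)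

theorem trp_trv {i j : Fin n} (h : i ≠ j) (c : F) : trp (trv n F i j c) = trv n F j i c := by
  refine Subtype.ext ?_
  show (trv n F i j c).1.transpose = _
  rw [trv_coe h, trv_coe h.symm, Matrix.transpose_add, Matrix.transpose_one, Matrix.transpose_single]

/-- The transpose of a subgroup. -/
def trans (H : Subgroup SLn) : Subgroup SLn where
  carrier := {g | trp g ∈ H}
  one_mem' := by show trp (1 : SLn) ∈ H; rw [trp_one]; exact H.one_mem
  mul_mem' {x y} hx hy := by show trp (x * y) ∈ H; rw [trp_mul]; exact H.mul_mem hy hx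
  inv_mem' {x} hx := by
    show trp x⁻¹ ∈ H
    have : trp x⁻¹ = (trp x)⁻¹ := eq_inv_of_mul_eq_one_left (by rw [← trp_mul, mul_inv_cancel, trp_one])
    rw [this]; exact H.inv_mem hx

/-- Elements whose rows `a` and `b` are unit vectors. -/
theorem mem_of_fix_rows (H : Subgroup SLn) (hab : a ≠ b)
    (hH : ∀ i j, i ≠ j → i ≠ a → i ≠ b → ∀ c, trv n F i j c ∈ H) (g : SLn)
    (hr : ∀ x, (x = a ∨ x = b) → ∀ k, g.1 x k = if x = k then 1 else 0) : g ∈ H := by
  have : trp g ∈ trans H := by
    refine mem_of_fix_cols (a := a) (b := b) _ hab (fun i j hij hja hjb c => ?_) _ fun x hx k => ?_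
    · show trp (trv n F i j c) ∈ H
      rw [trp_trv hij]
      exact hH j i hij.symm hja hjb c
    · show g.1 x k = _
      rw [hr x hx k]
      simp [eq_comm]
  have h2 : trp (trp g) ∈ H := this
  rwa [trp_trp] at h2

end Cfsg.Agent.Lib.ShortPresDn
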