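import Cfsg.Agent.Lib.ShortPresDn.Decomp

/-!
# Short presentations of `Ω⁺`, part 7: the criterion

A group with the relations `DRel`, generated by the Levi subgroup and one Weyl element, and acting
by the matrices of type `D`, acts faithfully. The group is the union of the double cosets of the
Siegel parabolic subgroup represented by products of Weyl elements of disjoint pairs.
-/

set_option autoImplicit false
set_option linter.unusedSectionVars false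

namespace Cfsg.Agent.Lib.ShortPresDn

open Equiv Matrix
open Schur.SteinbergSLn (trv trv_rel trv_smul)
open ShortPresSLn (permHom torS tS torS_weyl torS_tri)
open ShortPresSL2 (matU matD matT)

variable {F : Type*} [Field F]

theorem Mono.mul_apply_right {n : ℕ} {M : Matrix.SpecialLinearGroup (Fin n) F} {σ : Perm (Fin n)}
    {α : Fin n → Fˣ} (hM : Mono M σ α) (N : Matrix.SpecialLinearGroup (Fin n) F) (r j : Fin n) :
    (N * M).1 r j = N.1 r (σ j) * (α j : F) := by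
  rw [Matrix.SpecialLinearGroup.coe_mul, Matrix.mul_apply, Finset.sum_eq_single (σ j)]
  · rw [hM.col, if_pos rfl]
  · intro b _ hb; rw [hM.col, if_neg hb, mul_zero]
  · simp

variable {d : ℕ} {G : Type*} [Group G]

local notation "SLn" => Matrix.SpecialLinearGroup (Fin (d + 4)) F
local notation "A" => trv (d + 4) F
local notation "T₂" => (matT : Matrix.SpecialLinearGroup (Fin 2) F)

namespace DRel

variable (R : DRel d F G)

/-- The union of the double cosets. -/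
def cells : Set G := {x | ∃ k, 2 * k ≤ d + 4 ∧ ∃ p ∈ R.P, ∃ p' ∈ R.P, x = p * R.J k * p'}

theorem cells_left {p x : G} (hp : p ∈ R.P) (hx : x ∈ R.cells) : p * x ∈ R.cells := by
  obtain ⟨k, hk, a, ha, b, hb, rfl⟩ := hx
  exact ⟨k, hk, p * a, mul_mem hp ha, b, hb, by group⟩

theorem cells_right {p x : G} (hp : p ∈ R.P) (hx : x ∈ R.cells) : x * p ∈ R.cells := by
  obtain ⟨k, hk, a, ha, b, hb, rfl⟩ := hx
  exact ⟨k, hk, a, ha, b * p, mul_mem hb hp, by group⟩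

theorem exists_split {r : G} (hr : r ∈ R.Rad) :
    ∃ s : F, R.w * (r * (R.X 0 1 s)⁻¹) * R.w⁻¹ ∈ R.P := by
  have hR : ∀ s, R.X 0 1 s ∈ R.Rad := fun s => R.X_mem_Rad ne01 s
  let S : Subgroup G :=
    { carrier := {r | r ∈ R.Rad ∧ ∃ s : F, R.w * (r * (R.X 0 1 s)⁻¹) * R.w⁻¹ ∈ R.P}
      one_mem' := ⟨one_mem _, 0, by rw [R.X_zero ne01]; simp⟩
      mul_mem' := fun {a b} ⟨ha, s, hs⟩ ⟨hb, t, ht⟩ => ⟨mul_mem ha hb, s + t, by
        have := mul_mem hs ht
        convert this using 1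
        rw [R.X_add 0 1 ne01, _root_.mul_inv_rev]
        have hc : Commute (R.X 0 1 s)⁻¹ (b * (R.X 0 1 t)⁻¹) :=
          R.Rad_comm (inv_mem (hR s)) (mul_mem hb (inv_mem (hR t)))
        calc R.w * (a * b * ((R.X 0 1 t)⁻¹ * (R.X 0 1 s)⁻¹)) * R.w⁻¹ =
            R.w * (a * ((b * (R.X 0 1 t)⁻¹) * (R.X 0 1 s)⁻¹)) * R.w⁻¹ := by group
          _ = R.w * (a * ((R.X 0 1 s)⁻¹ * (b * (R.X 0 1 t)⁻¹))) * R.w⁻¹ := by rw [hc.symm.eq]
          _ = _ := by group⟩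
      inv_mem' := fun {a} ⟨ha, s, hs⟩ => ⟨inv_mem ha, -s, by
        have := inv_mem hs
        convert this using 1
        rw [← R.X_inv ne01, inv_inv]
        have hc : Commute a⁻¹ (R.X 0 1 s) := R.Rad_comm (inv_mem ha) (hR s)
        calc R.w * (a⁻¹ * R.X 0 1 s) * R.w⁻¹ = R.w * (R.X 0 1 s * a⁻¹) * R.w⁻¹ := by rw [hc.eq]
          _ = _ := by group⟩ }
  have : R.Rad ≤ S := (Subgroup.closure_le _).2 (by
    rintro _ ⟨i, j, t, hij, rfl⟩
    refine ⟨R.X_mem_Rad hij t, ?_⟩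
    by_cases hi : i = 0 ∨ i = 1 <;> by_cases hj : j = 0 ∨ j = 1
    · rcases hi with rfl | rfl <;> rcases hj with rfl | rfl
      · exact absurd rfl hij
      · exact ⟨t, by simp⟩
      · exact ⟨-t, by rw [R.X_swap 0 1 ne01]; simp⟩
      · exact absurd rfl hij
    · refine ⟨0, ?_⟩
      rw [not_or] at hj
      rw [R.X_zero ne01, inv_one, mul_one, R.X_swap j i hij.symm]
      rcases hi with rfl | rfl
      · rw [R.w_X0 hj.1 hj.2]; exact R.psi_mem_P _
      · rw [R.w_X1 hj.1 hj.2]; exact R.psi_mem_P _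
    · refine ⟨0, ?_⟩
      rw [not_or] at hi
      rw [R.X_zero ne01, inv_one, mul_one]
      rcases hj with rfl | rfl
      · rw [R.w_X0 hi.1 hi.2]; exact R.psi_mem_P _
      · rw [R.w_X1 hi.1 hi.2]; exact R.psi_mem_P _
    · refine ⟨0, ?_⟩
      rw [not_or] at hi hj
      rw [R.X_zero ne01, inv_one, mul_one,
        (show Commute R.w (R.X i j t) from R.w_X i j hij hi hj t).eq, mul_inv_cancel_right]
      exact R.X_mem_P hij t)
  exact (this hr).2

theorem commute_tail_X01 {k : ℕ} (s : F) : Commute (R.JS ((Finset.range k).erase 0)) (R.X 0 1 s) :=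
  R.commute_JS fun p hp => by
    rw [Finset.mem_erase] at hp
    exact R.commute_Wn_X ne01 (by simp; omega) (by simp; omega) s

theorem J_eq_tail {k : ℕ} (hk : 1 ≤ k) : R.J k = R.w * R.JS ((Finset.range k).erase 0) := by
  rw [← R.Wn_zero, J, ← R.JS_erase (Finset.mem_range.2 (by omega))]

/-- The three basic products. -/
theorem key {k : ℕ} (hk : 2 * k ≤ d + 4) {r : G} (hr : r ∈ R.Rad) (M : SLn) {σ : Perm (Fin (d + 4))}
    {α : Fin (d + 4) → Fˣ} (hM : Mono M σ α)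
    (h : (1 ≤ k ∧ M = 1) ∨
      (1 ≤ k ∧ ∃ b : Fin (d + 4), (b : ℕ) = 2 * k ∧ σ 1 = 0 ∧ σ b = 1 ∧ α 1 = 1 ∧ α b = 1) ∨
      (2 * k + 2 ≤ d + 4 ∧ M = permHom (d + 4) F (shift d))) :
    R.w * r * R.ψ M * R.J k ∈ R.cells := by
  obtain ⟨s, hs⟩ := R.exists_split hr
  suffices hmain : R.w * R.X 0 1 s * R.ψ M * R.J k ∈ R.cells by
    have e : R.w * r * R.ψ M * R.J k =
        (R.w * (r * (R.X 0 1 s)⁻¹) * R.w⁻¹) * (R.w * R.X 0 1 s * R.ψ M * R.J k) := by group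
    rw [e]; exact R.cells_left hs hmain
  rcases h with ⟨hk1, rfl⟩ | ⟨hk1, b, hb, s1, sb, a1, ab⟩ | ⟨hk2, rfl⟩
  · rw [map_one, mul_one, R.J_eq_tail hk1]
    set Je := R.JS ((Finset.range k).erase 0) with hJe
    by_cases h0 : s = 0
    · subst h0
      obtain ⟨k', rfl⟩ : ∃ k', k = k' + 1 := ⟨k - 1, by omega⟩
      have e := R.J_shift (k := k') (by omega)
      rw [R.J_eq_tail (k := k' + 1) (by omega), ← hJe, mul_right_inj] at e
      rw [R.X_zero ne01, mul_one, ← mul_assoc, show R.w * R.w = R.ψ (torS (-1) 0 1) from R.w_sq, e]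
      refine R.cells_left (R.psi_mem_P _) ?_
      exact ⟨k', by omega, _, R.psi_mem_P _, _, inv_mem (R.psi_mem_P _), rfl⟩
    · have e : R.w * R.X 0 1 s * R.w = R.ψ (torS (-1) 0 1) *
          (R.X 0 1 (-s⁻¹) * R.h (Units.mk0 s h0)⁻¹ * R.w * R.X 0 1 (-s⁻¹)) := by
        have hx := congrArg R.χ (ShortPresSL2.matT_conj_matU (Units.mk0 s h0))
        simp only [map_mul, map_inv, Units.val_mk0, R.χ_U] at hx
        have hd : Commute (R.ψ (torS (-1 : Fˣ) 0 1)) (R.X 0 1 s) := by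
          rw [← R.w_sq, ← map_mul, ← R.χ_U, ShortPresSL2.matT_sq]
          refine Commute.map ?_ R.χ
          refine Subtype.ext ?_
          simp only [Matrix.SpecialLinearGroup.coe_mul]
          simp [matD, matU]
        have e2 : R.w * R.X 0 1 s * R.w⁻¹ =
            R.X 0 1 (-s⁻¹) * R.h (Units.mk0 s h0)⁻¹ * R.w * R.X 0 1 (-s⁻¹) := hx
        rw [← e2]
        have hd2 : Commute (R.ψ (torS (-1 : Fˣ) 0 1)) R.w := by
          rw [← R.w_sq]; exact (Commute.refl _).mul_left (Commute.refl _)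
        calc R.w * R.X 0 1 s * R.w = R.w * R.X 0 1 s * (R.w⁻¹ * (R.w * R.w)) := by group
          _ = R.w * (R.X 0 1 s * (R.w⁻¹ * R.ψ (torS (-1) 0 1))) := by
            rw [show R.w * R.w = R.ψ (torS (-1) 0 1) from R.w_sq, mul_assoc R.w]
          _ = R.w * (R.ψ (torS (-1) 0 1) * (R.X 0 1 s * R.w⁻¹)) := by
            rw [← hd2.inv_right.eq, ← mul_assoc (R.X 0 1 s), ← hd.eq, mul_assoc]
          _ = _ := by rw [← mul_assoc R.w (R.ψ _), ← hd2.eq]; group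
      rw [← mul_assoc, e]
      have hc : Commute Je (R.X 0 1 (-s⁻¹)) := R.commute_tail_X01 _
      refine ⟨k, hk, R.ψ (torS (-1) 0 1) * (R.X 0 1 (-s⁻¹) * R.h (Units.mk0 s h0)⁻¹), ?_,
        R.X 0 1 (-s⁻¹), R.X_mem_P ne01 _, ?_⟩
      · exact mul_mem (R.psi_mem_P _) (mul_mem (R.X_mem_P ne01 _) (R.h_mem_P _))
      · rw [R.J_eq_tail hk1, ← hJe]
        calc _ = R.ψ (torS (-1) 0 1) * (R.X 0 1 (-s⁻¹) * R.h (Units.mk0 s h0)⁻¹) * R.w *
              (R.X 0 1 (-s⁻¹) * Je) := by group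
          _ = _ := by rw [← hc.eq]; group
  · have hb0 : b ≠ 0 := Fin.ne_of_val_ne (by rw [hb]; simp; omega)
    have hb1 : b ≠ 1 := Fin.ne_of_val_ne (by rw [hb]; simp)
    have i0 : σ⁻¹ 0 = 1 := by rw [Perm.inv_def, Equiv.symm_apply_eq, s1]
    have i1 : σ⁻¹ 1 = b := by rw [Perm.inv_def, Equiv.symm_apply_eq, sb]
    have hW : R.W 1 b = (R.ψ M)⁻¹ * R.w * R.ψ M := by
      rw [R.W_eq hM.inv (a := 1) (b := b) i0 i1 (by simp only [i0, a1, inv_one])
        (by simp only [i1, ab, inv_one]), map_inv, inv_inv]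
    obtain ⟨c, hc⟩ : ∃ c, (R.ψ M)⁻¹ * R.X 0 1 s * R.ψ M = R.X 1 b c := by
      have := R.X_conj _ _ _ hM.inv 0 1 ne01 s
      rw [map_inv, inv_inv, i0, i1] at this
      exact ⟨_, this⟩
    obtain ⟨n, hn, hn'⟩ := R.W_one_high hb0 hb1
    set p1 := (R.J k)⁻¹ * R.X 1 b c * R.J k with hp1
    have hp1P : p1 ∈ R.P := by
      rw [hp1, R.X_swap b 1 hb1]
      exact R.X_high_low hk (by omega) (by simp; omega) _
    have htail : Commute (R.JS ((Finset.range k).erase 0)) (R.ψ n) := by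
      refine R.commute_JS fun p hp => ?_
      rw [Finset.mem_erase, Finset.mem_range] at hp
      have hne : ∀ x y, x ≠ y → (x = b ∨ x = 0) → (y = b ∨ y = 0) → ∀ t, Commute (R.Wn p) (R.ψ (A x y t)) :=
        fun x y hxy hx hy t => R.commute_Wn_A hxy (Or.inl ⟨by rcases hx with rfl | rfl <;> simp <;> omega,
          by rcases hy with rfl | rfl <;> simp <;> omega⟩) t
      rw [hn', ShortPresSLn.tS_eq hb0, map_mul, map_mul]
      exact ((hne _ _ hb0 (Or.inl rfl) (Or.inr rfl) _).mul_right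
        (hne _ _ hb0.symm (Or.inr rfl) (Or.inl rfl) _)).mul_right (hne _ _ hb0 (Or.inl rfl) (Or.inr rfl) _)
    refine ⟨k, hk, R.ψ M, R.psi_mem_P _, R.ψ n * p1, mul_mem (R.psi_mem_P _) hp1P, ?_⟩
    calc R.w * R.X 0 1 s * R.ψ M * R.J k =
          R.ψ M * ((R.ψ M)⁻¹ * R.w * R.ψ M) * ((R.ψ M)⁻¹ * R.X 0 1 s * R.ψ M) * R.J k := by group
      _ = R.ψ M * (R.W 1 b * R.J k) * p1 := by rw [hc, ← hW, hp1]; group
      _ = R.ψ M * (R.w * (R.ψ n * R.JS ((Finset.range k).erase 0))) * p1 := by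
          rw [hn, R.J_eq_tail hk1]; group
      _ = _ := by rw [← htail.eq, R.J_eq_tail hk1]; group
  · set π := R.ψ (permHom (d + 4) F (shift d))
    have e := R.J_shift (k := k) hk2
    rw [R.J_eq_tail (k := k + 1) (by omega), mul_right_inj] at e
    have hc : Commute (π * R.J k * π⁻¹) (R.X 0 1 s) := e ▸ R.commute_tail_X01 s
    refine ⟨k + 1, by omega, 1, one_mem _, R.X 0 1 s * π, mul_mem (R.X_mem_P ne01 _) (R.psi_mem_P _), ?_⟩
    rw [one_mul, R.J_shift hk2]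
    calc R.w * R.X 0 1 s * π * R.J k = R.w * (R.X 0 1 s * (π * R.J k * π⁻¹)) * π := by group
      _ = _ := by rw [← hc.eq]; simp only [π]; group

theorem w_cells {x : G} (hx : x ∈ R.cells) : R.w * x ∈ R.cells := by
  obtain ⟨k, hk, p, hp, p', hp', rfl⟩ := hx
  obtain ⟨t, g, r, hr, rfl⟩ := R.mem_P hp
  rw [show R.w * (R.h t * R.ψ g * r * R.J k * p') = (R.w * R.h t) * (R.ψ g * r * R.J k) * p' by group, R.w_h]
  refine R.cells_right hp' ?_
  rw [mul_assoc]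
  refine R.cells_left (R.h_mem_P _) ?_
  obtain ⟨q, hq, a, b, hsupp, hcase⟩ := R.exists_decomp hk g
  obtain ⟨M, σ, α, hM, hσa, hσb, hMcase⟩ : ∃ (M : SLn) (σ : Perm (Fin (d + 4))) (α : Fin (d + 4) → Fˣ),
      Mono M σ α ∧ σ a = 0 ∧ σ b = 1 ∧
      ((1 ≤ k ∧ M = 1) ∨
        (1 ≤ k ∧ ∃ b' : Fin (d + 4), (b' : ℕ) = 2 * k ∧ σ 1 = 0 ∧ σ b' = 1 ∧ α 1 = 1 ∧ α b' = 1) ∨
        (2 * k + 2 ≤ d + 4 ∧ M = permHom (d + 4) F (shift d))) := by
    rcases hcase with ⟨hk1, rfl, rfl⟩ | ⟨hk1, hb, rfl⟩ | ⟨hk2, ha, hb⟩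
    · exact ⟨1, 1, 1, Mono.one, rfl, rfl, Or.inl ⟨hk1, rfl⟩⟩
    · have hb1 : (1 : Fin (d + 4)) ≠ b := Fin.ne_of_val_ne (by rw [hb]; simp; omega)
      have hb0 : b ≠ 0 := Fin.ne_of_val_ne (by rw [hb]; simp; omega)
      obtain ⟨σ, s1, sb⟩ := exists_perm_two hb1 (ne01 : (0 : Fin (d + 4)) ≠ 1)
      obtain ⟨M, α, hM, hα⟩ := exists_mono_perm (F := F) σ 0
      exact ⟨M, σ, α, hM, s1, sb, Or.inr (Or.inl ⟨hk1, b, hb, s1, sb, hα 1 ne01.symm, hα b hb0⟩)⟩
    · refine ⟨_, _, _, mono_permHom (shift d), ?_, ?_, Or.inr (Or.inr ⟨hk2, rfl⟩)⟩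
      · refine Fin.ext ?_
        rw [shift_last _ (by omega)]
        simp [ha]
      · refine Fin.ext ?_
        rw [shift_last _ (by omega)]
        simp [hb]
  -- the left factor
  set g0 := g * q * M⁻¹ with hg0
  have hg0W : g0 ∈ R.HsW := by
    refine R.mem_HsW g0 fun x hx j hj0 hj1 => ?_
    rw [hg0, hM.inv.mul_apply_right, hsupp x hx, zero_mul]
    · exact fun e => hj0 (by rw [← hσa, ← e]; simp)
    · exact fun e => hj1 (by rw [← hσb, ← e]; simp)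
  have hg : g = g0 * M * q⁻¹ := by rw [hg0]; group
  set r1 := R.ψ g * r * (R.ψ g)⁻¹ with hr1def
  set r2 := (R.ψ g0)⁻¹ * r1 * R.ψ g0 with hr2def
  have hr1 : r1 ∈ R.Rad := R.psi_conj_Rad g hr
  have hr2 : r2 ∈ R.Rad := by
    have := R.psi_conj_Rad g0⁻¹ hr1
    rwa [map_inv, inv_inv] at this
  have hqP : (R.J k)⁻¹ * R.ψ q⁻¹ * R.J k ∈ R.P := R.mem_Qk.1 (inv_mem hq)
  have e : R.w * (R.ψ g * r * R.J k) = (R.w * R.ψ g0 * R.w⁻¹) * (R.w * r2 * R.ψ M * R.J k) *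
      ((R.J k)⁻¹ * R.ψ q⁻¹ * R.J k) := by
    have e1 : R.ψ g * r = r1 * (R.ψ g0 * R.ψ M * R.ψ q⁻¹) := by
      rw [← map_mul, ← map_mul, ← hg, hr1def]; group
    rw [e1, hr2def]; group
  rw [e]
  exact R.cells_right hqP (R.cells_left (show R.w * R.ψ g0 * R.w⁻¹ ∈ R.P from hg0W) (R.key hk hr2 M hM hMcase))

theorem cells_eq_univ (hgen : Subgroup.closure (Set.range R.ψ ∪ {R.w}) = ⊤) (x : G) : x ∈ R.cells := by
  have hone : (1 : G) ∈ R.cells := ⟨0, by omega, 1, one_mem _, 1, one_mem _, by rw [R.J_zero]; simp⟩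
  let K : Subgroup G :=
    { carrier := {a | (∀ y ∈ R.cells, a * y ∈ R.cells) ∧ ∀ y ∈ R.cells, a⁻¹ * y ∈ R.cells}
      one_mem' := ⟨fun y hy => by rwa [one_mul], fun y hy => by rwa [inv_one, one_mul]⟩
      mul_mem' := fun {a b} ha hb => ⟨fun y hy => by rw [mul_assoc]; exact ha.1 _ (hb.1 y hy),
        fun y hy => by rw [_root_.mul_inv_rev, mul_assoc]; exact hb.2 _ (ha.2 y hy)⟩
      inv_mem' := fun {a} ha => ⟨ha.2, by rw [inv_inv]; exact ha.1⟩ }
  have hle : Subgroup.closure (Set.range R.ψ ∪ {R.w}) ≤ K := by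
    rw [Subgroup.closure_le]
    rintro y (⟨g, rfl⟩ | rfl)
    · exact ⟨fun y hy => R.cells_left (R.psi_mem_P _) hy, fun y hy => R.cells_left (inv_mem (R.psi_mem_P _)) hy⟩
    · refine ⟨fun y hy => R.w_cells hy, fun y hy => ?_⟩
      rw [R.w_inv, mul_assoc]
      exact R.cells_left (inv_mem (R.psi_mem_P _)) (R.w_cells hy)
  rw [hgen] at hle
  have := (hle (Subgroup.mem_top x)).1 1 hone
  rwa [mul_one] at this

end DRel

end Cfsg.Agent.Lib.ShortPresDn
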