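import Cfsg.Agent.Lib.ShortPresDn.Products

/-!
# Short presentations of `Ω⁺`, part 6: the double cosets of two parabolic subgroups of `SL_n`
-/

set_option autoImplicit false
set_option linter.unusedSectionVars false

namespace Cfsg.Agent.Lib.ShortPresDn

open Equiv Matrix
open Schur.SteinbergSLn (trv trv_rel trv_smul)
open ShortPresSLn (permHom torS tS torS_weyl torS_tri)

variable {F : Type*} [Field F] {n : ℕ}

theorem vecMul_trv (v : Fin n → F) {i j : Fin n} (h : i ≠ j) (c : F) :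
    v ᵥ* (trv n F i j c).1 = v + Pi.single j (v i * c) := by
  funext x
  rw [trv_coe h, Matrix.vecMul_add, Matrix.vecMul_one, Pi.add_apply, Pi.add_apply]
  congr 1
  simp only [Matrix.vecMul, dotProduct, Matrix.single_apply, mul_ite, mul_zero]
  by_cases hx : j = x
  · subst hx; simp
  · simp [hx, Ne.symm hx]

theorem vecMul_mul_coe (v : Fin n → F) (g h : Matrix.SpecialLinearGroup (Fin n) F) :
    v ᵥ* (g * h).1 = (v ᵥ* g.1) ᵥ* h.1 := by
  rw [Matrix.vecMul_vecMul]; rfl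

theorem vecMul_eq_zero (g : Matrix.SpecialLinearGroup (Fin n) F) {v : Fin n → F} (h : v ᵥ* g.1 = 0) : v = 0 := by
  have : (v ᵥ* g.1) ᵥ* g⁻¹.1 = 0 := by rw [h, Matrix.zero_vecMul]
  rwa [← vecMul_mul_coe, mul_inv_cancel, Matrix.SpecialLinearGroup.coe_one, Matrix.vecMul_one] at this

/-- Clearing a vector by column operations. -/
theorem exists_clear (H : Subgroup (Matrix.SpecialLinearGroup (Fin n) F)) (u : Fin n → F) (l t : Fin n)
    (hl : u l ≠ 0)
    (hall : ∀ j, j ≠ l → u j ≠ 0 → ∀ c, trv n F l j c ∈ H)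
    (hlt : l ≠ t → (∀ c, trv n F l t c ∈ H) ∧ ∀ c, trv n F t l c ∈ H) :
    ∃ q ∈ H, u ᵥ* q.1 = Pi.single t (u l) ∧
      ∀ z, l ≠ z → t ≠ z → u z = 0 → ∀ c : F, (Pi.single z c : Fin n → F) ᵥ* q.1 = Pi.single z c := by
  classical
  have hstep : ∀ s : Finset (Fin n), l ∉ s → ∃ q ∈ H,
      (∀ j, (u ᵥ* q.1) j = if j ∈ s then 0 else u j) ∧
      ∀ z, l ≠ z → u z = 0 → ∀ c : F, (Pi.single z c : Fin n → F) ᵥ* q.1 = Pi.single z c := by
    intro s
    induction s using Finset.induction_on with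
    | empty => exact fun _ => ⟨1, H.one_mem, fun j => by simp, fun z _ _ c => by simp⟩
    | @insert i s his ih =>
      intro hls
      rw [Finset.mem_insert, not_or] at hls
      obtain ⟨q, hq, e1, e2⟩ := ih hls.2
      by_cases hui : u i = 0
      · refine ⟨q, hq, fun j => ?_, e2⟩
        rw [e1]
        by_cases hj : j = i
        · subst hj; simp [his, hui]
        · simp [hj]
      refine ⟨q * trv n F l i (-(u i / u l)), H.mul_mem hq (hall i (Ne.symm hls.1) hui _), fun j => ?_,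
        fun z hlz hz c => ?_⟩
      · rw [vecMul_mul_coe, vecMul_trv _ hls.1, Pi.add_apply, e1, e1, if_neg hls.2]
        by_cases hj : j = i
        · subst hj
          rw [Pi.single_eq_same, if_neg his, if_pos (Finset.mem_insert_self _ _)]
          field_simp
          ring
        · rw [Pi.single_eq_of_ne hj]
          simp [hj]
      · rw [vecMul_mul_coe, e2 z hlz hz, vecMul_trv _ hls.1, Pi.single_eq_of_ne hlz, zero_mul, Pi.single_zero, add_zero]
  obtain ⟨q, hq, e1, e2⟩ := hstep (Finset.univ.erase l) (by simp)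
  have e1' : u ᵥ* q.1 = Pi.single l (u l) := by
    funext j
    rw [e1]
    by_cases hj : j = l
    · subst hj; simp
    · simp [hj]
  rcases eq_or_ne l t with rfl | hne
  · exact ⟨q, hq, e1', fun z h1 _ h3 c => e2 z h1 h3 c⟩
  refine ⟨q * (trv n F l t 1 * trv n F t l (-1)), H.mul_mem hq (H.mul_mem ((hlt hne).1 _) ((hlt hne).2 _)),
    ?_, fun z hlz htz hz c => ?_⟩
  · rw [vecMul_mul_coe, e1', vecMul_mul_coe, vecMul_trv _ hne, vecMul_trv _ hne.symm, Pi.add_apply,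
      Pi.single_eq_same, Pi.single_eq_of_ne hne.symm, mul_one, zero_add, Pi.single_eq_same, mul_neg_one,
      Pi.single_neg]
    abel
  · rw [vecMul_mul_coe, e2 z hlz hz, vecMul_mul_coe, vecMul_trv _ hne, Pi.single_eq_of_ne hlz, zero_mul,
      Pi.single_zero, add_zero, vecMul_trv _ hne.symm, Pi.single_eq_of_ne htz, zero_mul, Pi.single_zero,
      add_zero]

namespace DRel

variable {d : ℕ} {G : Type*} [Group G] (R : DRel d F G)

local notation "SLn" => Matrix.SpecialLinearGroup (Fin (d + 4)) F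
local notation "A" => trv (d + 4) F

/-- What may be moved left through the first Weyl element. -/
def HsW : Subgroup SLn := R.P.comap ((MulAut.conj R.w).toMonoidHom.comp R.ψ)

theorem A_mem_HsW {i j : Fin (d + 4)} (hij : i ≠ j) (h : ¬ ((i = 0 ∨ i = 1) ∧ j ≠ 0 ∧ j ≠ 1)) (c : F) :
    A i j c ∈ R.HsW := by
  show R.w * R.ψ (A i j c) * R.w⁻¹ ∈ R.P
  rcases diag01_or i j with hd | ⟨⟨i0, i1⟩, hj⟩ | h'
  · rw [(show Commute R.w (R.ψ (A i j c)) from R.w_A i j hij hd c).eq, mul_inv_cancel_right]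
    exact R.psi_mem_P _
  · rcases hj with rfl | rfl
    · rw [show R.w = R.χ ShortPresSL2.matT from rfl, R.w_lo i i0 i1]; exact R.X_mem_P i1 _
    · rw [R.w_lo1 i0 i1]; exact R.X_mem_P i0 _
  · exact absurd h' h

theorem torS_mem_HsW (t : Fˣ) : (torS t 0 2 : SLn) ∈ R.HsW ∧ (torS t 1 2 : SLn) ∈ R.HsW := by
  have hblock : ∀ i j : Fin (d + 4), i ≠ j → Diag01 i j → (torS t i j : SLn) ∈ R.HsW := by
    intro i j hij h
    have hji : Diag01 j i := by unfold Diag01 at h ⊢; tauto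
    have hn : ∀ x : F, A i j x ∈ R.HsW := fun x => R.A_mem_HsW hij (by unfold Diag01 at h; tauto) x
    have hn' : ∀ x : F, A j i x ∈ R.HsW := fun x => R.A_mem_HsW hij.symm (by unfold Diag01 at hji; tauto) x
    have e : (torS t i j : SLn) = A i j (t : F) * A j i (-(t : F)⁻¹) * A i j (t : F) * (tS i j)⁻¹ := by
      rw [← torS_weyl t hij, mul_inv_cancel_right]
    rw [e, ShortPresSLn.tS_eq hij]
    exact mul_mem (mul_mem (mul_mem (hn _) (hn' _)) (hn _)) (inv_mem (mul_mem (mul_mem (hn _) (hn' _)) (hn _)))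
  have h13 : (torS t 1 3 : SLn) ∈ R.HsW := by
    have e : R.w * (R.ψ (torS t 1 3))⁻¹ * R.w⁻¹ = (R.ψ (torS t 1 3))⁻¹ * R.h t := by
      rw [← R.torus_w]; group
    have : (torS t 1 3 : SLn)⁻¹ ∈ R.HsW := by
      show R.w * R.ψ (torS t 1 3)⁻¹ * R.w⁻¹ ∈ R.P
      rw [map_inv, e]
      exact mul_mem (inv_mem (R.psi_mem_P _)) (R.h_mem_P _)
    simpa using inv_mem this
  have h32 : (torS t 3 2 : SLn) ∈ R.HsW :=
    hblock _ _ ne23.symm (Or.inr ⟨⟨ne03.symm, ne13.symm⟩, ne02.symm, ne12.symm⟩)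
  have h12 : (torS t 1 2 : SLn) ∈ R.HsW := by
    rw [torS_tri t (k := (3 : Fin (d + 4)))]; exact mul_mem h13 h32
  refine ⟨?_, h12⟩
  rw [torS_tri t (k := (1 : Fin (d + 4)))]
  exact mul_mem (hblock _ _ ne01 (Or.inl ⟨Or.inl rfl, Or.inr rfl⟩)) h12

/-- Rows `0`, `1` supported in the first two columns. -/
theorem mem_HsW (g : SLn) (h : ∀ x, (x = 0 ∨ x = 1) → ∀ k, k ≠ 0 → k ≠ 1 → g.1 x k = 0) : g ∈ R.HsW := by
  obtain ⟨l, hl01, hl⟩ : ∃ l, (l = 0 ∨ l = 1) ∧ g.1 0 l ≠ 0 := by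
    by_contra hh
    push Not at hh
    have : g.1.det = 0 := Matrix.det_eq_zero_of_row_eq_zero 0 fun k => by
      by_cases hk0 : k = 0
      · exact hh k (Or.inl hk0)
      by_cases hk1 : k = 1
      · exact hh k (Or.inr hk1)
      exact h 0 (Or.inl rfl) k hk0 hk1
    rw [g.2] at this
    exact one_ne_zero this
  have hall : ∀ x y : Fin (d + 4), (x = 0 ∨ x = 1) → (y = 0 ∨ y = 1) → x ≠ y → ∀ c, A x y c ∈ R.HsW :=
    fun x y _ hy hxy c => R.A_mem_HsW hxy (fun e => by rcases hy with rfl | rfl; exacts [e.2.1 rfl, e.2.2 rfl]) c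
  let S : Subgroup SLn :=
    { carrier := {m | ∀ v : Fin (d + 4) → F, (∀ k, k ≠ 0 → k ≠ 1 → v k = 0) →
        (∀ k, k ≠ 0 → k ≠ 1 → (v ᵥ* m.1) k = 0) ∧ ∀ k, k ≠ 0 → k ≠ 1 → (v ᵥ* m⁻¹.1) k = 0}
      one_mem' := fun v hv => ⟨by simpa using hv, by simpa using hv⟩
      mul_mem' := fun {a b} ha hb v hv => ⟨fun k h0 h1 => by
          rw [vecMul_mul_coe]; exact (hb _ (ha v hv).1).1 k h0 h1,
        fun k h0 h1 => by rw [_root_.mul_inv_rev, vecMul_mul_coe]; exact (ha _ (hb v hv).2).2 k h0 h1⟩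
      inv_mem' := fun {a} ha v hv => ⟨(ha v hv).2, by rw [inv_inv]; exact (ha v hv).1⟩ }
  have hsub : ∀ x y : Fin (d + 4), (x = 0 ∨ x = 1) → (y = 0 ∨ y = 1) → x ≠ y → ∀ c, A x y c ∈ R.HsW ⊓ S := by
    refine fun x y hx hy hxy c => ⟨hall x y hx hy hxy c, fun v hv => ?_⟩
    rw [trv_inv hxy]
    refine ⟨fun k h0 h1 => ?_, fun k h0 h1 => ?_⟩ <;>
    · rw [vecMul_trv _ hxy, Pi.add_apply, hv k h0 h1, zero_add, Pi.single_eq_of_ne]
      rcases hy with rfl | rfl <;> assumption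
  obtain ⟨q, hq, eq1, -⟩ := exists_clear (R.HsW ⊓ S) (g.1 0) l 0 hl
    (fun j hj hu c => hsub l j hl01 (by by_contra hj'; rw [not_or] at hj'; exact hu (h 0 (Or.inl rfl) j hj'.1 hj'.2))
      hj.symm c)
    (fun hne => ⟨hsub l 0 hl01 (Or.inl rfl) hne, hsub 0 l (Or.inl rfl) hl01 hne.symm⟩)
  obtain ⟨x, hx⟩ : ∃ x, g.1 0 l = x := ⟨_, rfl⟩
  rw [hx] at eq1 hl
  set g1 := g * q with hg1
  have hrow : ∀ r, g1.1 r = g.1 r ᵥ* q.1 := fun r => by
    rw [hg1, Matrix.SpecialLinearGroup.coe_mul, Matrix.mul_apply_eq_vecMul]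
  have hrow0 : g1.1 0 = Pi.single 0 x := (hrow 0).trans eq1
  have hrow1 : ∀ k, k ≠ 0 → k ≠ 1 → g1.1 1 k = 0 := fun k h0 h1 => by
    rw [hrow]; exact ((Subgroup.mem_inf.1 hq).2 _ (h 1 (Or.inr rfl))).1 k h0 h1
  obtain ⟨y, hy⟩ : ∃ y, g1.1 1 1 = y := ⟨_, rfl⟩
  obtain ⟨z, hz⟩ : ∃ z, g1.1 1 0 = z := ⟨_, rfl⟩
  have hy0 : y ≠ 0 := by
    intro e
    have hv : (Pi.single 1 x - Pi.single 0 z : Fin (d + 4) → F) ᵥ* g1.1 = 0 := by
      funext k
      rw [Matrix.sub_vecMul, Matrix.single_vecMul, Matrix.single_vecMul, Pi.sub_apply]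
      simp only [Matrix.row_apply, hrow0, Pi.smul_apply, smul_eq_mul]
      by_cases hk0 : k = 0
      · subst hk0; rw [hz, Pi.single_eq_same, Pi.zero_apply]; ring
      · rw [Pi.single_eq_of_ne hk0]
        by_cases hk1 : k = 1
        · subst hk1; rw [hy, e]; simp
        · rw [hrow1 k hk0 hk1]; simp
    have := congrFun (vecMul_eq_zero g1 hv) 1
    simp [ne01.symm] at this
    exact hl this
  -- clear the second row
  set g2 := g1 * A 1 0 (-(z / y)) with hg2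
  have hrow2 : ∀ r, g2.1 r = g1.1 r + Pi.single 0 (g1.1 r 1 * -(z / y)) := fun r => by
    rw [hg2, Matrix.SpecialLinearGroup.coe_mul, Matrix.mul_apply_eq_vecMul, vecMul_trv _ ne01.symm]
  have h20 : g2.1 0 = Pi.single 0 x := by
    rw [hrow2, hrow0, Pi.single_eq_of_ne ne01.symm]; simp
  have h21 : g2.1 1 = Pi.single 1 y := by
    funext k
    rw [hrow2, Pi.add_apply, hy]
    by_cases hk0 : k = 0
    · subst hk0; rw [hz, Pi.single_eq_same, Pi.single_eq_of_ne ne01]; field_simp; ring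
    · rw [Pi.single_eq_of_ne hk0, add_zero]
      by_cases hk1 : k = 1
      · subst hk1; rw [hy, Pi.single_eq_same]
      · rw [hrow1 k hk0 hk1, Pi.single_eq_of_ne hk1]
  -- normalise by the torus
  set T : SLn := torS (Units.mk0 x⁻¹ (inv_ne_zero hl)) 0 2 * torS (Units.mk0 y⁻¹ (inv_ne_zero hy0)) 1 2 with hT
  have hTmem : T ∈ R.HsW := mul_mem (R.torS_mem_HsW _).1 (R.torS_mem_HsW _).2
  have hmem : g2 * T ∈ R.HsW := by
    refine mem_of_fix_rows (a := 0) (b := 1) R.HsW ne01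
      (fun i j hij i0 i1 c => R.A_mem_HsW hij (fun e => e.1.elim i0 i1) c) _ fun r hr k => ?_
    have hrk : (g2 * T).1 r = g2.1 r ᵥ* T.1 := by
      rw [Matrix.SpecialLinearGroup.coe_mul, Matrix.mul_apply_eq_vecMul]
    rw [hrk, hT, vecMul_mul_coe]
    show Matrix.vecMul (Matrix.vecMul (g2.1 r) (Matrix.diagonal _)) (Matrix.diagonal _) k = _
    rw [Matrix.vecMul_diagonal, Matrix.vecMul_diagonal]
    rcases hr with rfl | rfl
    · rw [h20]
      by_cases hk : k = 0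
      · subst hk; simp [ne01, ne02, hl]
      · simp [hk, Ne.symm hk]
    · rw [h21]
      by_cases hk : k = 1
      · subst hk; simp [ne01.symm, ne12, hy0]
      · simp [hk, Ne.symm hk]
  have e : g = g2 * T * T⁻¹ * (A 1 0 (-(z / y)))⁻¹ * q⁻¹ := by rw [hg2, hg1]; group
  rw [e]
  exact mul_mem (mul_mem (mul_mem hmem (inv_mem hTmem))
    (inv_mem (hall 1 0 (Or.inr rfl) (Or.inl rfl) ne01.symm _))) (inv_mem (Subgroup.mem_inf.1 hq).1)

/-- The three kinds of columns that the first two rows can be moved to. -/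
theorem exists_decomp {k : ℕ} (hk : 2 * k ≤ d + 4) (g : SLn) :
    ∃ q ∈ R.Qk k, ∃ a b : Fin (d + 4),
      (∀ r, (r = 0 ∨ r = 1) → ∀ j, j ≠ a → j ≠ b → (g * q).1 r j = 0) ∧
      ((1 ≤ k ∧ a = 0 ∧ b = 1) ∨ (1 ≤ k ∧ (b : ℕ) = 2 * k ∧ a = 1) ∨
        (2 * k + 2 ≤ d + 4 ∧ (a : ℕ) = d + 2 ∧ (b : ℕ) = d + 3)) := by
  have hq : ∀ i j : Fin (d + 4), i ≠ j → ¬ ((i : ℕ) < 2 * k ∧ 2 * k ≤ (j : ℕ)) → ∀ c, A i j c ∈ R.Qk k :=
    fun i j hij h c => R.A_mem_Qk hk hij h c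
  have v0 : ((0 : Fin (d + 4)) : ℕ) = 0 := rfl
  have v1 : ((1 : Fin (d + 4)) : ℕ) = 1 := rfl
  -- a second vector after the first one has been moved to a unit vector
  have hsecond : ∀ (u v : Fin (d + 4) → F) (q : SLn) (t : Fin (d + 4)) (c : F), c ≠ 0 → u ᵥ* q.1 = Pi.single t c →
      (∀ x : F, v ≠ x • u) → ∃ v' : Fin (d + 4) → F, v' ≠ 0 ∧ v' t = 0 ∧
        v ᵥ* q.1 = v' + Pi.single t ((v ᵥ* q.1) t) := by
    intro u v q t c hc hu hne
    refine ⟨v ᵥ* q.1 - Pi.single t ((v ᵥ* q.1) t), fun e => ?_, by simp, by abel⟩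
    refine hne ((v ᵥ* q.1) t / c) ?_
    have : (v - ((v ᵥ* q.1) t / c) • u) ᵥ* q.1 = 0 := by
      rw [Matrix.sub_vecMul, Matrix.smul_vecMul, hu, ← Pi.single_smul', smul_eq_mul, div_mul_cancel₀ _ hc]
      exact e
    exact sub_eq_zero.1 (vecMul_eq_zero q this)
  have hind : ∀ r r' : Fin (d + 4), r ≠ r' → ∀ x : F, g.1 r' ≠ x • g.1 r := by
    intro r r' hne x e
    have : (Pi.single r' 1 - Pi.single r x : Fin (d + 4) → F) ᵥ* g.1 = 0 := by
      rw [Matrix.sub_vecMul, Matrix.single_vecMul, Matrix.single_vecMul, one_smul, sub_eq_zero]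
      exact e
    have := congrFun (vecMul_eq_zero g this) r'
    simp [hne.symm] at this
  have hrows : ∀ (q : SLn) (r : Fin (d + 4)), (g * q).1 r = g.1 r ᵥ* q.1 := fun q r => by
    rw [Matrix.SpecialLinearGroup.coe_mul, Matrix.mul_apply_eq_vecMul]
  by_cases hhigh : ∃ r l : Fin (d + 4), (r = 0 ∨ r = 1) ∧ 2 * k ≤ (l : ℕ) ∧ g.1 r l ≠ 0
  · obtain ⟨r, l, hr, hlk, hl⟩ := hhigh
    obtain ⟨r', hr', hne⟩ : ∃ r' : Fin (d + 4), (r' = 0 ∨ r' = 1) ∧ r ≠ r' := by
      rcases hr with rfl | rfl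
      exacts [⟨1, Or.inr rfl, ne01⟩, ⟨0, Or.inl rfl, ne01.symm⟩]
    have hrr : ∀ x, (x = 0 ∨ x = 1) → x = r ∨ x = r' := by
      intro x hx
      rcases hr with rfl | rfl <;> rcases hr' with rfl | rfl <;> first | exact absurd rfl hne | tauto
    set bT : Fin (d + 4) := ⟨d + 3, by omega⟩ with hbT
    have hbT' : (bT : ℕ) = d + 3 := rfl
    obtain ⟨q1, hq1, eu, -⟩ := exists_clear (R.Qk k) (g.1 r) l bT hl
      (fun j hj _ c => hq l j hj.symm (fun e => by omega) c)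
      (fun hne => ⟨hq l bT hne (fun e => by omega), hq bT l hne.symm (fun e => by omega)⟩)
    obtain ⟨v', hv'0, hv't, hv'⟩ := hsecond (g.1 r) (g.1 r') q1 bT _ hl eu (hind r r' hne)
    by_cases hv : ∃ l2 : Fin (d + 4), 2 * k ≤ (l2 : ℕ) ∧ v' l2 ≠ 0
    · obtain ⟨l2, hl2k, hl2⟩ := hv
      have hl2b : l2 ≠ bT := fun e => hl2 (e ▸ hv't)
      have hl2b' : (l2 : ℕ) ≠ d + 3 := fun e => hl2b (Fin.ext (e.trans hbT'.symm))
      set aT : Fin (d + 4) := ⟨d + 2, by omega⟩ with haT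
      have haT' : (aT : ℕ) = d + 2 := rfl
      obtain ⟨q2, hq2, ev, efix⟩ := exists_clear (R.Qk k) v' l2 aT hl2 (fun j hj _ c => hq l2 j hj.symm (fun e => by omega) c)
        (fun hne => ⟨hq l2 aT hne (fun e => by omega), hq aT l2 hne.symm (fun e => by omega)⟩)
      have hfx := efix bT hl2b (Fin.ne_of_val_ne (by omega)) hv't
      refine ⟨q1 * q2, mul_mem hq1 hq2, aT, bT, fun x hx j hja hjb => ?_,
        Or.inr (Or.inr ⟨by omega, haT', hbT'⟩)⟩
      rw [hrows, vecMul_mul_coe]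
      rcases hrr x hx with rfl | rfl
      · rw [eu, hfx, Pi.single_eq_of_ne hjb]
      · rw [hv', Matrix.add_vecMul, ev, hfx, Pi.add_apply, Pi.single_eq_of_ne hja, Pi.single_eq_of_ne hjb,
          add_zero]
    · push Not at hv
      obtain ⟨l2, hl2⟩ := Function.ne_iff.1 hv'0
      have hl2' : v' l2 ≠ 0 := hl2
      have hl2k : (l2 : ℕ) < 2 * k := not_le.1 fun e => hl2' (hv l2 e)
      have hk1 : 1 ≤ k := by omega
      obtain ⟨q2, hq2, ev, efix⟩ := exists_clear (R.Qk k) v' l2 1 hl2'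
        (fun j hj hu c => hq l2 j hj.symm (fun e => hu (hv j e.2)) c)
        (fun hne => ⟨hq l2 1 hne (fun e => by omega), hq 1 l2 hne.symm (fun e => by omega)⟩)
      set bB : Fin (d + 4) := ⟨2 * k, by omega⟩ with hbB
      have hbB' : (bB : ℕ) = 2 * k := rfl
      obtain ⟨q3, hq3, e3, efix3⟩ := exists_clear (R.Qk k) (Pi.single bT (1 : F)) bT bB (by simp)
        (fun j hj hu => absurd (Pi.single_eq_of_ne hj _) hu)
        (fun hne => ⟨hq bT bB hne (fun e => by omega), hq bB bT hne.symm (fun e => by omega)⟩)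
      rw [Pi.single_eq_same] at e3
      have hfx := efix bT (fun e => hl2' (e ▸ hv't)) (Fin.ne_of_val_ne (by omega)) hv't
      have hfx3 := efix3 1 (Fin.ne_of_val_ne (by omega)) (Fin.ne_of_val_ne (by omega))
        (Pi.single_eq_of_ne (Fin.ne_of_val_ne (by omega)) _)
      have e3' : ∀ x : F, (Pi.single bT x : Fin (d + 4) → F) ᵥ* q3.1 = Pi.single bB x := fun x => by
        rw [← mul_one x, ← smul_eq_mul, Pi.single_smul', Matrix.smul_vecMul, e3, ← Pi.single_smul']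
      refine ⟨q1 * q2 * q3, mul_mem (mul_mem hq1 hq2) hq3, 1, bB, fun x hx j hja hjb => ?_,
        Or.inr (Or.inl ⟨hk1, hbB', rfl⟩)⟩
      rw [hrows, vecMul_mul_coe, vecMul_mul_coe]
      rcases hrr x hx with rfl | rfl
      · rw [eu, hfx, e3', Pi.single_eq_of_ne hjb]
      · rw [hv', Matrix.add_vecMul, ev, hfx, Matrix.add_vecMul, hfx3, e3', Pi.add_apply,
          Pi.single_eq_of_ne hja, Pi.single_eq_of_ne hjb, add_zero]
  · push Not at hhigh
    obtain ⟨l, hl⟩ : ∃ l, g.1 0 l ≠ 0 := by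
      by_contra hh
      push Not at hh
      have : g.1.det = 0 := Matrix.det_eq_zero_of_row_eq_zero 0 hh
      rw [g.2] at this
      exact one_ne_zero this
    have hlk : (l : ℕ) < 2 * k := not_le.1 fun e => hl (hhigh 0 l (Or.inl rfl) e)
    have hk1 : 1 ≤ k := by omega
    -- all operations stay among the low columns
    let L : Subgroup SLn :=
      { carrier := {m | ∀ v : Fin (d + 4) → F, (∀ j : Fin (d + 4), 2 * k ≤ (j : ℕ) → v j = 0) →
          (∀ j : Fin (d + 4), 2 * k ≤ (j : ℕ) → (v ᵥ* m.1) j = 0) ∧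
          ∀ j : Fin (d + 4), 2 * k ≤ (j : ℕ) → (v ᵥ* m⁻¹.1) j = 0}
        one_mem' := fun v hv => ⟨by simpa using hv, by simpa using hv⟩
        mul_mem' := fun {a b} ha hb v hv => ⟨fun j hj => by
            rw [vecMul_mul_coe]; exact (hb _ (ha v hv).1).1 j hj,
          fun j hj => by rw [_root_.mul_inv_rev, vecMul_mul_coe]; exact (ha _ (hb v hv).2).2 j hj⟩
        inv_mem' := fun {a} ha v hv => ⟨(ha v hv).2, by rw [inv_inv]; exact (ha v hv).1⟩ }
    have hlow : ∀ i j : Fin (d + 4), i ≠ j → (j : ℕ) < 2 * k → ∀ c, A i j c ∈ R.Qk k ⊓ L := by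
      refine fun i j hij hjk c => ⟨hq i j hij (fun e => by omega) c, fun v hv => ?_⟩
      rw [trv_inv hij]
      refine ⟨fun x hx => ?_, fun x hx => ?_⟩ <;>
      · rw [vecMul_trv _ hij, Pi.add_apply, hv x hx, zero_add,
          Pi.single_eq_of_ne (Fin.ne_of_val_ne (by omega))]
    obtain ⟨q1, hq1, eu, -⟩ := exists_clear (R.Qk k ⊓ L) (g.1 0) l 1 hl
      (fun j hj hu c => hlow l j hj.symm (not_le.1 fun e => hu (hhigh 0 j (Or.inl rfl) e)) c)
      (fun hne => ⟨hlow l 1 hne (by omega), hlow 1 l hne.symm hlk⟩)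
    obtain ⟨v', hv'0, hv't, hv'⟩ := hsecond (g.1 0) (g.1 1) q1 1 _ hl eu (hind 0 1 ne01)
    obtain ⟨l2, hl2⟩ := Function.ne_iff.1 hv'0
    have hl2' : v' l2 ≠ 0 := hl2
    have hsupp : ∀ j : Fin (d + 4), 2 * k ≤ (j : ℕ) → v' j = 0 := by
      intro j hj
      have h1 := ((Subgroup.mem_inf.1 hq1).2 _ (fun j hj => hhigh 1 j (Or.inr rfl) hj)).1 j hj
      rw [hv', Pi.add_apply, Pi.single_eq_of_ne (Fin.ne_of_val_ne (by omega)), add_zero] at h1
      exact h1
    have hl2k : (l2 : ℕ) < 2 * k := not_le.1 fun e => hl2' (hsupp l2 e)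
    obtain ⟨q2, hq2, ev, efix⟩ := exists_clear (R.Qk k) v' l2 0 hl2'
      (fun j hj hu c => hq l2 j hj.symm (fun e => hu (hsupp j e.2)) c)
      (fun hne => ⟨hq l2 0 hne (fun e => by omega), hq 0 l2 hne.symm (fun e => by omega)⟩)
    have hfx := efix 1 (fun e => hl2' (e ▸ hv't)) ne01 hv't
    refine ⟨q1 * q2, mul_mem (Subgroup.mem_inf.1 hq1).1 hq2, 0, 1, fun x hx j hja hjb => ?_,
      Or.inl ⟨hk1, rfl, rfl⟩⟩
    rw [hrows, vecMul_mul_coe]
    rcases hx with rfl | rfl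
    · rw [eu, hfx, Pi.single_eq_of_ne hjb]
    · rw [hv', Matrix.add_vecMul, ev, hfx, Pi.add_apply, Pi.single_eq_of_ne hja, Pi.single_eq_of_ne hjb,
        add_zero]

end DRel

end Cfsg.Agent.Lib.ShortPresDn
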