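import Cfsg.Agent.Lib.ShortPresDn.Rel
import Cfsg.Agent.Lib.Schur.SteinbergSLn

/-!
# Short presentations of `Ω⁺`, part 10: the relations of type `D` from few relations

A homomorphism `ψ` from `SL_n` and one further element `w` with the relations `Base` give the
relations `DRel`: the root elements of the radical are the conjugates of `v = w ψ(x₂₀(1)) w⁻¹`.
-/

set_option autoImplicit false
set_option linter.unusedSectionVars false

namespace Cfsg.Agent.Lib.ShortPresDn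

open Equiv
open Schur.SteinbergSLn (trv trv_rel trv_smul exists_hom_two)
open ShortPresSLn (permHom torS tS torS_weyl torS_tri tS_eq)
open ShortPresSL2 (matU matD matT)

variable {d : ℕ} {F : Type*} [Field F] {G : Type*} [Group G]

local notation "SLn" => Matrix.SpecialLinearGroup (Fin (d + 4)) F
local notation "A" => trv (d + 4) F
local notation "T₂" => (matT : Matrix.SpecialLinearGroup (Fin 2) F)

/-- The transvections of the stabiliser of `e₁ ∧ e₂`. -/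
def InStab (i j : Fin (d + 4)) : Prop := ((i = 1 ∨ i = 2) ∧ (j = 1 ∨ j = 2)) ∨ (j ≠ 1 ∧ j ≠ 2)

/-- The relations between `ψ` and `w`. -/
structure Base (d : ℕ) (F : Type*) [Field F] (G : Type*) [Group G] where
  ψ : Matrix.SpecialLinearGroup (Fin (d + 4)) F →* G
  w : G
  w_A : ∀ i j, i ≠ j → Diag01 i j → ∀ c, Commute w (ψ (trv (d + 4) F i j c))
  v_A : ∀ i j, i ≠ j → InStab i j → ∀ c,
    Commute (w * ψ (trv (d + 4) F 2 0 1) * w⁻¹) (ψ (trv (d + 4) F i j c))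
  w_sq : w * w = ψ (torS (-1) 0 1)
  w_braid : ψ (permHom (d + 4) F cyc) * (w * ψ (tS 2 0) * w⁻¹) * (ψ (permHom (d + 4) F cyc))⁻¹ = w

namespace Base

variable (B : Base d F G)

theorem A_conj {g : SLn} {σ : Perm (Fin (d + 4))} {α : Fin (d + 4) → Fˣ} (hg : Mono g σ α)
    {i j : Fin (d + 4)} (h : i ≠ j) (c : F) :
    B.ψ g * B.ψ (A i j c) * (B.ψ g)⁻¹ =
      B.ψ (A (σ i) (σ j) ((α i : F) * ((α j)⁻¹ : Fˣ) * c)) := by
  rw [← map_inv, ← map_mul, ← map_mul, hg.conj_trv h]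

theorem commute_w_block {g : SLn} {σ : Perm (Fin (d + 4))} {α : Fin (d + 4) → Fˣ} (hg : Mono g σ α)
    (hσ : σ 0 = 0 ∧ σ 1 = 1) (hα : α 0 = 1 ∧ α 1 = 1) : Commute B.w (B.ψ g) := by
  have : g ∈ (Subgroup.centralizer ({B.w} : Set G)).comap B.ψ :=
    mem_of_block_mono (a := 0) (b := 1) ((Subgroup.centralizer ({B.w} : Set G)).comap B.ψ)
      (fun i j hij i0 i1 j0 j1 c => show B.ψ _ ∈ Subgroup.centralizer ({B.w} : Set G) from
      Subgroup.mem_centralizer_singleton_iff.2 (B.w_A i j hij (Or.inr ⟨⟨i0, i1⟩, j0, j1⟩) c).symm.eq)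
      hg hσ hα
  exact (Subgroup.mem_centralizer_singleton_iff.1 this : B.ψ g * B.w = B.w * B.ψ g).symm

theorem w_conj {g : SLn} (h : Commute B.w (B.ψ g)) (x : G) :
    B.ψ g * (B.w * x * B.w⁻¹) * (B.ψ g)⁻¹ = B.w * (B.ψ g * x * (B.ψ g)⁻¹) * B.w⁻¹ := by
  calc B.ψ g * (B.w * x * B.w⁻¹) * (B.ψ g)⁻¹ = (B.ψ g * B.w) * x * (B.w⁻¹ * (B.ψ g)⁻¹) := by group
    _ = (B.w * B.ψ g) * x * ((B.ψ g)⁻¹ * B.w⁻¹) := by rw [h.eq, h.inv_inv.eq]
    _ = _ := by group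

/-- The root subgroup of `e₁ ∧ e₂`. -/
def v (c : F) : G := B.w * B.ψ (A 2 0 c) * B.w⁻¹

theorem v_add (c e : F) : B.v (c + e) = B.v c * B.v e := by
  rw [v, v, v, (trv_rel (F := F) (d + 4)).add 2 0 ne02.symm, map_mul]; group

theorem v_zero : B.v 0 = 1 := by
  have := B.v_add 0 0
  rw [add_zero] at this
  exact left_eq_mul.1 this

theorem torS23_conj_v (l : Fˣ) (c : F) :
    B.ψ (torS l 2 3) * B.v c * (B.ψ (torS l 2 3))⁻¹ = B.v ((l : F) * c) := by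
  have hm := mono_torS (F := F) l (2 : Fin (d + 4)) 3
  rw [v, B.w_conj (B.commute_w_block hm ⟨rfl, rfl⟩ ⟨by simp [ne02, ne03], by simp [ne12, ne13]⟩),
    B.A_conj hm ne02.symm]
  simp [v, ne02, ne03, ne23]

theorem v_commute {i j : Fin (d + 4)} (hij : i ≠ j) (h : InStab i j) (c x : F) :
    Commute (B.v c) (B.ψ (A i j x)) := by
  by_cases hc : c = 0
  · rw [hc, B.v_zero]; exact Commute.one_left _
  set l : Fˣ := Units.mk0 c hc
  have hm := mono_torS (F := F) l (2 : Fin (d + 4)) 3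
  obtain ⟨x', hx'⟩ : ∃ x', B.ψ (A i j x) =
      B.ψ (torS l 2 3) * B.ψ (A i j x') * (B.ψ (torS l 2 3))⁻¹ := by
    refine ⟨(((Pi.mulSingle 2 l * Pi.mulSingle 3 l⁻¹ : Fin (d + 4) → Fˣ) i)⁻¹ : Fˣ) *
      (((Pi.mulSingle 2 l * Pi.mulSingle 3 l⁻¹ : Fin (d + 4) → Fˣ) j : Fˣ) : F) * x, ?_⟩
    rw [B.A_conj hm hij, Perm.one_apply, Perm.one_apply]
    congr 2
    simp only [Units.val_inv_eq_inv_val]
    field_simp
  have hv : B.v c = B.ψ (torS l 2 3) * B.v 1 * (B.ψ (torS l 2 3))⁻¹ := by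
    rw [B.torS23_conj_v, mul_one]; rfl
  rw [hx', hv]
  exact (Commute.conj_iff _).2 (B.v_A i j hij h x')

theorem v_commute_block {g : SLn} {σ : Perm (Fin (d + 4))} {α : Fin (d + 4) → Fˣ} (hg : Mono g σ α)
    (hσ : σ 1 = 1 ∧ σ 2 = 2) (hα : α 1 = 1 ∧ α 2 = 1) (c : F) : Commute (B.v c) (B.ψ g) := by
  have : g ∈ (Subgroup.centralizer ({B.v c} : Set G)).comap B.ψ :=
    mem_of_block_mono (a := 1) (b := 2) ((Subgroup.centralizer ({B.v c} : Set G)).comap B.ψ)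
      (fun i j hij _ _ j1 j2 x => show B.ψ _ ∈ Subgroup.centralizer ({B.v c} : Set G) from
      Subgroup.mem_centralizer_singleton_iff.2 (B.v_commute hij (Or.inr ⟨j1, j2⟩) c x).symm.eq)
      hg hσ hα
  exact (Subgroup.mem_centralizer_singleton_iff.1 this : B.ψ g * B.v c = B.v c * B.ψ g).symm

theorem torS12_conj_v (l : Fˣ) (c : F) :
    B.ψ (torS l 1 2) * B.v c * (B.ψ (torS l 1 2))⁻¹ = B.v c := by
  have h : Commute (B.v c) (B.ψ (torS l 1 2)) := by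
    have e : (torS l 1 2 : SLn) = A 1 2 (l : F) * A 2 1 (-(l : F)⁻¹) * A 1 2 (l : F) * (tS 1 2)⁻¹ := by
      rw [← torS_weyl l ne12, mul_inv_cancel_right]
    have h12 : InStab (1 : Fin (d + 4)) 2 := Or.inl ⟨Or.inl rfl, Or.inr rfl⟩
    have h21 : InStab (2 : Fin (d + 4)) 1 := Or.inl ⟨Or.inr rfl, Or.inl rfl⟩
    rw [e, map_mul, map_mul, map_mul, map_inv, tS_eq ne12, map_mul, map_mul]
    exact (((B.v_commute ne12 h12 c _).mul_right (B.v_commute ne12.symm h21 c _)).mul_right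
      (B.v_commute ne12 h12 c _)).mul_right (((B.v_commute ne12 h12 c _).mul_right
      (B.v_commute ne12.symm h21 c _)).mul_right (B.v_commute ne12 h12 c _)).inv_right
  rw [← h.eq, mul_inv_cancel_right]

theorem exists_mv12 {i j : Fin (d + 4)} (h : i ≠ j) :
    ∃ (g : SLn) (σ : Perm (Fin (d + 4))) (α : Fin (d + 4) → Fˣ),
      Mono g σ α ∧ σ 1 = i ∧ σ 2 = j ∧ α 1 = 1 ∧ α 2 = 1 := by
  obtain ⟨σ, h1, h2⟩ := exists_perm_two (ne12 : (1 : Fin (d + 4)) ≠ 2) h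
  obtain ⟨g, α, hg, hα⟩ := exists_mono_perm (F := F) σ 0
  exact ⟨g, σ, α, hg, h1, h2, hα 1 ne01.symm, hα 2 ne02.symm⟩

/-- The root element of `e_i ∧ e_j`. -/
noncomputable def X (i j : Fin (d + 4)) (c : F) : G :=
  if h : i ≠ j then
    B.ψ (exists_mv12 (F := F) h).choose * B.v c * (B.ψ (exists_mv12 (F := F) h).choose)⁻¹
  else 1

theorem X_spec {g : SLn} {σ : Perm (Fin (d + 4))} {α : Fin (d + 4) → Fˣ} (hg : Mono g σ α)
    {i j : Fin (d + 4)} (h1 : σ 1 = i) (h2 : σ 2 = j) (c : F) :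
    B.ψ g * B.v c * (B.ψ g)⁻¹ = B.X i j ((α 1 : F) * (α 2 : F) * c) := by
  have hij : i ≠ j := h1 ▸ h2 ▸ σ.injective.ne ne12
  rw [X, dif_pos hij]
  obtain ⟨σ', α', hg', k1, k2, b1, b2⟩ := (exists_mv12 (F := F) hij).choose_spec
  set π := (exists_mv12 (F := F) hij).choose
  set D : SLn := torS (α 1 * α 2) 2 3 * torS (α 1) 1 2
  have hD := (mono_torS (F := F) (α 1 * α 2) (2 : Fin (d + 4)) 3).mul (mono_torS (α 1) 1 2)
  have e1 : σ'⁻¹ (σ 1) = 1 := by rw [h1, ← k1, Perm.inv_def, Equiv.symm_apply_apply]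
  have e2 : σ'⁻¹ (σ 2) = 2 := by rw [h2, ← k2, Perm.inv_def, Equiv.symm_apply_apply]
  have hc := B.v_commute_block (hD.inv.mul (hg'.inv.mul hg))
    ⟨by simp [Perm.mul_apply, e1], by simp [Perm.mul_apply, e2]⟩
    ⟨by rw [Perm.inv_def] at e1; simp [e1, b1, ne12, ne13],
     by rw [Perm.inv_def] at e2; simp [e2, b2, ne12.symm, ne23, mul_comm, mul_left_comm]⟩ c
  have e : B.ψ g = B.ψ π * B.ψ D * B.ψ (D⁻¹ * (π⁻¹ * g)) := by
    rw [← map_mul, ← map_mul]; congr 1; group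
  rw [e]
  calc B.ψ π * B.ψ D * B.ψ (D⁻¹ * (π⁻¹ * g)) * B.v c *
        (B.ψ π * B.ψ D * B.ψ (D⁻¹ * (π⁻¹ * g)))⁻¹ =
        B.ψ π * B.ψ D * (B.ψ (D⁻¹ * (π⁻¹ * g)) * B.v c * (B.ψ (D⁻¹ * (π⁻¹ * g)))⁻¹) * (B.ψ D)⁻¹ *
          (B.ψ π)⁻¹ := by group
    _ = B.ψ π * (B.ψ (torS (α 1 * α 2) 2 3) * (B.ψ (torS (α 1) 1 2) * B.v c * (B.ψ (torS (α 1) 1 2))⁻¹) *
          (B.ψ (torS (α 1 * α 2) 2 3))⁻¹) * (B.ψ π)⁻¹ := by
        rw [← hc.eq, mul_inv_cancel_right, show B.ψ D = _ from map_mul B.ψ _ _]; group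
    _ = _ := by rw [B.torS12_conj_v, B.torS23_conj_v, Units.val_mul]

theorem v_eq_X (c : F) : B.v c = B.X 1 2 c := by
  have := B.X_spec Mono.one (i := 1) (j := 2) rfl rfl c
  simpa using this

theorem X_conj {g : SLn} {σ : Perm (Fin (d + 4))} {α : Fin (d + 4) → Fˣ} (hg : Mono g σ α)
    {i j : Fin (d + 4)} (hij : i ≠ j) (t : F) :
    B.ψ g * B.X i j t * (B.ψ g)⁻¹ = B.X (σ i) (σ j) ((α i : F) * (α j : F) * t) := by
  obtain ⟨π, σ', α', hπ, k1, k2, b1, b2⟩ := exists_mv12 (F := F) hij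
  have e := B.X_spec hπ k1 k2 t
  rw [b1, b2, Units.val_one, one_mul, one_mul] at e
  have e' := B.X_spec (hg.mul hπ) (i := σ i) (j := σ j) (by rw [Perm.mul_apply, k1])
    (by rw [Perm.mul_apply, k2]) t
  simp only [k1, k2, b1, b2, mul_one] at e'
  rw [← e, ← e', map_mul]; group

theorem X_swap {i j : Fin (d + 4)} (hij : i ≠ j) (t : F) : B.X j i t = B.X i j (-t) := by
  obtain ⟨π, σ', α', hπ, k1, k2, b1, b2⟩ := exists_mv12 (F := F) hij
  have hm := mono_tS (F := F) (ne12 : (1 : Fin (d + 4)) ≠ 2)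
  have e' := B.X_spec (hπ.mul hm) (i := j) (j := i) (by rw [Perm.mul_apply, Equiv.swap_apply_left, k2])
    (by rw [Perm.mul_apply, Equiv.swap_apply_right, k1]) (-t)
  have h12 : InStab (1 : Fin (d + 4)) 2 := Or.inl ⟨Or.inl rfl, Or.inr rfl⟩
  have h21 : InStab (2 : Fin (d + 4)) 1 := Or.inl ⟨Or.inr rfl, Or.inl rfl⟩
  have hc : Commute (B.v (-t)) (B.ψ (tS 1 2)) := by
    rw [tS_eq ne12, map_mul, map_mul]
    exact ((B.v_commute ne12 h12 _ _).mul_right (B.v_commute ne12.symm h21 _ _)).mul_right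
      (B.v_commute ne12 h12 _ _)
  have e := B.X_spec hπ k1 k2 (-t)
  rw [b1, b2, Units.val_one, one_mul, one_mul] at e
  simp [ne12.symm, b1, b2] at e'
  rw [← e, ← e']
  calc B.ψ π * B.ψ (tS 1 2) * B.v (-t) * ((B.ψ (tS 1 2))⁻¹ * (B.ψ π)⁻¹) =
        B.ψ π * (B.ψ (tS 1 2) * B.v (-t) * (B.ψ (tS 1 2))⁻¹) * (B.ψ π)⁻¹ := by group
    _ = _ := by rw [← hc.eq, mul_inv_cancel_right]

theorem X_add {i j : Fin (d + 4)} (hij : i ≠ j) (s t : F) : B.X i j (s + t) = B.X i j s * B.X i j t := by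
  obtain ⟨π, σ', α', hπ, k1, k2, b1, b2⟩ := exists_mv12 (F := F) hij
  have e := fun u => B.X_spec hπ k1 k2 u
  simp only [b1, b2, Units.val_one, one_mul] at e
  rw [← e, ← e, ← e, B.v_add]; group

theorem w_low0 {j : Fin (d + 4)} (h0 : j ≠ 0) (h1 : j ≠ 1) (c : F) :
    B.w * B.ψ (A j 0 c) * B.w⁻¹ = B.X 1 j c := by
  rcases eq_or_ne j 2 with rfl | h2
  · exact B.v_eq_X c
  obtain ⟨σ, s0, s1, s2⟩ := exists_perm_three (a := (0 : Fin (d + 4))) (b := 1) (c := 2) (i := 0) (j := 1)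
    (k := j) ne01 ne02 ne12 ne01 h0.symm h1.symm
  obtain ⟨τ, α, hτ, hα⟩ := exists_mono_perm (F := F) σ 3
  have e := B.A_conj hτ (ne02.symm : (2 : Fin (d + 4)) ≠ 0) c
  rw [s2, s0, hα 2 ne23, hα 0 ne03] at e
  simp at e
  have e' := B.X_spec hτ s1 s2 c
  rw [hα 1 ne13, hα 2 ne23, Units.val_one, one_mul, one_mul] at e'
  rw [← e, ← B.w_conj (B.commute_w_block hτ ⟨s0, s1⟩ ⟨hα 0 ne03, hα 1 ne13⟩), ← e']
  rfl

theorem commute_w_n01 : Commute B.w (B.ψ (tS 0 1)) := by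
  rw [tS_eq ne01, map_mul, map_mul]
  have h : Diag01 (0 : Fin (d + 4)) 1 := Or.inl ⟨Or.inl rfl, Or.inr rfl⟩
  have h' : Diag01 (1 : Fin (d + 4)) 0 := Or.inl ⟨Or.inr rfl, Or.inl rfl⟩
  exact ((B.w_A _ _ ne01 h _).mul_right (B.w_A _ _ ne01.symm h' _)).mul_right (B.w_A _ _ ne01 h _)

theorem w_low1 {j : Fin (d + 4)} (h0 : j ≠ 0) (h1 : j ≠ 1) (c : F) :
    ∃ c', B.X 0 j c = B.w * B.ψ (A j 1 c') * B.w⁻¹ := by
  have hm := mono_tS (F := F) (ne01 : (0 : Fin (d + 4)) ≠ 1)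
  have e := B.X_conj hm h1.symm c
  rw [Equiv.swap_apply_right, Equiv.swap_apply_of_ne_of_ne h0 h1] at e
  simp [ne01.symm, h0] at e
  have e' := B.A_conj hm h0 c
  rw [Equiv.swap_apply_left, Equiv.swap_apply_of_ne_of_ne h0 h1] at e'
  obtain ⟨c', e''⟩ : ∃ c', B.ψ (tS 0 1) * B.ψ (A j 0 c) * (B.ψ (tS 0 1))⁻¹ = B.ψ (A j 1 c') := ⟨_, e'⟩
  refine ⟨c', ?_⟩
  rw [← e'', ← B.w_conj B.commute_w_n01, B.w_low0 h0 h1, ← e]

theorem commute_same {i j : Fin (d + 4)} (hij : i ≠ j) (s t : F) : Commute (B.X i j s) (B.X i j t) := by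
  show _ * _ = _ * _
  rw [← B.X_add hij, ← B.X_add hij, add_comm]

theorem commute_share {i j l : Fin (d + 4)} (hij : i ≠ j) (hil : i ≠ l) (hjl : j ≠ l) (s t : F) :
    Commute (B.X i j s) (B.X i l t) := by
  obtain ⟨σ, s1, s2, s3⟩ := exists_perm_three (ne12 : (1 : Fin (d + 4)) ≠ 2) ne13 ne23 hij hil hjl
  obtain ⟨g, α, hg, hα⟩ := exists_mono_perm (F := F) σ 0
  have e1 := B.X_conj hg ne12 s
  have e2 := B.X_conj hg ne13 t
  rw [s1, s2, hα 1 ne01.symm, hα 2 ne02.symm, Units.val_one, one_mul, one_mul] at e1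
  rw [s1, s3, hα 1 ne01.symm, hα 3 ne03.symm, Units.val_one, one_mul, one_mul] at e2
  rw [← e1, ← e2]
  refine (Commute.conj_iff _).2 ?_
  rw [← B.v_eq_X, ← B.w_low0 ne03.symm ne13.symm, v]
  exact (Commute.conj_iff _).2 ((trv_commute ne02.symm ne03.symm ne02.symm ne03 _ _).map B.ψ)

theorem commute_disjoint {i j k l : Fin (d + 4)} (hij : i ≠ j) (hik : i ≠ k) (hil : i ≠ l) (hjk : j ≠ k)
    (hjl : j ≠ l) (hkl : k ≠ l) (s t : F) : Commute (B.X i j s) (B.X k l t) := by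
  obtain ⟨σ, s1, s2, s0, s3⟩ := exists_perm_four (ne12 : (1 : Fin (d + 4)) ≠ 2) ne01.symm ne02.symm ne13 ne23
    ne03 hij hik hjk hil hjl hkl
  obtain ⟨g, α, hg, -⟩ := exists_mono_perm (F := F) σ 0
  have e1 := B.X_conj hg ne12 ((((α 1)⁻¹ : Fˣ) : F) * (((α 2)⁻¹ : Fˣ) : F) * s)
  have e2 := B.X_conj hg ne03 ((((α 0)⁻¹ : Fˣ) : F) * (((α 3)⁻¹ : Fˣ) : F) * t)
  rw [s1, s2, show (α 1 : F) * (α 2 : F) * ((((α 1)⁻¹ : Fˣ) : F) * (((α 2)⁻¹ : Fˣ) : F) * s) = s by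
    simp only [Units.val_inv_eq_inv_val]; field_simp] at e1
  rw [s0, s3, show (α 0 : F) * (α 3 : F) * ((((α 0)⁻¹ : Fˣ) : F) * (((α 3)⁻¹ : Fˣ) : F) * t) = t by
    simp only [Units.val_inv_eq_inv_val]; field_simp] at e2
  rw [← e1, ← e2]
  refine (Commute.conj_iff _).2 ?_
  obtain ⟨c', hc'⟩ := B.w_low1 (ne03.symm : (3 : Fin (d + 4)) ≠ 0) ne13.symm
    ((((α 0)⁻¹ : Fˣ) : F) * (((α 3)⁻¹ : Fˣ) : F) * t)
  rw [← B.v_eq_X, hc', v]
  exact (Commute.conj_iff _).2 ((trv_commute ne02.symm ne13.symm ne12.symm ne03 _ _).map B.ψ)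

theorem X_comm (i j k l : Fin (d + 4)) (hij : i ≠ j) (hkl : k ≠ l) (s t : F) :
    Commute (B.X i j s) (B.X k l t) := by
  by_cases h1 : i = k
  · subst h1
    by_cases h2 : j = l
    · subst h2; exact B.commute_same hij s t
    · exact B.commute_share hij hkl h2 s t
  by_cases h2 : i = l
  · subst h2
    rw [B.X_swap hkl.symm]
    by_cases h3 : j = k
    · subst h3; exact B.commute_same hij _ _
    · exact B.commute_share hij hkl.symm h3 _ _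
  by_cases h3 : j = k
  · subst h3
    rw [B.X_swap hij.symm]
    exact B.commute_share hij.symm hkl h2 _ _
  by_cases h4 : j = l
  · subst h4
    rw [B.X_swap hij.symm, B.X_swap hkl.symm]
    exact B.commute_share hij.symm hkl.symm h1 _ _
  exact B.commute_disjoint hij h1 h2 h3 h4 hkl s t

theorem X_fix (a b i j : Fin (d + 4)) (hab : a ≠ b) (hij : i ≠ j)
    (h : (b ≠ i ∧ b ≠ j) ∨ (a = i ∧ b = j)) (s t : F) : Commute (B.ψ (A a b s)) (B.X i j t) := by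
  obtain ⟨π, σ, α, hπ, k1, k2, b1, b2⟩ := exists_mv12 (F := F) hij
  have e := B.X_spec hπ k1 k2 t
  rw [b1, b2, Units.val_one, one_mul, one_mul] at e
  have e' := B.A_conj hπ (σ⁻¹.injective.ne hab)
    ((((α (σ⁻¹ a))⁻¹ : Fˣ) : F) * (α (σ⁻¹ b) : F) * s)
  rw [Perm.inv_def, Equiv.apply_symm_apply, Equiv.apply_symm_apply, ← Perm.inv_def,
    show (α (σ⁻¹ a) : F) * ((α (σ⁻¹ b))⁻¹ : Fˣ) * ((((α (σ⁻¹ a))⁻¹ : Fˣ) : F) * (α (σ⁻¹ b) : F) * s) = s by
      simp only [Units.val_inv_eq_inv_val]; field_simp] at e'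
  rw [← e, ← e']
  refine (Commute.conj_iff _).2 (B.v_commute (σ⁻¹.injective.ne hab) ?_ _ _).symm
  rcases h with ⟨hbi, hbj⟩ | ⟨rfl, rfl⟩
  · refine Or.inr ⟨fun e => hbi ?_, fun e => hbj ?_⟩
    · rw [← k1, ← e, Perm.inv_def, Equiv.apply_symm_apply]
    · rw [← k2, ← e, Perm.inv_def, Equiv.apply_symm_apply]
  · refine Or.inl ⟨Or.inl ?_, Or.inr ?_⟩
    · rw [← k1, Perm.inv_def, Equiv.symm_apply_apply]
    · rw [← k2, Perm.inv_def, Equiv.symm_apply_apply]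

theorem X_act (a b j : Fin (d + 4)) (hab : a ≠ b) (haj : a ≠ j) (hbj : b ≠ j) (s t : F) :
    B.ψ (A a b s) * B.X b j t * (B.ψ (A a b s))⁻¹ = B.X b j t * B.X a j (s * t) := by
  obtain ⟨σ, s3, s2, s1⟩ := exists_perm_three (ne23.symm : (3 : Fin (d + 4)) ≠ 2) ne13.symm ne12.symm
    hab haj hbj
  obtain ⟨g, α, hg, hα⟩ := exists_mono_perm (F := F) σ 0
  have hR : ∀ {p q : Fin (d + 4)}, p ≠ q → p ≠ 0 → q ≠ 0 → ∀ u,
      B.ψ g * B.X p q u * (B.ψ g)⁻¹ = B.X (σ p) (σ q) u := fun {p q} hpq hp hq u => by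
    rw [B.X_conj hg hpq, hα p hp, hα q hq]; simp
  have hA := B.A_conj hg (ne23.symm : (3 : Fin (d + 4)) ≠ 2) s
  rw [s3, s2, hα 3 ne03.symm, hα 2 ne02.symm] at hA
  simp at hA
  rw [← hA, ← s1, ← s2, ← s3, ← hR ne12.symm ne02.symm ne01.symm, ← hR ne13.symm ne03.symm ne01.symm]
  have key : B.ψ (A 3 2 s) * B.X 2 1 t * (B.ψ (A 3 2 s))⁻¹ = B.X 2 1 t * B.X 3 1 (s * t) := by
    rw [B.X_swap ne12, B.X_swap ne13, ← B.w_low0 ne02.symm ne12.symm, ← B.w_low0 ne03.symm ne13.symm]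
    have hc : Commute B.w (B.ψ (A 3 2 s)) :=
      B.w_A _ _ ne23.symm (Or.inr ⟨⟨ne03.symm, ne13.symm⟩, ne02.symm, ne12.symm⟩) s
    rw [B.w_conj hc]
    have e : A 3 2 s * A 2 0 (-t) * (A 3 2 s)⁻¹ = (A 2 0 (-t) * A 3 0 (-(s * t)) : SLn) := by
      rw [mul_inv_eq_iff_eq_mul, (trv_rel (F := F) (d + 4)).chain 3 2 0 ne23.symm ne02.symm ne03.symm,
        mul_neg, (trv_commute ne03.symm ne02.symm ne03.symm ne02 _ _).eq]
    rw [← map_inv, ← map_mul, ← map_mul, e, map_mul]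
    group
  calc B.ψ g * B.ψ (A 3 2 s) * (B.ψ g)⁻¹ * (B.ψ g * B.X 2 1 t * (B.ψ g)⁻¹) *
        (B.ψ g * B.ψ (A 3 2 s) * (B.ψ g)⁻¹)⁻¹ =
        B.ψ g * (B.ψ (A 3 2 s) * B.X 2 1 t * (B.ψ (A 3 2 s))⁻¹) * (B.ψ g)⁻¹ := by group
    _ = _ := by rw [key]; group

theorem w_X (i j : Fin (d + 4)) (hij : i ≠ j) (hi : i ≠ 0 ∧ i ≠ 1) (hj : j ≠ 0 ∧ j ≠ 1) (t : F) :
    Commute B.w (B.X i j t) := by
  have h23 : ∀ u, Commute B.w (B.X 2 3 u) := by
    intro u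
    set l := (permHom (d + 4) F cyc) with hl
    have hm := mono_permHom (F := F) (cyc : alternatingGroup (Fin (d + 4)))
    have e := B.X_conj hm ne03 u
    rw [cyc_zero, cyc_of_ne ne03.symm ne13.symm ne23.symm] at e
    simp at e
    have hb : B.ψ l * (B.w * B.ψ (tS 2 0) * B.w⁻¹) * (B.ψ l)⁻¹ = B.w := B.w_braid
    rw [← e]
    conv => arg 1; rw [← hb]
    refine (Commute.conj_iff _).2 ?_
    obtain ⟨c', hc'⟩ := B.w_low1 (ne03.symm : (3 : Fin (d + 4)) ≠ 0) ne13.symm u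
    rw [hc']
    refine (Commute.conj_iff _).2 ?_
    rw [tS_eq ne02.symm, map_mul, map_mul]
    exact ((((trv_commute ne02.symm ne13.symm ne12.symm ne03 _ _).map B.ψ).mul_left
      ((trv_commute ne02 ne13.symm ne01 ne23 _ _).map B.ψ))).mul_left
      ((trv_commute ne02.symm ne13.symm ne12.symm ne03 _ _).map B.ψ)
  obtain ⟨σ, s0, s1, s2, s3⟩ := exists_perm_four (a := (0 : Fin (d + 4))) (b := 1) (c := 2) (d := 3)
    (i := 0) (j := 1) (k := i) (l := j) ne01 ne02 ne12 ne03 ne13 ne23 ne01 hi.1.symm hi.2.symm hj.1.symm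
    hj.2.symm hij
  obtain ⟨g, α, hg, hα⟩ := exists_mono_perm (F := F) σ 2
  have hc := B.commute_w_block hg ⟨s0, s1⟩ ⟨hα 0 ne02, hα 1 ne12⟩
  have e := B.X_conj hg ne23 ((((α 2)⁻¹ : Fˣ) : F) * t)
  rw [s2, s3, hα 3 ne23.symm, Units.val_one, mul_one, ← mul_assoc, ← Units.val_mul, mul_inv_cancel,
    Units.val_one, one_mul] at e
  have := (Commute.conj_iff (B.ψ g)).2 (h23 ((((α 2)⁻¹ : Fˣ) : F) * t))
  rwa [e, ← hc.eq, mul_inv_cancel_right] at this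

/-- A homomorphism onto the root `SL₂` on the indices `(2, 0)`. -/
theorem exists_e20 [Finite F] : ∃ e : Matrix.SpecialLinearGroup (Fin 2) F →* SLn,
    (∀ t, e (matU t) = A 2 0 t) ∧ ∀ t : Fˣ, e (matD t * T₂) = torS t 2 3 * tS 2 0 * (torS t 2 3)⁻¹ := by
  obtain ⟨e, he⟩ := exists_hom_two (trv_rel (F := F) (d + 4)) (a := (2 : Fin (d + 4))) (b := 0) (k := 1)
    ne02.symm ne12.symm ne01
  have hU : ∀ t, e (matU t) = A 2 0 t := fun t => by
    have h := he 0 1 (by decide) t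
    rw [if_pos rfl, if_neg (by decide)] at h
    rw [← h]; congr 1
    refine Subtype.ext ?_
    ext a b
    fin_cases a <;> fin_cases b <;>
      simp [matU, Matrix.SpecialLinearGroup.transvection_coe, Matrix.transvection, Matrix.one_apply]
  refine ⟨e, hU, fun t => ?_⟩
  have hL : ∀ x : F, ((Matrix.SpecialLinearGroup.transvection (show (1 : Fin 2) ≠ 0 by decide) x :
      Matrix.SpecialLinearGroup (Fin 2) F) : Matrix (Fin 2) (Fin 2) F) = !![1, 0; x, 1] := fun x => by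
    rw [Matrix.SpecialLinearGroup.transvection_coe]
    ext a b
    fin_cases a <;> fin_cases b <;> simp [Matrix.transvection, Matrix.one_apply]
  have h1 : (matD t * T₂ : Matrix.SpecialLinearGroup (Fin 2) F) = matU (t : F) *
      Matrix.SpecialLinearGroup.transvection (show (1 : Fin 2) ≠ 0 by decide) (-(t : F)⁻¹) * matU (t : F) := by
    refine Subtype.ext ?_
    simp only [Matrix.SpecialLinearGroup.coe_mul, hL]
    simp [matD, matT, matU, Units.val_inv_eq_inv_val]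
  have hm := mono_torS (F := F) t (2 : Fin (d + 4)) 3
  rw [h1, map_mul, map_mul, hU, he, if_neg (by decide), if_pos rfl, tS_eq ne02.symm]
  rw [show torS t 2 3 * (A 2 0 1 * A 0 2 (-1) * A 2 0 1) * (torS t 2 3)⁻¹ =
    (torS t 2 3 * A 2 0 1 * (torS t 2 3)⁻¹) * (torS t 2 3 * A 0 2 (-1) * (torS t 2 3)⁻¹) *
      (torS t 2 3 * A 2 0 1 * (torS t 2 3)⁻¹) by group, hm.conj_trv ne02.symm, hm.conj_trv ne02]
  simp [ne02, ne03, ne23, Units.val_inv_eq_inv_val]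

/-- The relations of type `D`. -/
theorem exists_drel [Finite F] : ∃ R : DRel d F G, R.ψ = B.ψ ∧ R.w = B.w ∧
    ∀ g σ α, Mono g σ α → σ 1 = 2 → σ 2 = 1 → ∀ c : F,
      R.X 2 1 ((α 1 : F) * (α 2 : F) * c) = B.ψ g * (B.w * B.ψ (A 2 0 c) * B.w⁻¹) * (B.ψ g)⁻¹ := by
  obtain ⟨e, hU, hT⟩ := exists_e20 (F := F) (d := d)
  set l : G := B.ψ (permHom (d + 4) F cyc) with hl
  let χ : Matrix.SpecialLinearGroup (Fin 2) F →* G :=
    (MulAut.conj (l * B.w)).toMonoidHom.comp (B.ψ.comp e)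
  have hχ : ∀ g, χ g = l * (B.w * B.ψ (e g) * B.w⁻¹) * l⁻¹ := fun g => by
    show l * B.w * B.ψ (e g) * (l * B.w)⁻¹ = _
    group
  have hm := mono_permHom (F := F) (cyc : alternatingGroup (Fin (d + 4)))
  have hT1 : e T₂ = tS 2 0 := by
    have := hT 1
    rwa [ShortPresSL2.matD_one, one_mul, show (torS (1 : Fˣ) 2 3 : SLn) = 1 from
      Linear.sl_ext_single fun k => by rw [ShortPresSLn.torS_single]; simp, one_mul, inv_one, mul_one] at this
  have hw : χ T₂ = B.w := by rw [hχ, hT1]; exact B.w_braid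
  refine ⟨{ ψ := B.ψ, X := B.X, χ := χ,
            X_add := fun i j h s t => B.X_add h s t
            X_swap := fun i j h t => B.X_swap h t
            X_comm := fun i j k l h h' s t => B.X_comm i j k l h h' s t
            X_conj := fun g σ α hg i j h t => B.X_conj hg h t
            X_fix := fun a b i j h h' hh s t => B.X_fix a b i j h h' hh s t
            X_act := fun a b j h h' h'' s t => B.X_act a b j h h' h'' s t
            χ_U := ?_, w_A := ?_, w_X := ?_, w_lo := ?_, w_sq := ?_, w_torus := ?_, w_braid := ?_ },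
    rfl, hw, fun g σ α hg h1 h2 c => (B.X_spec hg h1 h2 c).symm⟩
  · intro t
    have h := B.X_conj hm ne12 t
    rw [cyc_one, cyc_two] at h
    simp only [Pi.one_apply, Units.val_one, one_mul] at h
    rw [hχ, hU, B.w_low0 ne02.symm ne12.symm]
    exact h
  · rw [hw]; exact B.w_A
  · rw [hw]; exact fun i j h hi hj t => B.w_X i j h hi hj t
  · intro j h0 h1 c
    rw [hw, B.w_low0 h0 h1, B.X_swap h1.symm, neg_neg]
  · rw [hw]; exact B.w_sq
  · intro t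
    rw [hw]
    conv_rhs => rw [hχ, hT t, map_mul, map_mul, map_inv]
    have hd : l * B.ψ (torS t 2 3) * l⁻¹ = B.ψ (torS t 1 3) := by
      rw [hl, ← map_inv B.ψ, ← map_mul, ← map_mul, ShortPresSLn.torS_perm, cyc_two,
        cyc_of_ne ne03.symm ne13.symm ne23.symm]
    have hc : Commute B.w (B.ψ (torS t 2 3)) :=
      B.commute_w_block (mono_torS t 2 3) ⟨rfl, rfl⟩ ⟨by simp [ne02, ne03], by simp [ne12, ne13]⟩
    rw [← hd]
    conv_lhs => arg 1; arg 2; rw [← B.w_braid, ← hl]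
    rw [← B.w_conj hc]
    group
  · rw [hw]; exact B.w_braid

end Base

end Cfsg.Agent.Lib.ShortPresDn
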