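import Cfsg.Agent.Lib.ShortPresDn.Criterion

/-!
# Short presentations of `Ω⁺`, part 8: faithfulness of the action
-/

set_option autoImplicit false
set_option linter.unusedSectionVars false

namespace Cfsg.Agent.Lib.ShortPresDn

open Equiv
open Schur.SteinbergSLn (trv trv_rel trv_smul)
open ShortPresSLn (permHom torS tS torS_single)
open ShortPresSL2 (matU matD matT)

variable {F : Type*} [Field F] {d : ℕ}

local notation "SLn" => Matrix.SpecialLinearGroup (Fin (d + 4)) F
/-- The natural module. -/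
abbrev Vec (d : ℕ) (F : Type*) : Type _ := (Fin (d + 4) → F) × (Fin (d + 4) → F)

/-- The action of the Levi subgroup. -/
def actPsi (g : Matrix.SpecialLinearGroup (Fin (d + 4)) F) (v : (Vec d F)) : (Vec d F) :=
  (g • v.1, trp g⁻¹ • v.2)

/-- The action of a root element of the radical. -/
def actX (i j : Fin (d + 4)) (t : F) (v : (Vec d F)) : (Vec d F) :=
  (v.1 + Pi.single i (t * v.2 j) - Pi.single j (t * v.2 i), v.2)

/-- The action of the first Weyl element. -/
def actW (v : (Vec d F)) : (Vec d F) :=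
  (Function.update (Function.update v.1 1 (-v.2 0)) 0 (v.2 1),
    Function.update (Function.update v.2 1 (-v.1 0)) 0 (v.1 1))

variable {G : Type*} [Group G]

theorem trp_diag_smul (f : Fin (d + 4) → F) (h : (Matrix.diagonal f).det = 1) (v : Fin (d + 4) → F) :
    trp (⟨Matrix.diagonal f, h⟩ : SLn) • v = fun k => f k * v k := by
  funext k
  rw [Matrix.SpecialLinearGroup.smul_def]
  show Matrix.mulVec (Matrix.diagonal f).transpose v k = _
  rw [Matrix.diagonal_transpose, Matrix.mulVec_diagonal]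

theorem trp_torS_smul (t : Fˣ) (i j : Fin (d + 4)) (v : Fin (d + 4) → F) :
    trp (torS t i j : SLn) • v = (torS t i j : SLn) • v := by
  funext k
  rw [ShortPresSLn.torS_smul]
  exact congrFun (trp_diag_smul _ _ v) k

theorem torS_inv (t : Fˣ) (i j : Fin (d + 4)) : (torS t i j : SLn)⁻¹ = torS t⁻¹ i j := by
  refine inv_eq_of_mul_eq_one_right ?_
  refine Linear.sl_ext_single fun k => ?_
  rw [mul_smul, torS_single, torS_single, one_smul, mul_one]
  congr 1
  rw [← Units.val_mul, ← Units.val_one]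
  congr 1
  simp only [Pi.mul_apply, Pi.mulSingle_apply]
  split_ifs <;> simp

theorem torS_inv_self : (torS (-1 : Fˣ) (0 : Fin (d + 4)) 1 : SLn) * torS (-1) 0 1 = 1 := by
  refine Linear.sl_ext_single fun k => ?_
  rw [mul_smul, torS_single, torS_single, one_smul, ← mul_assoc, ← Units.val_mul]
  simp only [Pi.mul_apply, Pi.mulSingle_apply, inv_neg, inv_one]
  split_ifs <;> simp

namespace DRel

variable (R : DRel d F G) (ρ : G →* Perm (Vec d F))
  (hψ : ∀ g v, ρ (R.ψ g) v = actPsi g v)
  (hX : ∀ i j, i ≠ j → ∀ t v, ρ (R.X i j t) v = actX i j t v)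
  (hw : ∀ v, ρ R.w v = actW v)

include hψ hX hw

theorem rho_h_left (t : Fˣ) (x : Fin (d + 4) → F) :
    ρ (R.h t) (x, 0) = (fun k => if k = 0 ∨ k = 1 then (t : F) * x k else x k, 0) := by
  set v : (Vec d F) := (fun k => if k = 0 ∨ k = 1 then (t : F) * x k else x k, 0) with hv
  have e : R.h t * (R.w * R.ψ (torS t 1 3)) = R.ψ (torS t 1 3) * R.w := by
    rw [← R.torus_w]; group
  -- every left vector is the image of a vector under `w * ψ`
  set y : (Vec d F) := (ρ (R.w * R.ψ (torS t 1 3)))⁻¹ (x, 0) with hy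
  have hy' : ρ (R.w * R.ψ (torS t 1 3)) y = (x, 0) := Equiv.apply_symm_apply _ _
  have key : ρ (R.h t) (x, 0) = ρ (R.ψ (torS t 1 3) * R.w) y := by
    rw [← e, map_mul ρ (R.h t), Perm.mul_apply, hy']
  rw [key]
  rw [map_mul, Perm.mul_apply, hψ, hw] at hy'
  rw [map_mul, Perm.mul_apply, hψ, hw]
  obtain ⟨u, z⟩ := y
  simp only [actPsi, actW, Prod.mk.injEq, torS_inv, trp_torS_smul] at hy' ⊢
  obtain ⟨h1, h2⟩ := hy'
  refine Prod.ext ?_ ?_
  all_goals funext k
  all_goals simp only [hv, ShortPresSLn.torS_smul]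
  all_goals have a1 := congrFun h1 k
  all_goals have a2 := congrFun h2 k
  all_goals have b1 := congrFun h2 0
  all_goals have b2 := congrFun h2 1
  all_goals simp only [ShortPresSLn.torS_smul, Function.update_apply, Pi.zero_apply] at a1 a2 b1 b2 ⊢
  all_goals
    rcases eq_or_ne k 0 with rfl | h0
    · simp [ne01, ne03, ne13, ne01.symm] at a1 a2 b1 b2 ⊢
      first | (simp_all; done) | (rw [← a1]; field_simp; done) | (rw [← a1]; ring)
    · rcases eq_or_ne k 1 with rfl | h1'
      · simp [ne01, ne03, ne13, ne01.symm] at a1 a2 b1 b2 ⊢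
        first | (simp_all; done) | (rw [← a1]; field_simp; done) | (rw [← a1]; ring)
      · rcases eq_or_ne k 3 with rfl | h3
        · simp [ne01, ne03, ne13, ne03.symm, ne13.symm] at a1 a2 b1 b2 ⊢
          simp_all
        · simp [h0, h1', h3] at a1 a2 b1 b2 ⊢
          simp_all

/-- The vectors with vanishing second component are preserved. -/
theorem P_left {p : G} (hp : p ∈ R.P) (x : Fin (d + 4) → F) : (ρ p (x, 0)).2 = 0 := by
  obtain ⟨t, g, r, hr, rfl⟩ := R.mem_P hp
  have hfix : ρ r (x, 0) = (x, 0) := by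
    have : R.Rad ≤ (MulAction.stabilizer (Perm (Vec d F)) ((x, 0) : (Vec d F))).comap ρ := (Subgroup.closure_le _).2 (by
      rintro _ ⟨i, j, s, hij, rfl⟩
      show ρ (R.X i j s) (x, 0) = (x, 0)
      rw [hX i j hij]
      simp [actX])
    exact this hr
  rw [map_mul, map_mul, Perm.mul_apply, Perm.mul_apply, hfix, hψ]
  show (ρ (R.h t) (g • x, trp g⁻¹ • (0 : Fin (d + 4) → F))).2 = 0
  rw [smul_zero, R.rho_h_left ρ hψ hX hw]

/-- The pairs above the diagonal. -/
abbrev P2 (d : ℕ) : Type := {p : Fin (d + 4) × Fin (d + 4) // p.1 < p.2}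

omit hψ hX hw in
/-- The radical as a homomorphism. -/
noncomputable def Pf : (P2 d → Multiplicative F) →* G :=
  MonoidHom.noncommPiCoprod
    (fun p : P2 d => MonoidHom.mk' (fun t : Multiplicative F => R.X p.1.1 p.1.2 t.toAdd)
      fun s t => by rw [toAdd_mul, R.X_add _ _ (ne_of_lt p.2)])
    fun p q _ s t => R.X_comm _ _ _ _ (ne_of_lt p.2) (ne_of_lt q.2) _ _

omit hψ hX hw in
theorem Rad_le_range : R.Rad ≤ R.Pf.range := by
  classical
  refine (Subgroup.closure_le _).2 ?_
  rintro _ ⟨i, j, t, hij, rfl⟩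
  rcases lt_or_gt_of_ne hij with h | h
  · exact ⟨Pi.mulSingle (⟨(i, j), h⟩ : P2 d) (Multiplicative.ofAdd t),
      MonoidHom.noncommPiCoprod_mulSingle _ _ _⟩
  · exact ⟨Pi.mulSingle (⟨(j, i), h⟩ : P2 d) (Multiplicative.ofAdd (-t)),
      (MonoidHom.noncommPiCoprod_mulSingle _ _ _).trans (R.X_swap j i hij.symm t).symm⟩

theorem rho_Pf (f : P2 d → Multiplicative F) (v : (Vec d F)) :
    ρ (R.Pf f) v = (v.1 + ∑ p : P2 d, (Pi.single p.1.1 ((f p).toAdd * v.2 p.1.2) -
      Pi.single p.1.2 ((f p).toAdd * v.2 p.1.1)), v.2) := by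
  classical
  have : ∀ (s : Finset (P2 d)) (hc),
      ρ (s.noncommProd (fun p => R.X p.1.1 p.1.2 (f p).toAdd) hc) v =
        (v.1 + ∑ p ∈ s, (Pi.single p.1.1 ((f p).toAdd * v.2 p.1.2) -
          Pi.single p.1.2 ((f p).toAdd * v.2 p.1.1)), v.2) := by
    intro s
    induction s using Finset.induction_on with
    | empty => intro hc; simp
    | @insert a s ha ih =>
      intro hc
      rw [Finset.noncommProd_insert_of_notMem _ _ _ _ ha, map_mul, Perm.mul_apply, ih, hX _ _ (ne_of_lt a.2),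
        Finset.sum_insert ha]
      simp only [actX]
      refine Prod.ext ?_ rfl
      simp only
      abel
  exact this Finset.univ fun p _ q _ _ => R.X_comm _ _ _ _ (ne_of_lt p.2) (ne_of_lt q.2) _ _

/-- The criterion. -/
theorem injective (hgen : Subgroup.closure (Set.range R.ψ ∪ {R.w}) = ⊤) : Function.Injective ρ := by
  classical
  rw [injective_iff_map_eq_one]
  intro x hx
  obtain ⟨k, hk, p, hp, p', hp', rfl⟩ := R.cells_eq_univ hgen x
  obtain rfl : k = 0 := by
    by_contra hk0
    have hJ : ρ (R.J k) = ρ (p⁻¹ * p'⁻¹) := by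
      rw [map_mul, map_mul] at hx
      rw [map_mul, map_inv, map_inv, eq_inv_mul_iff_mul_eq]
      exact eq_inv_of_mul_eq_one_left hx
    have h1 : (ρ (R.J k) (Pi.single 0 1, 0)).2 = 0 := by
      rw [hJ]; exact R.P_left ρ hψ hX hw (mul_mem (inv_mem hp) (inv_mem hp')) _
    rw [R.J_eq_tail (by omega), map_mul, Perm.mul_apply] at h1
    have hfix : R.JS ((Finset.range k).erase 0) ∈
        (MulAction.stabilizer (Perm (Vec d F)) ((Pi.single 0 1, 0) : (Vec d F))).comap ρ := by
      refine Subgroup.noncommProd_mem _ _ fun i hi => ?_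
      rw [Finset.mem_erase] at hi
      show ρ (R.Wn i) (Pi.single 0 1, 0) = (Pi.single 0 1, 0)
      unfold Wn
      split_ifs with h
      swap
      · simp
      have hab : (⟨2 * i, by omega⟩ : Fin (d + 4)) ≠ ⟨2 * i + 1, h⟩ := Fin.ne_of_val_ne (by simp)
      obtain ⟨g, σ, α, hg, s0, s1, a0, a1⟩ := exists_mv (F := F) hab
      rw [R.W_eq hg s0 s1 a0 a1, ← map_inv R.ψ, map_mul, map_mul, Perm.mul_apply, Perm.mul_apply, hψ, hψ, hw]
      have hinv := hg.inv 0 (1 : F)
      have hm0 : σ⁻¹ (0 : Fin (d + 4)) ≠ 0 := by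
        rw [Perm.inv_def, Ne, Equiv.symm_apply_eq, s0, Fin.ext_iff]
        simp; omega
      have hm1 : σ⁻¹ (0 : Fin (d + 4)) ≠ 1 := by
        rw [Perm.inv_def, Ne, Equiv.symm_apply_eq, s1, Fin.ext_iff]
        simp
      simp only [actPsi, actW, smul_zero, hinv, Pi.zero_apply, neg_zero, Pi.single_eq_of_ne hm0.symm,
        Pi.single_eq_of_ne hm1.symm]
      rw [Function.update_eq_self_iff.2 (by rw [Function.update_of_ne ne01, Pi.single_eq_of_ne hm0.symm]),
        Function.update_eq_self_iff.2 (Pi.single_eq_of_ne hm1.symm _).symm]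
      refine Prod.ext ?_ ?_
      · show g • Pi.single (σ⁻¹ 0) _ = _
        rw [← hinv, smul_inv_smul]
      · show trp g⁻¹ • _ = (0 : Fin (d + 4) → F)
        rw [Function.update_eq_self_iff.2 (by simp), Function.update_eq_self_iff.2 (by simp), smul_zero]
    rw [show ρ (R.JS ((Finset.range k).erase 0)) (Pi.single 0 1, 0) = (Pi.single 0 1, 0) from hfix, hw] at h1
    have h2 := congrFun h1 1
    simp [actW, ne01.symm] at h2
  rw [R.J_zero, mul_one] at hx ⊢
  obtain ⟨t, g, r, hr, e⟩ := R.mem_P (mul_mem hp hp')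
  rw [e] at hx ⊢
  obtain ⟨f, rfl⟩ := R.Rad_le_range hr
  -- the Levi part
  have hdiag : ∀ v : Fin (d + 4) → F, (fun k => if k = 0 ∨ k = 1 then (t : F) * (g • v) k else (g • v) k) = v := by
    intro v
    have h1 : ρ (R.h t * R.ψ g * R.Pf f) (v, 0) = (v, 0) := by rw [hx]; rfl
    rw [map_mul, map_mul, Perm.mul_apply, Perm.mul_apply, R.rho_Pf ρ hψ hX hw, hψ] at h1
    simp only [actPsi, Pi.zero_apply, mul_zero, Pi.single_zero, sub_zero, Finset.sum_const_zero, add_zero,
      smul_zero, R.rho_h_left ρ hψ hX hw] at h1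
    exact (Prod.ext_iff.1 h1).1
  have hgk : ∀ k v, (g • v : Fin (d + 4) → F) k = (if k = 0 ∨ k = 1 then ((t⁻¹ : Fˣ) : F) else 1) * v k := by
    intro k v
    have := congrFun (hdiag v) k
    by_cases h : k = 0 ∨ k = 1
    · simp only [if_pos h] at this ⊢
      rw [← this, ← mul_assoc, Units.inv_mul, one_mul]
    · simp only [if_neg h] at this ⊢
      rw [this, one_mul]
  have hgmat : g.1 = Matrix.diagonal fun k => if k = 0 ∨ k = 1 then ((t⁻¹ : Fˣ) : F) else 1 := by
    ext a b
    have := hgk a (Pi.single b 1)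
    replace this : Matrix.mulVec g.1 (Pi.single b 1) a =
        (if a = 0 ∨ a = 1 then ((t⁻¹ : Fˣ) : F) else 1) * (Pi.single b 1 : Fin (d + 4) → F) a := this
    rw [Matrix.mulVec_single_one] at this
    rw [Matrix.diagonal_apply]
    by_cases hab : a = b
    · subst hab; simpa using this
    · simpa [hab] using this
  have ht : t * t = 1 := by
    have hdet := g.2
    rw [hgmat, Matrix.det_diagonal, Finset.prod_eq_mul (0 : Fin (d + 4)) 1 ne01
      (fun c _ hc => by simp [hc.1, hc.2]) (by simp) (by simp)] at hdet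
    simp only [true_or, or_true, if_true] at hdet
    have h' : ((t⁻¹ * t⁻¹ : Fˣ) : F) = 1 := by rw [Units.val_mul]; exact hdet
    rw [Units.val_eq_one, ← _root_.mul_inv_rev, inv_eq_one] at h'
    exact h'
  have hg : g = torS t⁻¹ 0 1 := by
    refine Subtype.ext (hgmat.trans ?_)
    show _ = Matrix.diagonal _
    congr 1
    funext k
    rcases eq_or_ne k 0 with rfl | h0
    · simp [ne01]
    rcases eq_or_ne k 1 with rfl | h1
    · simp [ne01.symm, inv_eq_of_mul_eq_one_right ht]
    simp [h0, h1]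
  have hlevi : R.h t * R.ψ g = 1 := by
    have ht' : t = 1 ∨ t = -1 := by
      have h2 : (t : F) * t = 1 := by rw [← Units.val_mul, ht, Units.val_one]
      rcases mul_self_eq_one_iff.1 h2 with e | e
      · exact Or.inl (Units.ext e)
      · exact Or.inr (Units.ext e)
    rcases ht' with rfl | rfl
    · have : (torS (1 : Fˣ) 0 1 : SLn) = 1 := Linear.sl_ext_single fun k => by
        rw [torS_single]; simp
      rw [hg, inv_one, this, map_one, mul_one, h, ShortPresSL2.matD_one, map_one]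
    · rw [hg, inv_neg, inv_one, R.h_neg_one, ← map_mul, torS_inv_self, map_one]
  rw [hlevi, one_mul] at hx ⊢
  have hf : f = 1 := by
    funext q
    have h1 : ρ (R.Pf f) (0, Pi.single q.1.2 1) = (0, Pi.single q.1.2 1) := by rw [hx]; rfl
    rw [R.rho_Pf ρ hψ hX hw] at h1
    have h2 := congrFun (Prod.ext_iff.1 h1).1 q.1.1
    simp only [Pi.add_apply, Pi.zero_apply, zero_add, Finset.sum_apply, Pi.sub_apply] at h2
    rw [Finset.sum_eq_single q] at h2
    · rw [Pi.single_eq_same, Pi.single_eq_same, mul_one, Pi.single_eq_of_ne (ne_of_lt q.2), sub_zero] at h2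
      exact toAdd_eq_zero.1 h2
    · intro b _ hb
      obtain ⟨⟨b1, b2⟩, hb12⟩ := b
      obtain ⟨⟨q1, q2⟩, hq12⟩ := q
      simp only [ne_eq, Subtype.mk.injEq, Prod.mk.injEq] at hb ⊢
      by_cases e1 : q1 = b1
      · have e2 : b2 ≠ q2 := fun e2 => hb ⟨e1.symm, e2⟩
        have e3 : q1 ≠ b2 := fun e => absurd hb12 (by rw [← e1, ← e]; exact lt_irrefl _)
        simp [e2, e3]
      · by_cases e2 : q1 = b2
        · have : b1 ≠ q2 := fun e => by subst e; subst e2; exact absurd (lt_trans hb12 hq12) (lt_irrefl _)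
          simp [e1, this]
        · simp [e1, e2]
    · simp
  rw [hf, map_one]

end DRel

end Cfsg.Agent.Lib.ShortPresDn
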