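import Cfsg.Agent.Lib.ShortPresDn.Rel
import Cfsg.Agent.Lib.ShortPresSLn.TwoGenSL2
import Cfsg.Agent.Lib.Linear.Simple
import Cfsg.Agent.Lib.GenSL.SeedUse

/-!
# Short presentations of `Ω⁺`, part 11: few generators for products of root subgroups
-/

set_option autoImplicit false
set_option linter.unusedSectionVars false

namespace Cfsg.Agent.Lib.ShortPresDn

open Equiv
open scoped commutatorElement
open ShortPresSL2 (matU matD matT mem_of_gens)
open ShortPresSLn (diagTwo ordThree)

variable {F : Type*} [Field F]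

local notation "SL₂" => Matrix.SpecialLinearGroup (Fin 2) F
local notation "T₂" => (matT : Matrix.SpecialLinearGroup (Fin 2) F)

theorem sl2_top (K : Subgroup SL₂) (hU : ∀ t, matU t ∈ K) (hT : T₂ ∈ K) : K = ⊤ := by
  rw [eq_top_iff]
  intro g _
  refine mem_of_gens hU (fun l => ?_) hT g
  have h1 : (matD l : SL₂) * T₂ = matU (l : F) * (T₂ * matU ((l : F)⁻¹) * T₂⁻¹) * matU (l : F) := by
    refine Subtype.ext ?_
    simp only [Matrix.SpecialLinearGroup.coe_mul, Matrix.SpecialLinearGroup.coe_inv]
    simp [matD, matU, matT, Matrix.adjugate_fin_two, Units.val_inv_eq_inv_val]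
  rw [eq_mul_inv_of_mul_eq h1]
  exact mul_mem (mul_mem (mul_mem (hU _) (mul_mem (mul_mem hT (hU _)) (inv_mem hT))) (hU _)) (inv_mem hT)

theorem small_field [Fintype F] (hq : ¬ 4 ≤ Fintype.card F) (x : F) : x = 0 ∨ x = 1 ∨ x = -1 := by
  classical
  by_contra h
  simp only [not_or] at h
  obtain ⟨h0, h1, h2⟩ := h
  by_cases h11 : (-1 : F) = 1
  · have hnx : x + 1 ≠ 0 := fun e => h2 (eq_neg_of_add_eq_zero_left e)
    have hs : ({0, 1, x, x + 1} : Finset F).card = 4 := by
      rw [Finset.card_insert_of_notMem, Finset.card_insert_of_notMem, Finset.card_pair]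
      · exact fun e => one_ne_zero (by linear_combination -e)
      · simp only [Finset.mem_insert, Finset.mem_singleton, not_or]
        exact ⟨Ne.symm h1, fun e => h0 (by linear_combination -e)⟩
      · simp only [Finset.mem_insert, Finset.mem_singleton, not_or]
        exact ⟨zero_ne_one, Ne.symm h0, Ne.symm hnx⟩
    have := Finset.card_le_univ ({0, 1, x, x + 1} : Finset F)
    omega
  · have hs : ({0, 1, -1, x} : Finset F).card = 4 := by
      rw [Finset.card_insert_of_notMem, Finset.card_insert_of_notMem, Finset.card_pair]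
      · exact Ne.symm h2
      · simp only [Finset.mem_insert, Finset.mem_singleton, not_or]
        exact ⟨Ne.symm h11, Ne.symm h1⟩
      · simp only [Finset.mem_insert, Finset.mem_singleton, not_or]
        exact ⟨zero_ne_one, fun e => one_ne_zero (neg_eq_zero.1 e.symm), Ne.symm h0⟩
    have := Finset.card_le_univ ({0, 1, -1, x} : Finset F)
    omega

theorem matU_small [Fintype F] (hq : ¬ 4 ≤ Fintype.card F) {K : Subgroup SL₂} (h : matU 1 ∈ K) (x : F) :
    matU x ∈ K := by
  rcases small_field hq x with rfl | rfl | rfl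
  · rw [ShortPresSL2.matU_zero]; exact one_mem _
  · exact h
  · have : (matU (-1 : F)) = (matU 1)⁻¹ :=
      eq_inv_of_mul_eq_one_left (by rw [← ShortPresSL2.matU_add, neg_add_cancel, ShortPresSL2.matU_zero])
    rw [this]; exact inv_mem h

/-- Generators of `SL₂` of which the first generates normally. -/
theorem exists_sl2_normal [Fintype F] :
    ∃ a b : SL₂, Subgroup.closure ({a, b} : Set SL₂) = ⊤ ∧ Subgroup.normalClosure ({a} : Set SL₂) = ⊤ := by
  by_cases hq : 4 ≤ Fintype.card F
  · obtain ⟨w, hw, h⟩ := ShortPresSLn.exists_two_gen_sl2_diag hq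
    refine ⟨_, _, h, ?_⟩
    set N := Subgroup.normalClosure ({diagTwo w} : Set SL₂)
    have ha : diagTwo w ∈ N := Subgroup.subset_normalClosure rfl
    have hN : N.Normal := Subgroup.normalClosure_normal
    have hc : (w : F) ^ 2 - 1 ≠ 0 := fun e => hw (Units.ext (by
      rw [Units.val_mul, Units.val_one]; linear_combination e))
    have hU : ∀ t : F, matU t ∈ N := fun t => by
      have e : diagTwo w * (matU (t / ((w : F) ^ 2 - 1)) * (diagTwo w)⁻¹ * (matU (t / ((w : F) ^ 2 - 1)))⁻¹) =
          matU t := by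
        refine Subtype.ext ?_
        simp only [Matrix.SpecialLinearGroup.coe_mul, Matrix.SpecialLinearGroup.coe_inv]
        simp [diagTwo, matU, Matrix.adjugate_fin_two, Units.val_inv_eq_inv_val]
        field_simp
        ring
      rw [← e]
      exact mul_mem ha (hN.conj_mem _ (inv_mem ha) _)
    refine sl2_top N hU ?_
    have e : (T₂ : SL₂) = matU 1 * (T₂ * matU 1 * T₂⁻¹) * matU 1 := by
      refine Subtype.ext ?_
      simp only [Matrix.SpecialLinearGroup.coe_mul, Matrix.SpecialLinearGroup.coe_inv]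
      simp [matU, matT, Matrix.adjugate_fin_two]
    rw [e]
    exact mul_mem (mul_mem (hU _) (hN.conj_mem _ (hU _) _)) (hU _)
  · refine ⟨matU 1, T₂, sl2_top _ (matU_small hq (Subgroup.subset_closure (Or.inl rfl)))
      (Subgroup.subset_closure (Or.inr rfl)), ?_⟩
    set N := Subgroup.normalClosure ({matU (1 : F)} : Set SL₂)
    have ha : matU (1 : F) ∈ N := Subgroup.subset_normalClosure rfl
    have hN : N.Normal := Subgroup.normalClosure_normal
    refine sl2_top N (matU_small hq ha) ?_
    have e : (T₂ : SL₂) = matU 1 * (T₂ * matU 1 * T₂⁻¹) * matU 1 := by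
      refine Subtype.ext ?_
      simp only [Matrix.SpecialLinearGroup.coe_mul, Matrix.SpecialLinearGroup.coe_inv]
      simp [matU, matT, Matrix.adjugate_fin_two]
    rw [e]
    exact mul_mem (mul_mem ha (hN.conj_mem _ ha _)) ha

/-- Generators of `SL₂` of which the first has order prime to the characteristic. -/
theorem exists_sl2_semisimple [Fintype F] {p : ℕ} [hp : Fact p.Prime] [CharP F p] :
    ∃ (a b : SL₂) (r : ℕ), Subgroup.closure ({a, b} : Set SL₂) = ⊤ ∧ a ^ r = 1 ∧ Nat.Coprime r p := by
  classical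
  by_cases hq : 4 ≤ Fintype.card F
  · obtain ⟨w, -, h⟩ := ShortPresSLn.exists_two_gen_sl2_diag hq
    refine ⟨_, _, Fintype.card F - 1, h, ?_, ?_⟩
    · have hd : ∀ k : ℕ, diagTwo w ^ k = diagTwo (w ^ k) := by
        intro k
        induction k with
        | zero =>
          rw [pow_zero, pow_zero]
          refine Subtype.ext ?_
          simp [diagTwo, Matrix.one_fin_two]
        | succ k ih =>
          rw [pow_succ, ih]
          refine Subtype.ext ?_
          rw [Matrix.SpecialLinearGroup.coe_mul]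
          simp [diagTwo, pow_succ, mul_comm]
      rw [hd, show w ^ (Fintype.card F - 1) = 1 by
        rw [← Fintype.card_units, pow_card_eq_one]]
      refine Subtype.ext ?_
      simp [diagTwo, Matrix.one_fin_two]
    · obtain ⟨e, -, he⟩ := FiniteField.card F p
      refine Nat.Coprime.symm ((hp.out.coprime_iff_not_dvd).2 fun hd => ?_)
      have hpd : p ∣ Fintype.card F := he ▸ dvd_pow_self p e.ne_zero
      have hpos : 0 < Fintype.card F := Fintype.card_pos
      have h1 : p ∣ 1 := by
        have := Nat.dvd_sub hpd hd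
        rwa [show Fintype.card F - (Fintype.card F - 1) = 1 by omega] at this
      exact hp.out.one_lt.ne' (Nat.dvd_one.1 h1)
  · by_cases h2 : (2 : F) = 0
    · have hp2 : p = 2 := by
        have hd : p ∣ 2 := (CharP.cast_eq_zero_iff F p 2).1 (by exact_mod_cast h2)
        exact (Nat.prime_dvd_prime_iff_eq hp.out Nat.prime_two).1 hd
      set c : SL₂ := T₂ * matU 1
      refine ⟨c, matU 1, 3, sl2_top _ (matU_small hq (Subgroup.subset_closure (Or.inr rfl))) ?_, ?_, ?_⟩
      · have : (T₂ : SL₂) = c * (matU 1)⁻¹ := (mul_inv_cancel_right _ _).symm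
        rw [this]
        exact mul_mem (Subgroup.subset_closure (Or.inl rfl)) (inv_mem (Subgroup.subset_closure (Or.inr rfl)))
      · have hm : (-1 : F) = 1 := by linear_combination -h2
        refine Subtype.ext ?_
        simp only [Matrix.SpecialLinearGroup.coe_pow, c, Matrix.SpecialLinearGroup.coe_mul]
        simp [matT, matU, pow_succ, Matrix.one_fin_two, hm, CharTwo.add_self_eq_zero, show (1 : F) + 1 = 0 by
          linear_combination h2]
      · subst hp2; decide
    · refine ⟨T₂, matU 1, 4, sl2_top _ (matU_small hq (Subgroup.subset_closure (Or.inr rfl)))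
        (Subgroup.subset_closure (Or.inl rfl)), ?_, ?_⟩
      · rw [show (4 : ℕ) = 2 * 2 by norm_num, pow_mul, pow_two (T₂ : SL₂), ShortPresSL2.matT_sq, pow_two,
          ← ShortPresSL2.matD_mul, neg_mul_neg, one_mul, ShortPresSL2.matD_one]
      · refine Nat.Coprime.symm ((hp.out.coprime_iff_not_dvd).2 fun hd => h2 ?_)
        have : p = 2 := (Nat.prime_dvd_prime_iff_eq hp.out Nat.prime_two).1
          (hp.out.dvd_of_dvd_pow (show p ∣ 2 ^ 2 by norm_num; exact hd))
        subst this
        exact_mod_cast CharP.cast_eq_zero F 2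

variable {H : Type*} [Group H]

/-- Three elements generate a product of two groups. -/
theorem three_gen {K L : Type*} [Group K] [Group L] (E : K →* H) (E' : L →* H)
    (hc : ∀ x y, Commute (E x) (E' y)) (M : Subgroup H) (a b : K) (a' b' : L)
    (hab : Subgroup.closure ({a, b} : Set K) = ⊤) (ha : Subgroup.normalClosure ({a} : Set K) = ⊤)
    (hab' : Subgroup.closure ({a', b'} : Set L) = ⊤)
    (h1 : E a ∈ M) (h2 : E b * E' a' ∈ M) (h3 : E' b' ∈ M) : E.range ≤ M ∧ E'.range ≤ M := by
  set S := M.comap E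
  have key : ∀ g, (g = E a ∨ g = E b * E' a') → ∀ x, (x ∈ S ↔ g * E x * g⁻¹ ∈ M) := by
    intro g hg x
    have hgM : g ∈ M := by rcases hg with rfl | rfl <;> assumption
    refine ⟨fun hx => mul_mem (mul_mem hgM hx) (inv_mem hgM), fun hx => ?_⟩
    show E x ∈ M
    have := mul_mem (mul_mem (inv_mem hgM) hx) hgM
    convert this using 1
    group
  have hnorm : Subgroup.closure ({a, b} : Set K) ≤ Subgroup.normalizer (S : Set K) := by
    rw [Subgroup.closure_le]
    rintro k (rfl | rfl)
    · refine Subgroup.mem_normalizer_iff.2 fun x => ?_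
      rw [key _ (Or.inl rfl) x, ← map_inv, ← map_mul, ← map_mul]
      exact Iff.rfl
    · refine Subgroup.mem_normalizer_iff.2 fun x => ?_
      rw [key _ (Or.inr rfl) x, show E k * E' a' * E x * (E k * E' a')⁻¹ = E (k * x * k⁻¹) by
        rw [_root_.mul_inv_rev, map_mul, map_mul, map_inv, mul_assoc (E k) (E' a') (E x), ← (hc x a').eq]
        group]
      exact Iff.rfl
  rw [hab, top_le_iff, Subgroup.normalizer_eq_top_iff] at hnorm
  have hS : S = ⊤ := top_le_iff.1 (ha ▸ Subgroup.normalClosure_le_normal (Set.singleton_subset_iff.2 h1))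
  have hE : ∀ x, E x ∈ M := fun x => show x ∈ S from hS ▸ Subgroup.mem_top x
  refine ⟨by rintro _ ⟨x, rfl⟩; exact hE x, ?_⟩
  rw [MonoidHom.range_eq_map, ← hab', MonoidHom.map_closure, Subgroup.closure_le]
  rintro _ ⟨x, rfl | rfl, rfl⟩
  · have := mul_mem (inv_mem (hE b)) h2
    rwa [inv_mul_cancel_left] at this
  · exact h3

/-- Two elements generate a product of two groups. -/
theorem two_gen {K L : Type*} [Group K] [Group L] (E : K →* H) (E' : L →* H)
    (hc : ∀ x y, Commute (E x) (E' y)) (M : Subgroup H) (c e : K) (u v : L) (r m : ℕ)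
    (hce : Subgroup.closure ({c, e} : Set K) = ⊤) (huv : Subgroup.closure ({u, v} : Set L) = ⊤)
    (hu : Subgroup.normalClosure ({u} : Set L) = ⊤) (hcr : c ^ r = 1) (hum : u ^ m = 1)
    (hrm : Nat.Coprime r m) (h1 : E c * E' u ∈ M) (h2 : E e * E' v ∈ M) : E.range ≤ M ∧ E'.range ≤ M := by
  have hur : E' (u ^ r) ∈ M := by
    have := pow_mem h1 r
    rwa [(hc c u).mul_pow, ← map_pow, ← map_pow, hcr, map_one, one_mul] at this
  set S := M.comap E'
  have hu' : u ∈ S := by
    have hg : (Nat.gcdA r m) * r + (Nat.gcdB r m) * m = 1 := by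
      have := Nat.gcd_eq_gcd_ab r m
      rw [Nat.Coprime.gcd_eq_one hrm] at this
      simp only [Nat.cast_one] at this
      linarith
    have : u = (u ^ r) ^ Nat.gcdA r m := by
      conv_lhs => rw [← zpow_one u, ← hg]
      rw [zpow_add, mul_comm (Nat.gcdB r m) (m : ℤ), mul_comm (Nat.gcdA r m) (r : ℤ), zpow_mul, zpow_mul,
        zpow_natCast, zpow_natCast, hum, one_zpow, mul_one]
    show E' u ∈ M
    rw [this, map_zpow]
    exact zpow_mem hur _
  have key : ∀ g ∈ M, ∀ x, (x ∈ S ↔ g * E' x * g⁻¹ ∈ M) := fun g hgM x => by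
    refine ⟨fun hx => mul_mem (mul_mem hgM hx) (inv_mem hgM), fun hx => ?_⟩
    show E' x ∈ M
    have := mul_mem (mul_mem (inv_mem hgM) hx) hgM
    convert this using 1
    group
  have hconj : ∀ (k : K) (l x : L), E k * E' l * E' x * (E k * E' l)⁻¹ = E' (l * x * l⁻¹) := fun k l x => by
    rw [show E k * E' l * E' x * (E k * E' l)⁻¹ = E k * E' (l * x * l⁻¹) * (E k)⁻¹ by
      rw [map_mul, map_mul, map_inv]; group, (hc k _).eq, mul_inv_cancel_right]
  have hnorm : Subgroup.closure ({u, v} : Set L) ≤ Subgroup.normalizer (S : Set L) := by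
    rw [Subgroup.closure_le]
    rintro k (rfl | rfl)
    · refine Subgroup.mem_normalizer_iff.2 fun x => ?_
      rw [key _ h1 x, hconj]
      exact Iff.rfl
    · refine Subgroup.mem_normalizer_iff.2 fun x => ?_
      rw [key _ h2 x, hconj]
      exact Iff.rfl
  rw [huv, top_le_iff, Subgroup.normalizer_eq_top_iff] at hnorm
  have hS : S = ⊤ := top_le_iff.1 (hu ▸ Subgroup.normalClosure_le_normal (Set.singleton_subset_iff.2 hu'))
  have hE : ∀ x, E' x ∈ M := fun x => show x ∈ S from hS ▸ Subgroup.mem_top x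
  refine ⟨?_, by rintro _ ⟨x, rfl⟩; exact hE x⟩
  rw [MonoidHom.range_eq_map, ← hce, MonoidHom.map_closure, Subgroup.closure_le]
  rintro _ ⟨x, rfl | rfl, rfl⟩
  · have := mul_mem h1 (inv_mem (hE u))
    rwa [mul_inv_cancel_right] at this
  · have := mul_mem h2 (inv_mem (hE v))
    rwa [mul_inv_cancel_right] at this

/-- Regular unipotent generators generate normally. -/
theorem normalClosure_regU {m : ℕ} (hm : 3 ≤ m) {u v : Matrix.SpecialLinearGroup (Fin m) F}
    (huv : Subgroup.closure ({u, v} : Set (Matrix.SpecialLinearGroup (Fin m) F)) = ⊤) :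
    Subgroup.normalClosure ({u} : Set (Matrix.SpecialLinearGroup (Fin m) F)) = ⊤ := by
  set Z := Subgroup.center (Matrix.SpecialLinearGroup (Fin m) F)
  have huZ : u ∉ Z := fun hu => by
    have hab : ∀ x y : Matrix.SpecialLinearGroup (Fin m) F, x * y = y * x := by
      have hv : Subgroup.closure ({u, v} : Set (Matrix.SpecialLinearGroup (Fin m) F)) ≤
          Subgroup.centralizer {v} := by
        rw [Subgroup.closure_le]
        rintro _ (rfl | rfl)
        · exact Subgroup.mem_centralizer_singleton_iff.2 (Subgroup.mem_center_iff.1 hu v).symm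
        · exact Subgroup.mem_centralizer_singleton_iff.2 rfl
      intro x y
      have hy : Subgroup.closure ({u, v} : Set (Matrix.SpecialLinearGroup (Fin m) F)) ≤
          Subgroup.centralizer {x} := by
        rw [Subgroup.closure_le]
        rintro _ (rfl | rfl)
        · exact Subgroup.mem_centralizer_singleton_iff.2 (Subgroup.mem_center_iff.1 hu x).symm
        · exact Subgroup.mem_centralizer_singleton_iff.2
            (Subgroup.mem_centralizer_singleton_iff.1 (hv (huv ▸ Subgroup.mem_top x))).symm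
      exact (Subgroup.mem_centralizer_singleton_iff.1 (hy (huv ▸ Subgroup.mem_top y))).symm
    haveI : Nontrivial (Fin m) := Fin.nontrivial_iff_two_le.2 (by omega)
    have h1 : commutator (Matrix.SpecialLinearGroup (Fin m) F) = ⊤ :=
      Linear.commutator_SL_eq_top_of_three (by simpa using hm)
    have h2 : commutator (Matrix.SpecialLinearGroup (Fin m) F) = ⊥ := by
      rw [eq_bot_iff, commutator_def, Subgroup.commutator_le]
      intro x _ y _
      rw [Subgroup.mem_bot, commutatorElement_eq_one_iff_mul_comm.2 (hab x y)]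
    rw [h2] at h1
    have h3 := Linear.isSimpleGroup_PSL_of_three (F := F) (ι := Fin m) (by simpa using hm)
    obtain ⟨q, q', hne⟩ := exists_pair_ne (Matrix.ProjectiveSpecialLinearGroup (Fin m) F)
    obtain ⟨x, rfl⟩ := QuotientGroup.mk_surjective q
    obtain ⟨y, rfl⟩ := QuotientGroup.mk_surjective q'
    have hx : x = 1 := by rw [← Subgroup.mem_bot, h1]; trivial
    have hy : y = 1 := by rw [← Subgroup.mem_bot, h1]; trivial
    exact hne (by rw [hx, hy])
  set N := Subgroup.normalClosure ({u} : Set (Matrix.SpecialLinearGroup (Fin m) F))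
  haveI := Linear.isSimpleGroup_PSL_of_three (F := F) (ι := Fin m) (by simpa using hm)
  rcases ((Subgroup.Normal.map (Subgroup.normalClosure_normal : N.Normal) (QuotientGroup.mk' Z)
    (QuotientGroup.mk'_surjective Z))).eq_bot_or_eq_top with h | h
  · rw [Subgroup.map_eq_bot_iff, QuotientGroup.ker_mk'] at h
    exact absurd (h (Subgroup.subset_normalClosure rfl)) huZ
  · have hsup : N ⊔ Z = ⊤ := by
      have := congrArg (Subgroup.comap (QuotientGroup.mk' Z)) h
      rwa [Subgroup.comap_map_eq, QuotientGroup.ker_mk', Subgroup.comap_top] at this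
    haveI : N.Normal := Subgroup.normalClosure_normal
    rw [eq_top_iff, ← Linear.commutator_SL_eq_top_of_three (F := F) (ι := Fin m) (by simpa using hm),
      commutator_def, Subgroup.commutator_le]
    intro a _ b _
    obtain ⟨k, hk, z, hz, rfl⟩ := Subgroup.mem_sup_of_normal_left.1 (hsup.symm ▸ Subgroup.mem_top a)
    obtain ⟨k', hk', z', hz', rfl⟩ := Subgroup.mem_sup_of_normal_left.1 (hsup.symm ▸ Subgroup.mem_top b)
    rw [← QuotientGroup.eq_one_iff]
    have ek : (k : Matrix.SpecialLinearGroup (Fin m) F ⧸ N) = 1 := (QuotientGroup.eq_one_iff k).2 hk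
    have ek' : (k' : Matrix.SpecialLinearGroup (Fin m) F ⧸ N) = 1 := (QuotientGroup.eq_one_iff k').2 hk'
    show QuotientGroup.mk' N ⁅k * z, k' * z'⁆ = 1
    rw [map_commutatorElement, map_mul, map_mul, show QuotientGroup.mk' N k = 1 from ek,
      show QuotientGroup.mk' N k' = 1 from ek', one_mul, one_mul, ← map_commutatorElement,
      commutatorElement_eq_one_iff_mul_comm.2 (Subgroup.mem_center_iff.1 hz' z), map_one]

/-- Unipotent elements have `p`-power order. -/
theorem unipotent_pow {m p : ℕ} [Fact p.Prime] [CharP F p] {u : Matrix.SpecialLinearGroup (Fin m) F}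
    (hu : IsNilpotent ((u : Matrix (Fin m) (Fin m) F) - 1)) : ∃ k, u ^ p ^ k = 1 := by
  rcases Nat.eq_zero_or_pos m with rfl | hm
  · exact ⟨0, Subsingleton.elim _ _⟩
  haveI : Nonempty (Fin m) := ⟨⟨0, hm⟩⟩
  obtain ⟨k, hk⟩ := hu
  refine ⟨k, Subtype.ext ?_⟩
  rw [Matrix.SpecialLinearGroup.coe_pow, Matrix.SpecialLinearGroup.coe_one]
  have h1 : ((u : Matrix (Fin m) (Fin m) F) - 1) ^ p ^ k = (u : Matrix (Fin m) (Fin m) F) ^ p ^ k - 1 := by
    rw [sub_pow_char_pow_of_commute (p := p) k (Commute.one_right _), one_pow]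
  have h2 : ((u : Matrix (Fin m) (Fin m) F) - 1) ^ p ^ k = 0 := by
    refine pow_eq_zero_of_le ?_ hk
    exact le_of_lt (Nat.lt_pow_self (Fact.out : p.Prime).one_lt)
  rw [h2] at h1
  exact sub_eq_zero.1 h1.symm

end Cfsg.Agent.Lib.ShortPresDn
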