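import Cfsg.Agent.Lib.ShortPresDn.Faithful
import Cfsg.Agent.Lib.OrthOmega.Simple
import Cfsg.Agent.Lib.OrthStd.Models

/-!
# Short presentations of `Ω⁺`, part 9: the elements of the orthogonal group
-/

set_option autoImplicit false
set_option linter.unusedSectionVars false

namespace Cfsg.Agent.Lib.ShortPresDn

open Equiv QuadraticMap
open Cfsg.Agent.Lib.Forms Cfsg.Agent.Lib.OrthOmega
open Schur.SteinbergSLn (trv trv_rel trv_smul)
open ShortPresSLn (permHom torS tS torS_single)

variable {F : Type*} [Field F] {d : ℕ}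

local notation "SLn" => Matrix.SpecialLinearGroup (Fin (d + 4)) F

/-- The underlying space. -/
abbrev VQ (d : ℕ) (F : Type*) : Type _ := Fin (d + 4) ⊕ Fin (d + 4) → F

/-- The hyperbolic form. -/
abbrev Q (d : ℕ) (F : Type*) [Field F] : QuadraticForm F (VQ d F) := qPlus (d + 4)

/-- The vector `c e_i`. -/
def vl (i : Fin (d + 4)) (c : F) : VQ d F := Pi.single (Sum.inl i) c

/-- The vector `c f_i`. -/
def vr (i : Fin (d + 4)) (c : F) : VQ d F := Pi.single (Sum.inr i) c

@[simp] theorem vl_inl (i j : Fin (d + 4)) (c : F) : vl i c (Sum.inl j) = if j = i then c else 0 := by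
  simp [vl, Pi.single_apply]

@[simp] theorem vl_inr (i j : Fin (d + 4)) (c : F) : vl i c (Sum.inr j) = 0 := by simp [vl]

@[simp] theorem vr_inr (i j : Fin (d + 4)) (c : F) : vr i c (Sum.inr j) = if j = i then c else 0 := by
  simp [vr, Pi.single_apply]

@[simp] theorem vr_inl (i j : Fin (d + 4)) (c : F) : vr i c (Sum.inl j) = 0 := by simp [vr]

theorem smul_vl (a c : F) (i : Fin (d + 4)) : a • vl i c = vl i (a * c) := by
  funext k; rcases k with k | k <;> simp

theorem smul_vr (a c : F) (i : Fin (d + 4)) : a • vr i c = vr i (a * c) := by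
  funext k; rcases k with k | k <;> simp

theorem Q_vl (i : Fin (d + 4)) (c : F) : Q d F (vl i c) = 0 := by
  rw [qPlus_apply]; simp

theorem Q_vr (i : Fin (d + 4)) (c : F) : Q d F (vr i c) = 0 := by
  rw [qPlus_apply]; simp

theorem pol_vl (i : Fin (d + 4)) (c : F) (v : VQ d F) :
    polar (Q d F) (vl i c) v = c * v (Sum.inr i) := by
  rw [qPlus_polar, Finset.sum_eq_single i (fun b _ hb => by simp [hb]) (by simp)]; simp

theorem pol_vr (i : Fin (d + 4)) (c : F) (v : VQ d F) :
    polar (Q d F) (vr i c) v = c * v (Sum.inl i) := by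
  rw [qPlus_polar, Finset.sum_eq_single i (fun b _ hb => by simp [hb]) (by simp)]; simp [mul_comm]

theorem spair_ll (i j : Fin (d + 4)) (a c : F) : SPair (Q d F) (vl i a) (vl j c) :=
  ⟨Q_vl i a, by rw [pol_vl]; simp⟩

theorem spair_rr (i j : Fin (d + 4)) (a c : F) : SPair (Q d F) (vr i a) (vr j c) :=
  ⟨Q_vr i a, by rw [pol_vr]; simp⟩

theorem spair_rl {i j : Fin (d + 4)} (h : i ≠ j) (a c : F) : SPair (Q d F) (vr j a) (vl i c) :=
  ⟨Q_vr j a, by rw [pol_vr]; simp [h.symm]⟩

theorem spair_lr {i j : Fin (d + 4)} (h : i ≠ j) (a c : F) : SPair (Q d F) (vl j a) (vr i c) :=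
  ⟨Q_vl j a, by rw [pol_vl]; simp [h.symm]⟩

/-- An upper root element. -/
noncomputable def Xo (i j : Fin (d + 4)) (t : F) : orth (Q d F) := rho (spair_ll j i (1 : F) t)

/-- A lower root element. -/
noncomputable def Mo (a b : Fin (d + 4)) (s : F) : orth (Q d F) := rho (spair_rr a b (1 : F) s)

/-- A Levi root element. -/
noncomputable def Ao {a b : Fin (d + 4)} (h : a ≠ b) (c : F) : orth (Q d F) :=
  rho (spair_rl h (1 : F) c)

/-- The first Weyl element. -/
noncomputable def wO : orth (Q d F) := Xo 0 1 1 * Mo 0 1 (-1) * Xo 0 1 1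

theorem psi_preserves (g : SLn) (v : VQ d F) :
    Q d F (Sum.elim (g • fun i => v (Sum.inl i)) (trp g⁻¹ • fun i => v (Sum.inr i))) = Q d F v := by
  rw [qPlus_apply, qPlus_apply]
  simp only [Sum.elim_inl, Sum.elim_inr, Matrix.SpecialLinearGroup.smul_def]
  show dotProduct (Matrix.mulVec g.1 _) (Matrix.mulVec (g⁻¹).1.transpose _) = dotProduct _ _
  rw [Matrix.mulVec_transpose, dotProduct_comm, ← Matrix.dotProduct_mulVec, Matrix.mulVec_mulVec,
    ← Matrix.SpecialLinearGroup.coe_mul, inv_mul_cancel, Matrix.SpecialLinearGroup.coe_one,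
    Matrix.one_mulVec, dotProduct_comm]

/-- The Levi subgroup inside the orthogonal group, as a linear map. -/
noncomputable def psiL (g : SLn) : VQ d F →ₗ[F] VQ d F where
  toFun v := Sum.elim (g • fun i => v (Sum.inl i)) (trp g⁻¹ • fun i => v (Sum.inr i))
  map_add' u v := by
    funext k
    rcases k with k | k
    · exact congrFun (smul_add g (fun i => u (Sum.inl i)) fun i => v (Sum.inl i)) k
    · exact congrFun (smul_add (trp g⁻¹) (fun i => u (Sum.inr i)) fun i => v (Sum.inr i)) k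
  map_smul' c v := by
    funext k
    rcases k with k | k
    · exact congrFun ((smul_comm g c fun i => v (Sum.inl i))) k
    · exact congrFun ((smul_comm (trp g⁻¹) c fun i => v (Sum.inr i))) k

theorem psiL_mul (g h : SLn) (v : VQ d F) : psiL (g * h) v = psiL g (psiL h v) := by
  show Sum.elim ((g * h) • _) (trp (g * h)⁻¹ • _) = _
  rw [mul_smul, _root_.mul_inv_rev, trp_mul, mul_smul]
  rfl

theorem psiL_one (v : VQ d F) : psiL (1 : SLn) v = v := by
  show Sum.elim ((1 : SLn) • _) (trp (1 : SLn)⁻¹ • _) = _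
  rw [inv_one, trp_one, one_smul, one_smul]
  funext k; rcases k with k | k <;> rfl

/-- The Levi subgroup inside the orthogonal group. -/
noncomputable def psiO : SLn →* orth (Q d F) :=
  MonoidHom.mk' (fun g => ⟨LinearEquiv.ofLinearMap (psiL g) (psiL g⁻¹)
      (LinearMap.ext fun v => (psiL_mul g g⁻¹ v).symm.trans (by rw [mul_inv_cancel, psiL_one]; rfl))
      (LinearMap.ext fun v => (psiL_mul g⁻¹ g v).symm.trans (by rw [inv_mul_cancel, psiL_one]; rfl)),
      fun v => psi_preserves g v⟩)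
    fun g h => orth_ext fun v => psiL_mul g h v

theorem psiO_apply (g : SLn) (v : VQ d F) :
    (psiO g).1 v = Sum.elim (g • fun i => v (Sum.inl i)) (trp g⁻¹ • fun i => v (Sum.inr i)) := rfl

theorem Xo_apply (i j : Fin (d + 4)) (t : F) (v : VQ d F) :
    (Xo i j t).1 v = v + vl i (t * v (Sum.inr j)) - vl j (t * v (Sum.inr i)) := by
  rw [Xo, rho_apply, pol_vl, pol_vl, Q_vl, zero_mul, add_zero, smul_vl, smul_vl, one_mul, mul_comm _ t,
    mul_one]

theorem Mo_apply (a b : Fin (d + 4)) (s : F) (v : VQ d F) :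
    (Mo a b s).1 v = v + vr b (s * v (Sum.inl a)) - vr a (s * v (Sum.inl b)) := by
  rw [Mo, rho_apply, pol_vr, pol_vr, Q_vr, zero_mul, add_zero, smul_vr, smul_vr, one_mul, mul_comm _ s,
    mul_one]

theorem psiO_trv {a b : Fin (d + 4)} (h : a ≠ b) (c : F) : psiO (trv (d + 4) F a b c) = Ao h c := by
  refine orth_ext fun v => ?_
  rw [psiO_apply, Ao, rho_apply, pol_vr, pol_vl, Q_vl, zero_mul, add_zero, smul_vl, smul_vr, one_mul, mul_one,
    trv_inv h, trp_trv h]
  funext k
  rcases k with k | k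
  · rw [Sum.elim_inl, trv_smul h]
    simp [Pi.single_apply, mul_comm c]
  · rw [Sum.elim_inr, trv_smul h.symm]
    simp [Pi.single_apply, sub_eq_add_neg]
    split_ifs <;> simp

theorem wO_apply (v : VQ d F) : (wO (F := F) (d := d)).1 v =
    Sum.elim (Function.update (Function.update (fun i => v (Sum.inl i)) 1 (-v (Sum.inr 0))) 0 (v (Sum.inr 1)))
      (Function.update (Function.update (fun i => v (Sum.inr i)) 1 (-v (Sum.inl 0))) 0 (v (Sum.inl 1))) := by
  rw [wO, orth_mul_apply, orth_mul_apply, Xo_apply, Mo_apply, Xo_apply]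
  funext k
  rcases k with k | k
  · simp only [Pi.add_apply, Pi.sub_apply, vl_inl, vl_inr, vr_inl, vr_inr, Sum.elim_inl, Function.update_apply]
    by_cases h0 : k = 0
    · subst h0; simp [ne01, ne01.symm]
    by_cases h1 : k = 1
    · subst h1; simp [ne01, ne01.symm]
    simp [h0, h1]
  · simp only [Pi.add_apply, Pi.sub_apply, vl_inl, vl_inr, vr_inl, vr_inr, Sum.elim_inr, Function.update_apply]
    by_cases h0 : k = 0
    · subst h0; simp [ne01, ne01.symm]
    by_cases h1 : k = 1
    · subst h1; simp [ne01, ne01.symm]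
    simp [h0, h1]

theorem wO_vl_other {j : Fin (d + 4)} (h0 : j ≠ 0) (h1 : j ≠ 1) (c : F) :
    (wO (F := F) (d := d)).1 (vl j c) = vl j c := by
  rw [wO_apply]
  funext k
  rcases k with k | k <;> simp [Function.update_apply, h0.symm, h1.symm] <;>
    (split_ifs <;> simp_all)

theorem wO_vr_other {j : Fin (d + 4)} (h0 : j ≠ 0) (h1 : j ≠ 1) (c : F) :
    (wO (F := F) (d := d)).1 (vr j c) = vr j c := by
  rw [wO_apply]
  funext k
  rcases k with k | k <;> simp [Function.update_apply, h0.symm, h1.symm] <;>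
    (split_ifs <;> simp_all)

theorem wO_vr0 (c : F) : (wO (F := F) (d := d)).1 (vr 0 c) = vl 1 (-c) := by
  rw [wO_apply]
  funext k
  rcases k with k | k
  · by_cases hk0 : k = 0
    · subst hk0; simp [ne01, ne01.symm]
    by_cases hk1 : k = 1
    · subst hk1; simp [ne01, ne01.symm]
    simp [Function.update_apply, hk0, hk1]
  · by_cases hk0 : k = 0
    · subst hk0; simp [ne01, ne01.symm]
    by_cases hk1 : k = 1
    · subst hk1; simp [ne01, ne01.symm]
    simp [Function.update_apply, hk0, hk1]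

theorem wO_vl0 (c : F) : (wO (F := F) (d := d)).1 (vl 0 c) = vr 1 (-c) := by
  rw [wO_apply]
  funext k
  rcases k with k | k
  · by_cases hk0 : k = 0
    · subst hk0; simp [ne01, ne01.symm]
    by_cases hk1 : k = 1
    · subst hk1; simp [ne01, ne01.symm]
    simp [Function.update_apply, hk0, hk1]
  · by_cases hk0 : k = 0
    · subst hk0; simp [ne01, ne01.symm]
    by_cases hk1 : k = 1
    · subst hk1; simp [ne01, ne01.symm]
    simp [Function.update_apply, hk0, hk1]

theorem Mono.trp_inv_smul {g : SLn} {σ : Perm (Fin (d + 4))} {α : Fin (d + 4) → Fˣ} (hg : Mono g σ α)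
    (v : Fin (d + 4) → F) (x : Fin (d + 4)) :
    (trp g⁻¹ • v : Fin (d + 4) → F) x = (((α (σ⁻¹ x))⁻¹ : Fˣ) : F) * v (σ⁻¹ x) := by
  rw [Matrix.SpecialLinearGroup.smul_def]
  show ∑ y, (g⁻¹).1 y x * v y = _
  simp only [hg.inv.col, ite_mul, zero_mul]
  rw [Finset.sum_ite_eq' Finset.univ (σ⁻¹ x)]
  simp

theorem psiO_vl {g : SLn} {σ : Perm (Fin (d + 4))} {α : Fin (d + 4) → Fˣ} (hg : Mono g σ α)
    (i : Fin (d + 4)) (c : F) : (psiO g).1 (vl i c) = vl (σ i) ((α i : F) * c) := by
  rw [psiO_apply]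
  funext k
  rcases k with k | k
  · rw [Sum.elim_inl, show (fun j => vl i c (Sum.inl j)) = Pi.single i c by funext j; simp [Pi.single_apply], hg]
    simp [Pi.single_apply]
  · rw [Sum.elim_inr, show (fun j => vl i c (Sum.inr j)) = 0 by funext j; simp, smul_zero]
    simp

theorem psiO_vr {g : SLn} {σ : Perm (Fin (d + 4))} {α : Fin (d + 4) → Fˣ} (hg : Mono g σ α)
    (i : Fin (d + 4)) (c : F) : (psiO g).1 (vr i c) = vr (σ i) (((α i)⁻¹ : Fˣ) * c) := by
  rw [psiO_apply]
  funext k
  rcases k with k | k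
  · rw [Sum.elim_inl, show (fun j => vr i c (Sum.inl j)) = 0 by funext j; simp, smul_zero]
    simp
  · rw [Sum.elim_inr, hg.trp_inv_smul]
    simp only [vr_inr]
    rw [Perm.inv_def]
    by_cases hk : k = σ i
    · subst hk; simp
    · rw [if_neg hk, if_neg (fun e => hk (by rw [← e]; simp)), mul_zero]

theorem rho_scale {e u e' u' : VQ d F} (hu : SPair (Q d F) e u) (hu' : SPair (Q d F) e' u') (t : F)
    (he : e = t • e') (h : t • u = u') : rho hu = rho hu' := by
  subst he
  subst h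
  exact rho_vec_smul hu hu'

theorem Xo_conj {g : SLn} {σ : Perm (Fin (d + 4))} {α : Fin (d + 4) → Fˣ} (hg : Mono g σ α)
    (i j : Fin (d + 4)) (t : F) :
    psiO g * Xo i j t * (psiO g)⁻¹ = Xo (σ i) (σ j) ((α i : F) * (α j : F) * t) := by
  rw [Xo, rho_conj]
  refine rho_scale _ _ (α j : F) ?_ ?_
  · rw [psiO_vl hg, smul_vl]
  · rw [psiO_vl hg, smul_vl]; ring_nf

theorem Mo_conj {g : SLn} {σ : Perm (Fin (d + 4))} {α : Fin (d + 4) → Fˣ} (hg : Mono g σ α)
    (i j : Fin (d + 4)) (t : F) :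
    psiO g * Mo i j t * (psiO g)⁻¹ = Mo (σ i) (σ j) (((α i)⁻¹ : Fˣ) * (((α j)⁻¹ : Fˣ) : F) * t) := by
  rw [Mo, rho_conj]
  refine rho_scale _ _ (((α i)⁻¹ : Fˣ) : F) ?_ ?_
  · rw [psiO_vr hg, smul_vr]
  · rw [psiO_vr hg, smul_vr]; ring_nf

theorem wO_conj_low {j : Fin (d + 4)} (h0 : j ≠ 0) (h1 : j ≠ 1) (c : F) :
    wO * psiO (trv (d + 4) F j 0 c) * (wO (F := F) (d := d))⁻¹ = Xo j 1 (-c) := by
  rw [psiO_trv h0, Ao, rho_conj]
  refine rho_scale _ _ (-1 : F) ?_ ?_
  · rw [wO_vr0, smul_vl]; ring_nf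
  · rw [wO_vl_other h0 h1, smul_vl]; ring_nf

theorem wO_conj_up {j : Fin (d + 4)} (h0 : j ≠ 0) (h1 : j ≠ 1) (c : F) :
    wO * psiO (trv (d + 4) F 0 j c) * (wO (F := F) (d := d))⁻¹ = Mo j 1 (-c) := by
  rw [psiO_trv h0.symm, Ao, rho_conj]
  refine rho_congr _ _ ?_ ?_
  · rw [wO_vr_other h0 h1]
  · rw [wO_vl0]

theorem Xo_swap (i j : Fin (d + 4)) (t : F) : Xo j i t = Xo i j (-t) := by
  refine orth_ext fun v => ?_
  rw [Xo_apply, Xo_apply]
  funext k
  rcases k with k | k <;> simp <;> split_ifs <;> ring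

/-- The action on pairs of coordinate vectors. -/
def pairEquiv (d : ℕ) (F : Type*) : VQ d F ≃ Vec d F := Equiv.sumArrowEquivProdArrow _ _ _

/-- The orthogonal group acting on pairs of coordinate vectors. -/
noncomputable def toPerm : orth (Q d F) →* Perm (Vec d F) :=
  MonoidHom.mk' (fun g => (pairEquiv d F).permCongr g.1.toEquiv) fun g h => Equiv.ext fun v => by
    simp [Equiv.permCongr_apply]

theorem toPerm_apply (g : orth (Q d F)) (v : Vec d F) :
    toPerm g v = pairEquiv d F (g.1 ((pairEquiv d F).symm v)) := rfl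

theorem toPerm_psi (g : SLn) (v : Vec d F) : toPerm (psiO g) v = actPsi g v := rfl

theorem toPerm_X (i j : Fin (d + 4)) (t : F) (v : Vec d F) : toPerm (Xo i j t) v = actX i j t v := by
  obtain ⟨x, y⟩ := v
  rw [toPerm_apply, Xo_apply]
  refine Prod.ext ?_ ?_ <;> funext k <;>
    simp [pairEquiv, Equiv.sumArrowEquivProdArrow, actX, Pi.single_apply]

theorem toPerm_w (v : Vec d F) : toPerm (wO (F := F) (d := d)) v = actW v := by
  obtain ⟨x, y⟩ := v
  rw [toPerm_apply, wO_apply]
  rfl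

theorem Xo_mem (i j : Fin (d + 4)) (t : F) : Xo i j t ∈ EG (Q d F) := rho_mem _

theorem wO_mem : (wO (F := F) (d := d)) ∈ EG (Q d F) :=
  mul_mem (mul_mem (rho_mem _) (rho_mem _)) (rho_mem _)

theorem psiO_mem (g : SLn) : psiO g ∈ EG (Q d F) := by
  have h : (EG (Q d F)).comap psiO = (⊤ : Subgroup SLn) :=
    sl_top _ fun i j hij c => by rw [Subgroup.mem_comap, psiO_trv hij]; exact rho_mem _
  exact (h.symm ▸ Subgroup.mem_top g : g ∈ (EG (Q d F)).comap psiO)

/-- The span of a root subgroup. -/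
theorem rho_mem_of_single (H : Subgroup (orth (Q d F))) {e : VQ d F} (he : Q d F e = 0)
    (u : VQ d F) (hu : ∀ k, u k ≠ 0 → polar (Q d F) e (Pi.single k (u k)) = 0 ∧
      ∀ h : SPair (Q d F) e (Pi.single k (u k)), rho h ∈ H) :
    ∀ h : SPair (Q d F) e u, rho h ∈ H := by
  classical
  have key : ∀ s : Finset (Fin (d + 4) ⊕ Fin (d + 4)), ∃ h : SPair (Q d F) e (∑ k ∈ s, Pi.single k (u k)),
      rho h ∈ H := by
    intro s
    induction s using Finset.induction_on with
    | empty =>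
      refine ⟨by rw [Finset.sum_empty]; exact SPair.zero he, ?_⟩
      rw [rho_congr _ (SPair.zero he) rfl Finset.sum_empty, rho_zero]
      exact one_mem _
    | @insert k s hk ih =>
      obtain ⟨h, hh⟩ := ih
      have e' : ∑ x ∈ insert k s, Pi.single x (u x) = Pi.single k (u k) + ∑ x ∈ s, Pi.single x (u x) :=
        Finset.sum_insert hk
      by_cases h0 : u k = 0
      · have e'' : ∑ x ∈ insert k s, Pi.single x (u x) = ∑ x ∈ s, Pi.single x (u x) := by
          rw [e', h0, Pi.single_zero, zero_add]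
        exact ⟨e''.symm ▸ h, by rw [rho_congr _ h rfl e'']; exact hh⟩
      · have hk' : SPair (Q d F) e (Pi.single k (u k)) := ⟨he, (hu k h0).1⟩
        refine ⟨e'.symm ▸ hk'.add h, ?_⟩
        rw [rho_congr _ (hk'.add h) rfl e', ← rho_mul hk' h]
        exact mul_mem ((hu k h0).2 hk') hh
  intro h
  obtain ⟨h', hh'⟩ := key Finset.univ
  rw [rho_congr h h' rfl (Finset.univ_sum_single u).symm]
  exact hh'

/-- The Levi subgroup and the Weyl element generate. -/
theorem EG_le_gen : EG (Q d F) ≤ Subgroup.closure (Set.range (psiO (F := F) (d := d)) ∪ {wO}) := by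
  set H := Subgroup.closure (Set.range (psiO (F := F) (d := d)) ∪ {wO})
  have hpsi : ∀ g, psiO g ∈ H := fun g => Subgroup.subset_closure (Or.inl ⟨g, rfl⟩)
  have hw : wO ∈ H := Subgroup.subset_closure (Or.inr rfl)
  have hX : ∀ i j : Fin (d + 4), i ≠ j → ∀ t, Xo i j t ∈ H := by
    intro i j hij t
    obtain ⟨σ, s2, s1⟩ := exists_perm_two (ne12.symm : (2 : Fin (d + 4)) ≠ 1) hij
    obtain ⟨g, α, hg, -⟩ := exists_mono_perm (F := F) σ 0
    have h21 : ∀ c, Xo (2 : Fin (d + 4)) 1 c ∈ H := fun c => by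
      have := wO_conj_low (F := F) (d := d) (ne02.symm) (ne12.symm) (-c)
      rw [neg_neg] at this
      rw [← this]
      exact mul_mem (mul_mem hw (hpsi _)) (inv_mem hw)
    have e := Xo_conj hg 2 1 ((((α 2)⁻¹ : Fˣ) : F) * (((α 1)⁻¹ : Fˣ) : F) * t)
    rw [s2, s1] at e
    have he : (α 2 : F) * (α 1 : F) * ((((α 2)⁻¹ : Fˣ) : F) * (((α 1)⁻¹ : Fˣ) : F) * t) = t := by
      simp only [Units.val_inv_eq_inv_val]; field_simp
    rw [he] at e
    rw [← e]
    exact mul_mem (mul_mem (hpsi _) (h21 _)) (inv_mem (hpsi _))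
  have hM : ∀ i j : Fin (d + 4), i ≠ j → ∀ t, Mo i j t ∈ H := by
    intro i j hij t
    obtain ⟨σ, s2, s1⟩ := exists_perm_two (ne12.symm : (2 : Fin (d + 4)) ≠ 1) hij
    obtain ⟨g, α, hg, -⟩ := exists_mono_perm (F := F) σ 0
    have h21 : ∀ c, Mo (2 : Fin (d + 4)) 1 c ∈ H := fun c => by
      have := wO_conj_up (F := F) (d := d) (ne02.symm) (ne12.symm) (-c)
      rw [neg_neg] at this
      rw [← this]
      exact mul_mem (mul_mem hw (hpsi _)) (inv_mem hw)
    have e := Mo_conj hg 2 1 ((α 2 : F) * (α 1 : F) * t)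
    rw [s2, s1] at e
    have he : (((α 2)⁻¹ : Fˣ) : F) * (((α 1)⁻¹ : Fˣ) : F) * ((α 2 : F) * (α 1 : F) * t) = t := by
      simp only [Units.val_inv_eq_inv_val]; field_simp
    rw [he] at e
    rw [← e]
    exact mul_mem (mul_mem (hpsi _) (h21 _)) (inv_mem (hpsi _))
  -- all transformations centred at `e₀`
  have hbase : ∀ (u : VQ d F) (h : SPair (Q d F) (vl 0 1) u), rho h ∈ H := by
    intro u h
    have hu0 : u (Sum.inr 0) = 0 := by
      have := h.perp
      rwa [pol_vl, one_mul] at this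
    refine rho_mem_of_single H h.sing u (fun k hk => ?_) h
    rcases k with k | k
    · refine ⟨by rw [pol_vl]; simp, fun h' => ?_⟩
      rcases eq_or_ne k 0 with rfl | hk0
      · have : rho h' = 1 := by
          refine orth_ext fun v => ?_
          show (rho h').1 v = v
          rw [rho_apply]
          have e : (Pi.single (Sum.inl 0) (u (Sum.inl 0)) : VQ d F) = vl 0 (u (Sum.inl 0)) := rfl
          rw [e, pol_vl, pol_vl, Q_vl, zero_mul, add_zero, smul_vl, smul_vl, one_mul, mul_one, mul_comm]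
          abel
        rw [this]; exact one_mem _
      · exact hX k 0 hk0 (u (Sum.inl k))
    · have hk0 : k ≠ 0 := fun e => hk (e ▸ hu0)
      refine ⟨by rw [pol_vl]; simp [hk0.symm], fun h' => ?_⟩
      have e : rho h' = Ao hk0.symm (-u (Sum.inr k)) := by
        refine orth_ext fun v => ?_
        rw [Ao, rho_apply, rho_apply]
        have e1 : (Pi.single (Sum.inr k) (u (Sum.inr k)) : VQ d F) = vr k (u (Sum.inr k)) := rfl
        rw [e1, pol_vl, pol_vr, pol_vr, pol_vl, Q_vr, Q_vl, zero_mul, add_zero, zero_mul, add_zero]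
        simp only [smul_vl, smul_vr, one_mul, mul_one]
        funext z
        rcases z with z | z <;> simp <;> split_ifs <;> ring
      rw [e, ← psiO_trv]
      exact hpsi _
  -- transitivity on singular vectors
  have htrans : ∀ z : VQ d F, z ≠ 0 → Q d F z = 0 → ∃ g ∈ H, g.1 z = vl 0 1 := by
    intro z hz0 hz
    have h1 : ∀ z : VQ d F, Q d F z = 0 → ∀ i, z (Sum.inl i) ≠ 0 → ∃ g ∈ H, g.1 z = vl 0 1 := by
      intro z hz i hi
      obtain ⟨q, -, hq, -⟩ := exists_clear (⊤ : Subgroup SLn) (fun k => z (Sum.inl k)) i 0 hi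
        (fun _ _ _ _ => Subgroup.mem_top _) (fun _ => ⟨fun _ => Subgroup.mem_top _, fun _ => Subgroup.mem_top _⟩)
      set g := (torS (Units.mk0 _ (inv_ne_zero hi)) 0 1 : SLn) * trp q with hg
      have hgz : (g • fun k => z (Sum.inl k) : Fin (d + 4) → F) = Pi.single 0 1 := by
        rw [hg, mul_smul]
        have e : (trp q • fun k => z (Sum.inl k) : Fin (d + 4) → F) = Pi.single 0 (z (Sum.inl i)) := by
          rw [← hq]
          exact Matrix.mulVec_transpose _ _
        rw [e, torS_single]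
        congr 1
        simp [ne01, hi]
      set z1 := (psiO g).1 z with hz1
      have hz1l : ∀ k, z1 (Sum.inl k) = (Pi.single 0 1 : Fin (d + 4) → F) k := fun k => congrFun hgz k
      have hz10 : z1 (Sum.inr 0) = 0 := by
        have h := ((psiO g).2 z).trans hz
        rw [← hz1, qPlus_apply, Finset.sum_eq_single 0 (fun b _ hb => by rw [hz1l, Pi.single_eq_of_ne hb, zero_mul])
          (by simp), hz1l, Pi.single_eq_same, one_mul] at h
        exact h
      set u : VQ d F := Sum.elim 0 (fun k => -z1 (Sum.inr k)) with hu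
      have hsp : SPair (Q d F) (vr 0 1) u := ⟨Q_vr 0 1, by rw [pol_vr]; simp [hu]⟩
      have hmem : rho hsp ∈ H := by
        refine rho_mem_of_single H (Q_vr 0 1) u (fun k hk => ?_) hsp
        rcases k with k | k
        · simp [hu] at hk
        · have hk0 : k ≠ 0 := fun e => hk (by simp [hu, e, hz10])
          exact ⟨by rw [pol_vr]; simp, fun _ => hM 0 k hk0.symm (u (Sum.inr k))⟩
      refine ⟨rho hsp * psiO g, mul_mem hmem (hpsi _), ?_⟩
      rw [orth_mul_apply, ← hz1, rho_apply, pol_vr, hz1l, Pi.single_eq_same, one_mul, one_smul]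
      have e1 : polar (Q d F) u z1 = 0 := by
        rw [qPlus_polar, Finset.sum_eq_single 0 (fun b _ hb => by simp [hu, hz1l, hb]) (by simp)]
        simp [hu, hz10]
      have e2 : Q d F u = 0 := by rw [qPlus_apply]; simp [hu]
      rw [e1, e2, mul_one, add_zero, zero_smul, sub_zero]
      funext k
      rcases k with k | k <;> simp [hu, hz1l, Pi.single_apply]
    by_cases h : ∃ i, z (Sum.inl i) ≠ 0
    · exact h1 z hz _ h.choose_spec
    · push Not at h
      obtain ⟨a, ha⟩ : ∃ a, z (Sum.inr a) ≠ 0 := by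
        by_contra hh
        push Not at hh
        exact hz0 (funext fun k => by rcases k with k | k; exacts [h k, hh k])
      obtain ⟨b, hba⟩ : ∃ b : Fin (d + 4), b ≠ a := by
        rcases eq_or_ne a 0 with rfl | h0
        · exact ⟨1, ne01.symm⟩
        · exact ⟨0, h0.symm⟩
      have hb : ((Xo b a (1 : F)).1 z) (Sum.inl b) ≠ 0 := by
        rw [Xo_apply]; simp [hba, h b, ha]
      obtain ⟨g, hg, e⟩ := h1 _ (((Xo b a (1 : F)).2 z).trans hz) b hb
      exact ⟨g * Xo b a 1, mul_mem hg (hX b a hba 1), by rw [orth_mul_apply, e]⟩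
  refine EG_le fun e u hu => ?_
  by_cases he : e = 0
  · subst he
    have : rho hu = 1 := orth_ext fun v => by rw [rho_apply]; simp
    rw [this]; exact one_mem _
  obtain ⟨g, hg, hge⟩ := htrans e he hu.sing
  have h := hu.map g
  have h' : SPair (Q d F) (vl 0 1) (g.1 u) := hge ▸ h
  have e1 : g * rho hu * g⁻¹ = rho h' := (rho_conj g hu).trans (rho_congr _ _ hge rfl)
  have : rho hu = g⁻¹ * rho h' * g := by rw [← e1]; group
  rw [this]
  exact mul_mem (mul_mem (inv_mem hg) (hbase _ _)) hg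

theorem five_le : 5 ≤ Module.finrank F (VQ d F) := by
  rw [Module.finrank_fintype_fun_eq_card]; simp; omega

/-- The orthogonal commutator group as generated. -/
noncomputable def omegaIso [Finite F] :
    Cfsg.Omega F (Cfsg.quadFormPlus (d + 4) F) ≃* EG (Q d F) :=
  (omegaEquiv (Q d F) (OrthStd.quadFormPlus_eq (d + 4))).trans
    (MulEquiv.subgroupCongr (commutator_eq_EG (qPlus_nondeg _) five_le))

end Cfsg.Agent.Lib.ShortPresDn
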