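import Cfsg.Agent.Lib.ShortPresDn.Parabolic

/-!
# Short presentations of `Ω⁺`, part 4: Weyl elements of arbitrary pairs and their products
-/

set_option autoImplicit false
set_option linter.unusedSectionVars false

namespace Cfsg.Agent.Lib.ShortPresDn

open Equiv
open Schur.SteinbergSLn (trv trv_rel trv_smul)
open ShortPresSLn (permHom torS tS torS_weyl torS_tri)
open ShortPresSL2 (matU matD matT)

variable {d : ℕ} {F : Type*} [Field F] {G : Type*} [Group G]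

local notation "SLn" => Matrix.SpecialLinearGroup (Fin (d + 4)) F
local notation "A" => trv (d + 4) F

theorem exists_mv {a b : Fin (d + 4)} (h : a ≠ b) :
    ∃ (g : SLn) (σ : Perm (Fin (d + 4))) (α : Fin (d + 4) → Fˣ),
      Mono g σ α ∧ σ 0 = a ∧ σ 1 = b ∧ α 0 = 1 ∧ α 1 = 1 := by
  obtain ⟨σ, h0, h1⟩ := exists_perm_two (ne01 : (0 : Fin (d + 4)) ≠ 1) h
  obtain ⟨g, α, hg, hα⟩ := exists_mono_perm (F := F) σ 2
  exact ⟨g, σ, α, hg, h0, h1, hα 0 ne02, hα 1 ne12⟩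

namespace DRel

variable (R : DRel d F G)

/-- The Weyl element of the pair `(a, b)`. -/
noncomputable def W (a b : Fin (d + 4)) : G :=
  if h : a ≠ b then R.ψ (exists_mv (F := F) h).choose * R.w * (R.ψ (exists_mv (F := F) h).choose)⁻¹
  else 1

theorem W_eq {g : SLn} {σ : Perm (Fin (d + 4))} {α : Fin (d + 4) → Fˣ} (hg : Mono g σ α) {a b : Fin (d + 4)}
    (h0 : σ 0 = a) (h1 : σ 1 = b) (a0 : α 0 = 1) (a1 : α 1 = 1) :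
    R.W a b = R.ψ g * R.w * (R.ψ g)⁻¹ := by
  have hab : a ≠ b := h0 ▸ h1 ▸ σ.injective.ne ne01
  rw [W, dif_pos hab]
  obtain ⟨σ', α', hg', k0, k1, b0, b1⟩ := (exists_mv (F := F) hab).choose_spec
  set g' := (exists_mv (F := F) hab).choose
  have e0 : σ⁻¹ (σ' 0) = 0 := by rw [k0, ← h0, Perm.inv_def, Equiv.symm_apply_apply]
  have e1 : σ⁻¹ (σ' 1) = 1 := by rw [k1, ← h1, Perm.inv_def, Equiv.symm_apply_apply]
  have hc := R.commute_w_block (hg.inv.mul hg') ⟨e0, e1⟩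
    ⟨by simp only [k0, ← h0, Perm.inv_def, Equiv.symm_apply_apply, a0, b0, inv_one, mul_one],
     by simp only [k1, ← h1, Perm.inv_def, Equiv.symm_apply_apply, a1, b1, inv_one, mul_one]⟩
  have : R.ψ g' = R.ψ g * R.ψ (g⁻¹ * g') := by rw [← map_mul, mul_inv_cancel_left]
  rw [this, _root_.mul_inv_rev, show R.ψ g * R.ψ (g⁻¹ * g') * R.w * ((R.ψ (g⁻¹ * g'))⁻¹ * (R.ψ g)⁻¹) =
    R.ψ g * (R.ψ (g⁻¹ * g') * R.w * (R.ψ (g⁻¹ * g'))⁻¹) * (R.ψ g)⁻¹ by group, ← hc.eq,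
    mul_inv_cancel_right]

theorem W_zero_one : R.W 0 1 = R.w := by
  rw [R.W_eq Mono.one (a := 0) (b := 1) rfl rfl rfl rfl]; simp

theorem W_conj {g : SLn} {σ : Perm (Fin (d + 4))} {α : Fin (d + 4) → Fˣ} (hg : Mono g σ α) {a b : Fin (d + 4)}
    (hab : a ≠ b) (ha : α a = 1) (hb : α b = 1) :
    R.ψ g * R.W a b * (R.ψ g)⁻¹ = R.W (σ a) (σ b) := by
  obtain ⟨g', σ', α', hg', k0, k1, b0, b1⟩ := exists_mv (F := F) hab
  rw [R.W_eq hg' k0 k1 b0 b1, R.W_eq (hg.mul hg') (a := σ a) (b := σ b) (by rw [Perm.mul_apply, k0])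
    (by rw [Perm.mul_apply, k1]) (by simp only [k0, ha, b0, mul_one]) (by simp only [k1, hb, b1, mul_one]),
    map_mul]
  group

/-- The pair data: what conjugation by `W` does. -/
theorem W_facts {a b : Fin (d + 4)} (hab : a ≠ b) :
    (∀ i j, i ≠ j → (((i = a ∨ i = b) ∧ (j = a ∨ j = b)) ∨ ((i ≠ a ∧ i ≠ b) ∧ (j ≠ a ∧ j ≠ b))) → ∀ c,
      Commute (R.W a b) (R.ψ (A i j c))) ∧
    (∀ i j, i ≠ j → (i ≠ a ∧ i ≠ b) → (j ≠ a ∧ j ≠ b) → ∀ c, Commute (R.W a b) (R.X i j c)) ∧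
    (∀ i, i ≠ a → i ≠ b → ∀ c,
      (∃ c', (R.W a b)⁻¹ * R.ψ (A i a c) * R.W a b = R.X i b c') ∧
      (∃ c', (R.W a b)⁻¹ * R.ψ (A i b c) * R.W a b = R.X i a c') ∧
      (∃ c', (R.W a b)⁻¹ * R.X i b c * R.W a b = R.ψ (A i a c')) ∧
      (∃ c', (R.W a b)⁻¹ * R.X i a c * R.W a b = R.ψ (A i b c'))) := by
  obtain ⟨g, σ, α, hg, k0, k1, b0, b1⟩ := exists_mv (F := F) hab
  rw [R.W_eq hg k0 k1 b0 b1]
  -- pull back
  have pullA : ∀ i j, i ≠ j → ∀ c, ∃ c', R.ψ (A i j c) =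
      R.ψ g * R.ψ (A (σ⁻¹ i) (σ⁻¹ j) c') * (R.ψ g)⁻¹ := fun i j hij c => by
    obtain ⟨c', hc'⟩ : ∃ c', R.ψ g⁻¹ * R.ψ (A i j c) * (R.ψ g⁻¹)⁻¹ = R.ψ (A (σ⁻¹ i) (σ⁻¹ j) c') :=
      ⟨_, R.A_conj hg.inv hij c⟩
    exact ⟨c', by rw [← hc', map_inv]; group⟩
  have pullX : ∀ i j, i ≠ j → ∀ c, ∃ c', R.X i j c = R.ψ g * R.X (σ⁻¹ i) (σ⁻¹ j) c' * (R.ψ g)⁻¹ :=
    fun i j hij c => by
    obtain ⟨c', hc'⟩ : ∃ c', R.ψ g⁻¹ * R.X i j c * (R.ψ g⁻¹)⁻¹ = R.X (σ⁻¹ i) (σ⁻¹ j) c' :=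
      ⟨_, R.X_conj _ _ _ hg.inv i j hij c⟩
    exact ⟨c', by rw [← hc', map_inv]; group⟩
  have pushA : ∀ i j, i ≠ j → ∀ c, ∃ c', R.ψ g * R.ψ (A (σ⁻¹ i) (σ⁻¹ j) c) * (R.ψ g)⁻¹ = R.ψ (A i j c') :=
    fun i j hij c => by
      refine ⟨(α (σ⁻¹ i) : F) * (((α (σ⁻¹ j))⁻¹ : Fˣ) : F) * c, Eq.trans (R.A_conj hg (σ⁻¹.injective.ne hij) c) ?_⟩
      simp only [Perm.inv_def, Equiv.apply_symm_apply]
  have pushX : ∀ i j, i ≠ j → ∀ c, ∃ c', R.ψ g * R.X (σ⁻¹ i) (σ⁻¹ j) c * (R.ψ g)⁻¹ = R.X i j c' :=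
    fun i j hij c => by
      refine ⟨(α (σ⁻¹ i) : F) * (α (σ⁻¹ j) : F) * c, Eq.trans (R.X_conj _ _ _ hg _ _ (σ⁻¹.injective.ne hij) c) ?_⟩
      simp only [Perm.inv_def, Equiv.apply_symm_apply]
  have ea : σ⁻¹ a = 0 := by rw [← k0, Perm.inv_def, Equiv.symm_apply_apply]
  have eb : σ⁻¹ b = 1 := by rw [← k1, Perm.inv_def, Equiv.symm_apply_apply]
  have hne : ∀ i, i ≠ a → i ≠ b → σ⁻¹ i ≠ 0 ∧ σ⁻¹ i ≠ 1 := fun i h1 h2 =>
    ⟨ea ▸ σ⁻¹.injective.ne h1, eb ▸ σ⁻¹.injective.ne h2⟩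
  have hin : ∀ i, (i = a ∨ i = b) → σ⁻¹ i = 0 ∨ σ⁻¹ i = 1 := by
    rintro i (rfl | rfl)
    exacts [Or.inl ea, Or.inr eb]
  refine ⟨fun i j hij h c => ?_, fun i j hij hi hj c => ?_, fun i hia hib c => ?_⟩
  · obtain ⟨c', e⟩ := pullA i j hij c
    rw [e]
    refine (Commute.conj_iff (R.ψ g)).2 (R.w_A _ _ (σ⁻¹.injective.ne hij) ?_ c')
    rcases h with ⟨hi, hj⟩ | ⟨hi, hj⟩
    exacts [Or.inl ⟨hin i hi, hin j hj⟩, Or.inr ⟨hne i hi.1 hi.2, hne j hj.1 hj.2⟩]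
  · obtain ⟨c', e⟩ := pullX i j hij c
    rw [e]
    exact (Commute.conj_iff (R.ψ g)).2
      (R.w_X _ _ (σ⁻¹.injective.ne hij) (hne i hi.1 hi.2) (hne j hj.1 hj.2) c')
  · obtain ⟨hi0, hi1⟩ := hne i hia hib
    have key : ∀ x : G, (R.ψ g * R.w * (R.ψ g)⁻¹)⁻¹ * (R.ψ g * x * (R.ψ g)⁻¹) *
        (R.ψ g * R.w * (R.ψ g)⁻¹) = R.ψ g * (R.w⁻¹ * x * R.w) * (R.ψ g)⁻¹ := fun x => by group
    refine ⟨?_, ?_, ?_, ?_⟩
    · obtain ⟨c', e⟩ := pullA i a hia c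
      obtain ⟨c'', e'⟩ := pushX i b hib c'
      refine ⟨c'', ?_⟩
      rw [← e', e, key, ea, eb, R.winv_lo hi0 hi1]
    · obtain ⟨c', e⟩ := pullA i b hib c
      obtain ⟨c'', e'⟩ := pushX i a hia (-c')
      refine ⟨c'', ?_⟩
      rw [← e', e, key, ea, eb, R.winv_lo1 hi0 hi1]
    · obtain ⟨c', e⟩ := pullX i b hib c
      obtain ⟨c'', e'⟩ := pushA i a hia (-c')
      refine ⟨c'', ?_⟩
      rw [← e', e, key, ea, eb, R.winv_X1 hi0 hi1]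
    · obtain ⟨c', e⟩ := pullX i a hia c
      obtain ⟨c'', e'⟩ := pushA i b hib c'
      refine ⟨c'', ?_⟩
      rw [← e', e, key, ea, eb, R.winv_X0 hi0 hi1]

/-- The Weyl element of the pair `(1, j)`. -/
theorem W_one_high {j : Fin (d + 4)} (h0 : j ≠ 0) (h1 : j ≠ 1) :
    ∃ n : SLn, R.W 1 j = R.w * R.ψ n * R.w⁻¹ ∧ n = tS j 0 := by
  refine ⟨_, ?_, rfl⟩
  have hW12 : R.W 1 2 = R.w * R.ψ (tS 2 0) * R.w⁻¹ := by
    have hm := (mono_permHom (F := F) (cyc : alternatingGroup (Fin (d + 4)))).inv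
    rw [R.W_eq hm (a := 1) (b := 2) (by rw [Perm.inv_def, Equiv.symm_apply_eq, cyc_one])
      (by rw [Perm.inv_def, Equiv.symm_apply_eq, cyc_two]) (by simp) (by simp), map_inv, inv_inv]
    have e : R.ψ (permHom (d + 4) F cyc) * (R.w * R.ψ (tS 2 0) * R.w⁻¹) *
        (R.ψ (permHom (d + 4) F cyc))⁻¹ = R.w := R.w_braid
    conv_lhs => arg 1; arg 2; rw [← e]
    group
  rcases eq_or_ne j 2 with rfl | hj
  · exact hW12
  -- move `2` to `j`, with a sign at a further place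
  obtain ⟨σ, s0, s1, s2⟩ := exists_perm_three (a := (0 : Fin (d + 4))) (b := 1) (c := 2) (i := 0) (j := 1)
    (k := j) ne01 ne02 ne12 ne01 h0.symm h1.symm
  obtain ⟨τ, α, hτ, hα⟩ := exists_mono_perm (F := F) σ 3
  have hc := R.commute_w_block hτ ⟨s0, s1⟩ ⟨hα 0 ne03, hα 1 ne13⟩
  have hW : R.W 1 j = R.ψ τ * R.W 1 2 * (R.ψ τ)⁻¹ := by
    rw [R.W_conj hτ ne12 (hα 1 ne13) (hα 2 ne23), s1, s2]
  have hn : τ * tS 2 0 * τ⁻¹ = (tS j 0 : SLn) := by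
    rw [ShortPresSLn.tS_eq ne02.symm, ShortPresSLn.tS_eq h0,
      show τ * (A 2 0 1 * A 0 2 (-1) * A 2 0 1) * τ⁻¹ =
        (τ * A 2 0 1 * τ⁻¹) * (τ * A 0 2 (-1) * τ⁻¹) * (τ * A 2 0 1 * τ⁻¹) by group,
      hτ.conj_trv ne02.symm, hτ.conj_trv ne02, s2, s0, hα 0 ne03, hα 2 ne23]
    simp
  rw [hW, hW12, ← hn, map_mul, map_mul, map_inv]
  calc R.ψ τ * (R.w * R.ψ (tS 2 0) * R.w⁻¹) * (R.ψ τ)⁻¹ =
        (R.ψ τ * R.w) * R.ψ (tS 2 0) * (R.w⁻¹ * (R.ψ τ)⁻¹) := by group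
    _ = (R.w * R.ψ τ) * R.ψ (tS 2 0) * ((R.ψ τ)⁻¹ * R.w⁻¹) := by
        rw [← hc.eq, ← hc.inv_inv.eq]
    _ = _ := by group

theorem commute_w_W23 : Commute R.w (R.W 2 3) := by
  obtain ⟨τ, hτdef⟩ : ∃ τ : SLn, τ = tS 0 1 * tS 3 2 := ⟨_, rfl⟩
  have hτ := (mono_tS (F := F) (ne01 : (0 : Fin (d + 4)) ≠ 1)).mul (mono_tS (ne23.symm : (3 : Fin (d + 4)) ≠ 2))
  rw [← hτdef] at hτ
  have hcτ : Commute R.w (R.ψ τ) := by
    have d1 : Diag01 (3 : Fin (d + 4)) 2 := Or.inr ⟨⟨ne03.symm, ne13.symm⟩, ne02.symm, ne12.symm⟩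
    have d0 : Diag01 (2 : Fin (d + 4)) 3 := Or.inr ⟨⟨ne02.symm, ne12.symm⟩, ne03.symm, ne13.symm⟩
    rw [hτdef, map_mul, ShortPresSLn.tS_eq ne23.symm, map_mul, map_mul]
    exact R.commute_w_n01.mul_right
      (((R.w_A _ _ ne23.symm d1 _).mul_right (R.w_A _ _ ne23 d0 _)).mul_right (R.w_A _ _ ne23.symm d1 _))
  have s1 : (Equiv.swap (0 : Fin (d + 4)) 1 * Equiv.swap 3 2 : Perm (Fin (d + 4))) 1 = 0 := by
    rw [Perm.mul_apply, Equiv.swap_apply_of_ne_of_ne ne13 ne12, Equiv.swap_apply_right]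
  have s2 : (Equiv.swap (0 : Fin (d + 4)) 1 * Equiv.swap 3 2 : Perm (Fin (d + 4))) 2 = 3 := by
    rw [Perm.mul_apply, Equiv.swap_apply_right, Equiv.swap_apply_of_ne_of_ne ne03.symm ne13.symm]
  have s0 : (Equiv.swap (0 : Fin (d + 4)) 1 * Equiv.swap 3 2 : Perm (Fin (d + 4))) 0 = 1 := by
    rw [Perm.mul_apply, Equiv.swap_apply_of_ne_of_ne ne03 ne02, Equiv.swap_apply_left]
  obtain ⟨_, hW12, rfl⟩ := R.W_one_high (ne02.symm : (2 : Fin (d + 4)) ≠ 0) ne12.symm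
  have h03 : R.W 0 3 = R.w * R.ψ (τ * tS 2 0 * τ⁻¹) * R.w⁻¹ := by
    have := R.W_conj hτ ne12 (by simp [ne12, ne13, ne01.symm, Equiv.swap_apply_of_ne_of_ne ne13 ne12])
      (by simp [ne23, ne02.symm, ne03.symm])
    rw [s1, s2, hW12] at this
    rw [← this, map_mul, map_mul, map_inv]
    calc R.ψ τ * (R.w * R.ψ (tS 2 0) * R.w⁻¹) * (R.ψ τ)⁻¹ =
          (R.ψ τ * R.w) * R.ψ (tS 2 0) * (R.w⁻¹ * (R.ψ τ)⁻¹) := by group
      _ = (R.w * R.ψ τ) * R.ψ (tS 2 0) * ((R.ψ τ)⁻¹ * R.w⁻¹) := by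
          rw [← hcτ.eq, ← hcτ.inv_inv.eq]
      _ = _ := by group
  -- the two Weyl words of `SL` commute
  have hcomm : Commute (τ * tS 2 0 * τ⁻¹) (tS 2 0) := by
    rw [ShortPresSLn.tS_eq ne02.symm]
    have e : ∀ a b c : SLn, τ * (a * b * c) * τ⁻¹ = (τ * a * τ⁻¹) * (τ * b * τ⁻¹) * (τ * c * τ⁻¹) :=
      fun a b c => by group
    rw [e, hτ.conj_trv ne02.symm, hτ.conj_trv ne02, s2, s0]
    have n31 : (3 : Fin (d + 4)) ≠ 1 := ne13.symm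
    refine Commute.mul_right (Commute.mul_right ?_ ?_) ?_ <;>
      refine Commute.mul_left (Commute.mul_left ?_ ?_) ?_ <;>
      refine trv_commute ?_ ?_ ?_ ?_ _ _ <;>
      simp only [ne_eq, ne01, ne02, ne03, ne12, ne13, ne23, ne01.symm, ne02.symm, ne03.symm, ne12.symm, ne13.symm,
        ne23.symm, not_false_eq_true]
  have hc : Commute (R.W 0 3) (R.W 1 2) := by
    rw [h03, hW12]
    exact (Commute.conj_iff R.w).2 (hcomm.map R.ψ)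
  have := (Commute.conj_iff (R.ψ (permHom (d + 4) F cyc))).2 hc
  rw [R.W_conj (mono_permHom _) ne03 rfl rfl, R.W_conj (mono_permHom _) ne12 rfl rfl, cyc_zero, cyc_one,
    cyc_two, cyc_of_ne ne03.symm ne13.symm ne23.symm, R.W_zero_one] at this
  exact this.symm

end DRel

end Cfsg.Agent.Lib.ShortPresDn
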