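import Cfsg.Agent.Lib.ShortPresDn.Rel

/-!
# Short presentations of `Ω⁺`, part 3: the Siegel parabolic subgroup and the Weyl elements of the pairs
-/

set_option autoImplicit false
set_option linter.unusedSectionVars false

namespace Cfsg.Agent.Lib.ShortPresDn

open Equiv Pointwise
open Schur.SteinbergSLn (trv trv_rel trv_smul)
open ShortPresSLn (permHom torS tS torS_weyl torS_tri)
open ShortPresSL2 (matU matD matT mem_of_gens matD_mul matT_sq)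

variable {d : ℕ} {F : Type*} [Field F] {G : Type*} [Group G]

local notation "SLn" => Matrix.SpecialLinearGroup (Fin (d + 4)) F
local notation "A" => trv (d + 4) F

namespace DRel

variable (R : DRel d F G)

/-- The radical. -/
def Rad : Subgroup G := Subgroup.closure {x | ∃ i j t, i ≠ j ∧ x = R.X i j t}

theorem X_mem_Rad {i j : Fin (d + 4)} (h : i ≠ j) (t : F) : R.X i j t ∈ R.Rad :=
  Subgroup.subset_closure ⟨i, j, t, h, rfl⟩

theorem commute_Rad {x : G} (hx : ∀ i j, i ≠ j → ∀ t, Commute (R.X i j t) x) {r : G} (hr : r ∈ R.Rad) :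
    Commute r x := by
  have : R.Rad ≤ Subgroup.centralizer ({x} : Set G) := (Subgroup.closure_le _).2 (by
    rintro _ ⟨i, j, t, h, rfl⟩
    exact Subgroup.mem_centralizer_singleton_iff.2 (hx i j h t).eq)
  exact Subgroup.mem_centralizer_singleton_iff.1 (this hr)

theorem Rad_comm {r s : G} (hr : r ∈ R.Rad) (hs : s ∈ R.Rad) : Commute r s :=
  R.commute_Rad (fun i j h t => (R.commute_Rad (fun k l hkl u => R.X_comm _ _ _ _ hkl h _ _) hs).symm) hr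

theorem conj_X_mem {a b : Fin (d + 4)} (hab : a ≠ b) (c : F) {i j : Fin (d + 4)} (hij : i ≠ j) (t : F) :
    R.ψ (A a b c) * R.X i j t * (R.ψ (A a b c))⁻¹ ∈ R.Rad := by
  by_cases h : (b ≠ i ∧ b ≠ j) ∨ (a = i ∧ b = j)
  · rw [(R.X_fix a b i j hab hij h c t).eq, mul_inv_cancel_right]
    exact R.X_mem_Rad hij t
  · simp only [not_or, not_and, not_not] at h
    by_cases hbi : b = i
    · subst hbi
      by_cases haj : a = j
      · subst haj
        rw [R.X_swap a b hab, (R.X_fix a b a b hab hab (Or.inr ⟨rfl, rfl⟩) c _).eq, mul_inv_cancel_right]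
        exact R.X_mem_Rad hab _
      · rw [R.X_act a b j hab haj hij]
        exact R.Rad.mul_mem (R.X_mem_Rad hij t) (R.X_mem_Rad haj _)
    · have hbj : b = j := h.1 hbi
      subst hbj
      have hai : a ≠ i := fun e => h.2 e rfl
      rw [R.X_swap b i hij.symm, R.X_act a b i hab hai hij.symm]
      exact R.Rad.mul_mem (R.X_mem_Rad hij.symm _) (R.X_mem_Rad hai _)

theorem psi_conj_Rad (g : SLn) {r : G} (hr : r ∈ R.Rad) : R.ψ g * r * (R.ψ g)⁻¹ ∈ R.Rad := by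
  let S : Subgroup SLn :=
    { carrier := {g | (∀ r ∈ R.Rad, R.ψ g * r * (R.ψ g)⁻¹ ∈ R.Rad) ∧
        ∀ r ∈ R.Rad, (R.ψ g)⁻¹ * r * R.ψ g ∈ R.Rad}
      one_mem' := ⟨fun r hr => by simpa using hr, fun r hr => by simpa using hr⟩
      mul_mem' := fun {x y} hx hy =>
        ⟨fun r hr => by have := hx.1 _ (hy.1 r hr); rw [map_mul]; convert this using 1; group,
         fun r hr => by have := hy.2 _ (hx.2 r hr); rw [map_mul]; convert this using 1; group⟩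
      inv_mem' := fun {x} hx => ⟨fun r hr => by rw [map_inv, inv_inv]; exact hx.2 r hr,
        fun r hr => by rw [map_inv, inv_inv]; exact hx.1 r hr⟩ }
  have hgen : ∀ a b : Fin (d + 4), a ≠ b → ∀ c, ∀ r ∈ R.Rad,
      R.ψ (A a b c) * r * (R.ψ (A a b c))⁻¹ ∈ R.Rad := by
    intro a b hab c r hr
    have : R.Rad ≤ R.Rad.comap (MulAut.conj (R.ψ (A a b c))).toMonoidHom := (Subgroup.closure_le _).2 (by
      rintro _ ⟨i, j, t, hij, rfl⟩
      exact R.conj_X_mem hab c hij t)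
    exact this hr
  have htop : S = ⊤ := sl_top S fun a b hab c => ⟨hgen a b hab c, fun r hr => by
    have := hgen a b hab (-c) r hr
    rwa [← trv_inv hab, map_inv, inv_inv] at this⟩
  have : g ∈ S := htop ▸ Subgroup.mem_top g
  exact this.1 r hr

/-- The Siegel parabolic subgroup. -/
def P : Subgroup G := R.hHom.range ⊔ (R.ψ.range ⊔ R.Rad)

theorem psi_mem_P (g : SLn) : R.ψ g ∈ R.P :=
  Subgroup.mem_sup_right (Subgroup.mem_sup_left ⟨g, rfl⟩)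

theorem Rad_le_P : R.Rad ≤ R.P := le_sup_right.trans le_sup_right

theorem X_mem_P {i j : Fin (d + 4)} (h : i ≠ j) (t : F) : R.X i j t ∈ R.P :=
  R.Rad_le_P (R.X_mem_Rad h t)

theorem h_mem_P (t : Fˣ) : R.h t ∈ R.P := Subgroup.mem_sup_left ⟨t, rfl⟩

/-- The torus of the first pair on a transvection crossing it. -/
theorem h_conj_A30 (t : Fˣ) (c : F) :
    (∃ c', R.h t * R.ψ (A 3 0 c) * (R.h t)⁻¹ = R.ψ (A 3 0 c')) ∧
    (∃ c', R.h t * R.ψ (A 0 3 c) * (R.h t)⁻¹ = R.ψ (A 0 3 c')) := by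
  set g := R.ψ (permHom (d + 4) F cyc) with hg
  set h12 := g⁻¹ * R.h t * g with hh12
  have e : R.h t = R.ψ (torS t 1 3 * (torS t 2 3)⁻¹) * h12 * R.ψ ((torS t 1 0)⁻¹) := by
    have e1 : R.w * (R.ψ (torS t 1 3))⁻¹ * R.w⁻¹ = (R.ψ (torS t 1 3))⁻¹ * R.h t := by
      rw [← R.torus_w]; group
    have hc : Commute R.w (R.ψ (torS t 2 3)) :=
      R.commute_w_block (mono_torS t 2 3) ⟨rfl, rfl⟩ ⟨by simp [ne02, ne03], by simp [ne12, ne13]⟩
    have hc' : Commute R.w (R.ψ (torS t 1 0)) := by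
      have : (torS t 1 0 : SLn) = A 1 0 (t : F) * A 0 1 (-(t : F)⁻¹) * A 1 0 (t : F) * (tS 1 0)⁻¹ := by
        rw [← torS_weyl t ne01.symm, mul_inv_cancel_right]
      have h10 : Diag01 (1 : Fin (d + 4)) 0 := Or.inl ⟨Or.inr rfl, Or.inl rfl⟩
      have h01 : Diag01 (0 : Fin (d + 4)) 1 := Or.inl ⟨Or.inl rfl, Or.inr rfl⟩
      rw [this, map_mul, map_mul, map_mul, map_inv, ShortPresSLn.tS_eq ne01.symm, map_mul, map_mul]
      exact (((R.w_A _ _ ne01.symm h10 _).mul_right (R.w_A _ _ ne01 h01 _)).mul_right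
        (R.w_A _ _ ne01.symm h10 _)).mul_right (((R.w_A _ _ ne01.symm h10 _).mul_right
        (R.w_A _ _ ne01 h01 _)).mul_right (R.w_A _ _ ne01.symm h10 _)).inv_right
    have e2 : h12 = R.ψ (torS t 2 3) * ((R.ψ (torS t 1 3))⁻¹ * R.h t) * R.ψ (torS t 1 0) := by
      rw [hh12, hg, R.h_braid, ← e1, torS_tri t (k := (3 : Fin (d + 4))), map_mul,
        torS_tri t (i := (3 : Fin (d + 4))) (k := (1 : Fin (d + 4))), map_mul]
      have h31 : (torS t 3 1 : SLn) = (torS t 1 3)⁻¹ := by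
        refine eq_inv_of_mul_eq_one_left ?_
        rw [← torS_tri]
        refine Linear.sl_ext_single fun k => ?_
        rw [ShortPresSLn.torS_single, one_smul, ← Pi.mulSingle_mul, mul_inv_cancel, Pi.mulSingle_one,
          Pi.one_apply, Units.val_one, one_mul]
      rw [h31, map_inv]
      have : Commute R.w (R.ψ (torS t 2 3)) := hc
      calc R.w * (R.ψ (torS t 2 3) * ((R.ψ (torS t 1 3))⁻¹ * R.ψ (torS t 1 0))) * R.w⁻¹ =
          (R.w * R.ψ (torS t 2 3)) * (R.ψ (torS t 1 3))⁻¹ * (R.ψ (torS t 1 0) * R.w⁻¹) := by group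
        _ = (R.ψ (torS t 2 3) * R.w) * (R.ψ (torS t 1 3))⁻¹ * (R.w⁻¹ * R.ψ (torS t 1 0)) := by
          rw [hc.eq, hc'.inv_left.eq]
        _ = _ := by group
    rw [e2, map_mul, map_inv, map_inv]; group
  have hfix : ∀ (i j : Fin (d + 4)), ((i = 3 ∧ j = 0) ∨ (i = 0 ∧ j = 3)) → ∀ c,
      Commute h12 (R.ψ (A i j c)) := by
    intro i j hij c
    have hne : i ≠ j := by rcases hij with ⟨rfl, rfl⟩ | ⟨rfl, rfl⟩; exacts [ne03.symm, ne03]
    have key := R.A_conj (mono_permHom (F := F) (cyc : alternatingGroup (Fin (d + 4)))) hne c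
    rw [← hg] at key
    have hd : Diag01 (((cyc : alternatingGroup (Fin (d + 4))) : Perm (Fin (d + 4))) i)
        (((cyc : alternatingGroup (Fin (d + 4))) : Perm (Fin (d + 4))) j) := by
      refine Or.inr ?_
      rcases hij with ⟨rfl, rfl⟩ | ⟨rfl, rfl⟩ <;>
        rw [cyc_of_ne ne03.symm ne13.symm ne23.symm, cyc_zero]
      · exact ⟨⟨ne03.symm, ne13.symm⟩, ne02.symm, ne12.symm⟩
      · exact ⟨⟨ne02.symm, ne12.symm⟩, ne03.symm, ne13.symm⟩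
    have hc := R.chi_commute_A
      (((cyc : alternatingGroup (Fin (d + 4))) : Perm (Fin (d + 4))).injective.ne hne) hd
      ((((1 : Fin (d + 4) → Fˣ) i : Fˣ) : F) * ((((1 : Fin (d + 4) → Fˣ) j)⁻¹ : Fˣ) : F) * c) (matD t)
    rw [← key] at hc
    have := hc.eq
    show g⁻¹ * R.h t * g * R.ψ (A i j c) = R.ψ (A i j c) * (g⁻¹ * R.h t * g)
    calc g⁻¹ * R.h t * g * R.ψ (A i j c) = g⁻¹ * (R.χ (matD t) * (g * R.ψ (A i j c) * g⁻¹)) * g := by
          rw [h]; group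
      _ = _ := by rw [this, h]; group
  have hconj : ∀ (i j : Fin (d + 4)), i ≠ j → ((i = 3 ∧ j = 0) ∨ (i = 0 ∧ j = 3)) → ∀ c,
      ∃ c', R.h t * R.ψ (A i j c) * (R.h t)⁻¹ = R.ψ (A i j c') := by
    intro i j hne hij c
    have hm := ((mono_torS (F := F) t (1 : Fin (d + 4)) 3).mul (mono_torS t 2 3).inv)
    have hm' := (mono_torS (F := F) t (1 : Fin (d + 4)) 0).inv
    set x := R.ψ (torS t 1 3 * (torS t 2 3)⁻¹)
    set y := R.ψ ((torS t 1 0)⁻¹)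
    obtain ⟨c1, hc1⟩ : ∃ c1, y * R.ψ (A i j c) * y⁻¹ = R.ψ (A i j c1) :=
      ⟨_, R.A_conj hm' hne c⟩
    obtain ⟨c2, hc2⟩ : ∃ c2, x * R.ψ (A i j c1) * x⁻¹ = R.ψ (A i j c2) :=
      ⟨_, R.A_conj hm hne c1⟩
    refine ⟨c2, ?_⟩
    rw [e, ← hc2]
    calc x * h12 * y * R.ψ (A i j c) * (x * h12 * y)⁻¹ =
        x * (h12 * (y * R.ψ (A i j c) * y⁻¹) * h12⁻¹) * x⁻¹ := by group
      _ = _ := by rw [hc1, (hfix i j hij c1).eq, mul_inv_cancel_right]
  exact ⟨hconj 3 0 ne03.symm (Or.inl ⟨rfl, rfl⟩) c, hconj 0 3 ne03 (Or.inr ⟨rfl, rfl⟩) c⟩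

/-- A monomial matrix commuting with `χ` that moves `3` to a given index. -/
theorem exists_move (j : Fin (d + 4)) (hj0 : j ≠ 0) (hj1 : j ≠ 1) :
    ∃ (g : SLn) (α : Fin (d + 4) → Fˣ) (σ : Perm (Fin (d + 4))), Mono g σ α ∧ σ 0 = 0 ∧ σ 1 = 1 ∧ σ 3 = j ∧
      ∀ u, Commute (R.χ u) (R.ψ g) := by
  rcases eq_or_ne j 3 with rfl | hj
  · exact ⟨1, 1, 1, Mono.one, rfl, rfl, rfl, fun u => by rw [map_one]; exact Commute.one_right _⟩
  · refine ⟨tS 3 j, _, _, mono_tS hj.symm, Equiv.swap_apply_of_ne_of_ne ne03 hj0.symm,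
      Equiv.swap_apply_of_ne_of_ne ne13 hj1.symm, Equiv.swap_apply_left _ _, fun u => ?_⟩
    rw [ShortPresSLn.tS_eq hj.symm, map_mul, map_mul]
    have h1 : Diag01 (3 : Fin (d + 4)) j := Or.inr ⟨⟨ne03.symm, ne13.symm⟩, hj0, hj1⟩
    have h2 : Diag01 j (3 : Fin (d + 4)) := Or.inr ⟨⟨hj0, hj1⟩, ne03.symm, ne13.symm⟩
    exact ((R.chi_commute_A hj.symm h1 _ u).mul_right (R.chi_commute_A hj h2 _ u)).mul_right
      (R.chi_commute_A hj.symm h1 _ u)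

theorem chi_commute_n01 (u : Matrix.SpecialLinearGroup (Fin 2) F) : Commute (R.χ u) (R.ψ (tS 0 1)) := by
  rw [ShortPresSLn.tS_eq ne01, map_mul, map_mul]
  have h1 : Diag01 (0 : Fin (d + 4)) 1 := Or.inl ⟨Or.inl rfl, Or.inr rfl⟩
  have h2 : Diag01 (1 : Fin (d + 4)) 0 := Or.inl ⟨Or.inr rfl, Or.inl rfl⟩
  exact ((R.chi_commute_A ne01 h1 _ u).mul_right (R.chi_commute_A ne01.symm h2 _ u)).mul_right
    (R.chi_commute_A ne01 h1 _ u)

theorem h_conj_low {j : Fin (d + 4)} (h0 : j ≠ 0) (h1 : j ≠ 1) (t : Fˣ) (c : F) :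
    ∃ c', R.h t * R.ψ (A j 0 c) * (R.h t)⁻¹ = R.ψ (A j 0 c') := by
  obtain ⟨g, α, σ, hg, s0, s1, s3, hc⟩ := R.exists_move j h0 h1
  have e : R.ψ (A j 0 c) = R.ψ g * R.ψ (A 3 0 ((α 3 : F)⁻¹ * (α 0 : F) * c)) * (R.ψ g)⁻¹ := by
    rw [R.A_conj hg ne03.symm, s0, s3]
    congr 2
    rw [Units.val_inv_eq_inv_val]
    field_simp
  obtain ⟨⟨c', hc'⟩, -⟩ := R.h_conj_A30 t ((α 3 : F)⁻¹ * (α 0 : F) * c)
  have := R.A_conj hg (ne03.symm : (3 : Fin (d + 4)) ≠ 0) c'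
  rw [s0, s3] at this
  refine ⟨_, Eq.trans ?_ this⟩
  rw [← hc', e]
  calc R.h t * (R.ψ g * R.ψ (A 3 0 ((α 3 : F)⁻¹ * (α 0 : F) * c)) * (R.ψ g)⁻¹) * (R.h t)⁻¹ =
      (R.h t * R.ψ g) * R.ψ (A 3 0 ((α 3 : F)⁻¹ * (α 0 : F) * c)) * ((R.ψ g)⁻¹ * (R.h t)⁻¹) := by group
    _ = (R.ψ g * R.h t) * R.ψ (A 3 0 ((α 3 : F)⁻¹ * (α 0 : F) * c)) * ((R.h t)⁻¹ * (R.ψ g)⁻¹) := by
      rw [show R.h t * R.ψ g = R.ψ g * R.h t from (hc (matD t)).eq,
        show (R.ψ g)⁻¹ * (R.h t)⁻¹ = (R.h t)⁻¹ * (R.ψ g)⁻¹ from ((hc (matD t)).inv_inv).symm.eq]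
    _ = _ := by group

theorem h_conj_psi (t : Fˣ) (g : SLn) : R.h t * R.ψ g * (R.h t)⁻¹ ∈ R.ψ.range := by
  let S : Subgroup SLn := R.ψ.range.comap ((MulAut.conj (R.h t)).toMonoidHom.comp R.ψ)
  suffices hS : S = ⊤ by
    have : g ∈ S := hS ▸ Subgroup.mem_top g
    exact this
  have hC : ∀ i j, i ≠ j → Diag01 i j → ∀ c, A i j c ∈ S := fun i j hij h c => by
    show R.h t * R.ψ (A i j c) * (R.h t)⁻¹ ∈ R.ψ.range
    rw [(show Commute (R.h t) (R.ψ (A i j c)) from R.chi_commute_A hij h c _).eq, mul_inv_cancel_right]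
    exact ⟨_, rfl⟩
  have hn : (tS 0 1 : SLn) ∈ S := by
    rw [ShortPresSLn.tS_eq ne01]
    exact S.mul_mem (S.mul_mem (hC _ _ ne01 (Or.inl ⟨Or.inl rfl, Or.inr rfl⟩) _)
      (hC _ _ ne01.symm (Or.inl ⟨Or.inr rfl, Or.inl rfl⟩) _)) (hC _ _ ne01 (Or.inl ⟨Or.inl rfl, Or.inr rfl⟩) _)
  have hmove : ∀ j : Fin (d + 4), j ≠ 0 → j ≠ 1 → ∀ c, A j 0 c ∈ S ∧ A 0 j c ∈ S := fun j h0 h1 c => by
    refine ⟨?_, ?_⟩
    · obtain ⟨c', hc'⟩ := R.h_conj_low h0 h1 t c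
      exact ⟨_, hc'.symm⟩
    · obtain ⟨g, α, σ, hg, s0, s1, s3, hc⟩ := R.exists_move j h0 h1
      have hgS : g ∈ S := by
        show R.h t * R.ψ g * (R.h t)⁻¹ ∈ R.ψ.range
        rw [(show Commute (R.h t) (R.ψ g) from hc _).eq, mul_inv_cancel_right]
        exact ⟨g, rfl⟩
      have h3 : A 0 3 ((α 0 : F)⁻¹ * (α 3 : F) * c) ∈ S := by
        obtain ⟨-, c', hc'⟩ := R.h_conj_A30 t ((α 0 : F)⁻¹ * (α 3 : F) * c)
        exact ⟨_, hc'.symm⟩
      have := S.mul_mem (S.mul_mem hgS h3) (S.inv_mem hgS)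
      rw [hg.conj_trv ne03, s0, s3] at this
      convert this using 2
      rw [Units.val_inv_eq_inv_val]
      field_simp
  have hswap : ∀ i j, i ≠ j → ∀ c, A i j c ∈ S →
      A (Equiv.swap 0 1 i) (Equiv.swap 0 1 j) ((((if i = 0 then -1 else 1 : Fˣ)) : F) *
        (((if j = 0 then -1 else 1 : Fˣ))⁻¹ : Fˣ) * c) ∈ S := fun i j hij c h => by
    rw [← (mono_tS (F := F) (ne01 : (0 : Fin (d + 4)) ≠ 1)).conj_trv hij c]
    exact S.mul_mem (S.mul_mem hn h) (S.inv_mem hn)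
  refine sl_top S fun i j hij c => ?_
  rcases diag01_or i j with h | ⟨⟨i0, i1⟩, hj⟩ | ⟨hi, ⟨j0, j1⟩⟩
  · exact hC i j hij h c
  · rcases hj with rfl | rfl
    · exact (hmove i i0 i1 c).1
    · have := hswap i 0 i0 (-c) (hmove i i0 i1 _).1
      rw [Equiv.swap_apply_of_ne_of_ne i0 i1, Equiv.swap_apply_left, if_neg i0, if_pos rfl] at this
      simpa using this
  · rcases hi with rfl | rfl
    · exact (hmove j j0 j1 c).2
    · have := hswap 0 j (Ne.symm j0) (-c) (hmove j j0 j1 _).2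
      rw [Equiv.swap_apply_of_ne_of_ne j0 j1, Equiv.swap_apply_left, if_neg j0, if_pos rfl] at this
      simpa using this

theorem h_conj_Rad (t : Fˣ) {r : G} (hr : r ∈ R.Rad) : R.h t * r * (R.h t)⁻¹ ∈ R.Rad := by
  have hlow : ∀ j : Fin (d + 4), j ≠ 0 → j ≠ 1 → ∀ c,
      R.h t * R.X j 1 c * (R.h t)⁻¹ ∈ R.Rad ∧ R.h t * R.X j 0 c * (R.h t)⁻¹ ∈ R.Rad := fun j h0 h1 c => by
    have key : ∀ c, R.h t * R.X j 1 c * (R.h t)⁻¹ ∈ R.Rad := fun c => by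
      obtain ⟨c', hc'⟩ := R.h_conj_low h0 h1 t⁻¹ (-c)
      have e : R.X j 1 c = R.w * R.ψ (A j 0 (-c)) * R.w⁻¹ :=
        ((R.w_lo j h0 h1 _).trans (by rw [neg_neg])).symm
      have hw : R.h t * R.w = R.w * R.h t⁻¹ := by rw [R.w_h, inv_inv]
      have hi : R.w⁻¹ * (R.h t)⁻¹ = (R.h t⁻¹)⁻¹ * R.w⁻¹ := by
        rw [← _root_.mul_inv_rev, ← _root_.mul_inv_rev, hw]
      rw [e]
      rw [show R.h t * (R.w * R.ψ (A j 0 (-c)) * R.w⁻¹) * (R.h t)⁻¹ =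
        (R.h t * R.w) * R.ψ (A j 0 (-c)) * (R.w⁻¹ * (R.h t)⁻¹) by group, hw, hi,
        show R.w * R.h t⁻¹ * R.ψ (A j 0 (-c)) * ((R.h t⁻¹)⁻¹ * R.w⁻¹) =
        R.w * (R.h t⁻¹ * R.ψ (A j 0 (-c)) * (R.h t⁻¹)⁻¹) * R.w⁻¹ by group, hc']
      exact (R.w_lo j h0 h1 c').symm ▸ R.X_mem_Rad h1 _
    refine ⟨key c, ?_⟩
    have hm := mono_tS (F := F) (ne01 : (0 : Fin (d + 4)) ≠ 1)
    have e := R.X_conj _ _ _ hm j 1 h1 c
    rw [Equiv.swap_apply_of_ne_of_ne h0 h1, Equiv.swap_apply_right, if_neg h0, if_neg ne01.symm,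
      Units.val_one, one_mul, one_mul] at e
    rw [← e]
    have := R.psi_conj_Rad (tS 0 1) (key c)
    convert this using 1
    have hc := R.chi_commute_n01 (matD t)
    calc R.h t * (R.ψ (tS 0 1) * R.X j 1 c * (R.ψ (tS 0 1))⁻¹) * (R.h t)⁻¹ =
        (R.h t * R.ψ (tS 0 1)) * R.X j 1 c * ((R.ψ (tS 0 1))⁻¹ * (R.h t)⁻¹) := by group
      _ = (R.ψ (tS 0 1) * R.h t) * R.X j 1 c * ((R.h t)⁻¹ * (R.ψ (tS 0 1))⁻¹) := by
        rw [show R.h t * R.ψ (tS 0 1) = R.ψ (tS 0 1) * R.h t from hc.eq,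
          show (R.ψ (tS 0 1))⁻¹ * (R.h t)⁻¹ = (R.h t)⁻¹ * (R.ψ (tS 0 1))⁻¹ from hc.inv_inv.symm.eq]
      _ = _ := by group
  have : R.Rad ≤ R.Rad.comap (MulAut.conj (R.h t)).toMonoidHom := (Subgroup.closure_le _).2 (by
    rintro _ ⟨i, j, c, hij, rfl⟩
    show R.h t * R.X i j c * (R.h t)⁻¹ ∈ R.Rad
    by_cases hi : i = 0 ∨ i = 1 <;> by_cases hj : j = 0 ∨ j = 1
    · have h01 : ∀ s, R.h t * R.X 0 1 s * (R.h t)⁻¹ ∈ R.Rad := fun s => by
        rw [h, ← R.χ_U, ← map_inv, ← map_mul, ← map_mul, ShortPresSL2.matD_conj, R.χ_U]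
        exact R.X_mem_Rad ne01 _
      rcases hi with rfl | rfl <;> rcases hj with rfl | rfl
      · exact absurd rfl hij
      · exact h01 c
      · rw [R.X_swap 0 1 ne01]; exact h01 _
      · exact absurd rfl hij
    · rw [R.X_swap j i hij.symm]
      rcases hi with rfl | rfl
      exacts [(hlow j (fun e => hj (Or.inl e)) (fun e => hj (Or.inr e)) _).2,
        (hlow j (fun e => hj (Or.inl e)) (fun e => hj (Or.inr e)) _).1]
    · rcases hj with rfl | rfl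
      exacts [(hlow i (fun e => hi (Or.inl e)) (fun e => hi (Or.inr e)) _).2,
        (hlow i (fun e => hi (Or.inl e)) (fun e => hi (Or.inr e)) _).1]
    · rw [(show Commute (R.h t) (R.X i j c) from R.chi_commute_X hij ⟨fun e => hi (Or.inl e),
        fun e => hi (Or.inr e)⟩ ⟨fun e => hj (Or.inl e), fun e => hj (Or.inr e)⟩ c _).eq,
        mul_inv_cancel_right]
      exact R.X_mem_Rad hij c)
  exact this hr

theorem mem_P {x : G} (hx : x ∈ R.P) : ∃ t g r, r ∈ R.Rad ∧ x = R.h t * R.ψ g * r := by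
  have h1 : R.ψ.range ≤ Subgroup.normalizer (R.Rad : Set G) := by
    rintro _ ⟨g, rfl⟩
    refine Subgroup.mem_normalizer_iff.2 fun r => ⟨fun hr => R.psi_conj_Rad g hr, fun hr => ?_⟩
    have := R.psi_conj_Rad g⁻¹ hr
    rw [map_inv, inv_inv] at this
    convert this using 1
    group
  have h2 : R.hHom.range ≤ Subgroup.normalizer ((R.ψ.range ⊔ R.Rad : Subgroup G) : Set G) := by
    rintro _ ⟨t, rfl⟩
    have key : ∀ t : Fˣ, ∀ x ∈ R.ψ.range ⊔ R.Rad, R.h t * x * (R.h t)⁻¹ ∈ R.ψ.range ⊔ R.Rad := by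
      intro t x hx
      have : R.ψ.range ⊔ R.Rad ≤ (R.ψ.range ⊔ R.Rad).comap (MulAut.conj (R.h t)).toMonoidHom :=
        sup_le (by rintro _ ⟨g, rfl⟩; exact Subgroup.mem_sup_left (R.h_conj_psi t g))
          (fun r hr => Subgroup.mem_sup_right (R.h_conj_Rad t hr))
      exact this hx
    refine Subgroup.mem_normalizer_iff.2 fun r => ⟨fun hr => key t r hr, fun hr => ?_⟩
    have := key t⁻¹ _ hr
    rw [← R.h_inv, inv_inv] at this
    convert this using 1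
    rw [hHom_apply]; group
  have hx' : x ∈ ((R.hHom.range ⊔ (R.ψ.range ⊔ R.Rad) : Subgroup G) : Set G) := hx
  rw [Subgroup.coe_mul_of_left_le_normalizer_right _ _ h2] at hx'
  obtain ⟨_, ⟨t, rfl⟩, y, hy, rfl⟩ := hx'
  rw [Subgroup.coe_mul_of_left_le_normalizer_right _ _ h1] at hy
  obtain ⟨_, ⟨g, rfl⟩, r, hr, rfl⟩ := hy
  exact ⟨t, g, r, hr, (mul_assoc _ _ _).symm⟩

end DRel

end Cfsg.Agent.Lib.ShortPresDn
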