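import Cfsg.Agent.Lib.ShortPresDn.Pairs

/-!
# Short presentations of `Ω⁺`, part 5: products of Weyl elements of disjoint pairs
-/

set_option autoImplicit false
set_option linter.unusedSectionVars false

namespace Cfsg.Agent.Lib.ShortPresDn

open Equiv
open Schur.SteinbergSLn (trv trv_rel trv_smul)
open ShortPresSLn (permHom torS tS torS_weyl torS_tri)
open ShortPresSL2 (matU matD matT)

variable {d : ℕ} {F : Type*} [Field F] {G : Type*} [Group G]

local notation "SLn" => Matrix.SpecialLinearGroup (Fin (d + 4)) F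
local notation "A" => trv (d + 4) F

/-- The shift by two. -/
def shift (d : ℕ) : alternatingGroup (Fin (d + 4)) :=
  ⟨finRotate (d + 4) * finRotate (d + 4), by
    rw [Perm.mem_alternatingGroup, Perm.sign_mul]; exact Int.units_mul_self _⟩

theorem shift_val {i : Fin (d + 4)} (h : (i : ℕ) + 2 < d + 4) :
    (((shift d : alternatingGroup (Fin (d + 4))) : Perm (Fin (d + 4))) i : ℕ) = i + 2 := by
  show ((finRotate (d + 4) (finRotate (d + 4) i) : Fin (d + 4)) : ℕ) = _
  rw [finRotate_apply, finRotate_apply, Fin.val_add, Fin.val_add, Fin.val_one]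
  rw [Nat.mod_add_mod, Nat.mod_eq_of_lt (by omega)]

theorem shift_last (i : Fin (d + 4)) (h : d + 4 ≤ (i : ℕ) + 2) :
    (((shift d : alternatingGroup (Fin (d + 4))) : Perm (Fin (d + 4))) i : ℕ) = i + 2 - (d + 4) := by
  show ((finRotate (d + 4) (finRotate (d + 4) i) : Fin (d + 4)) : ℕ) = _
  rw [finRotate_apply, finRotate_apply, Fin.val_add, Fin.val_add, Fin.val_one]
  rw [Nat.mod_add_mod, Nat.mod_eq_sub_mod (by omega), Nat.mod_eq_of_lt (by omega)]

namespace DRel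

variable (R : DRel d F G)

/-- The Weyl element of the `i`-th pair. -/
noncomputable def Wn (i : ℕ) : G :=
  if h : 2 * i + 1 < d + 4 then R.W ⟨2 * i, by omega⟩ ⟨2 * i + 1, h⟩ else 1

theorem Wn_zero : R.Wn 0 = R.w := by
  rw [Wn, dif_pos (by omega), ← R.W_zero_one]
  congr 1

theorem Wn_shift {i : ℕ} (h : 2 * i + 3 < d + 4) :
    R.ψ (permHom (d + 4) F (shift d)) * R.Wn i * (R.ψ (permHom (d + 4) F (shift d)))⁻¹ = R.Wn (i + 1) := by
  rw [Wn, Wn, dif_pos (show 2 * i + 1 < d + 4 by omega), dif_pos (show 2 * (i + 1) + 1 < d + 4 by omega),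
    R.W_conj (mono_permHom _) (Fin.ne_of_val_ne (by simp)) rfl rfl]
  congr 1
  · exact Fin.ext ((shift_val (by simp only; omega)).trans (by simp only; omega))
  · exact Fin.ext ((shift_val (by simp only; omega)).trans (by simp only; omega))

theorem commute_w_Wn {m : ℕ} (hm : 1 ≤ m) : Commute R.w (R.Wn m) := by
  unfold Wn
  split_ifs with h
  swap
  · exact Commute.one_right _
  rcases Nat.eq_or_lt_of_le hm with rfl | hm2
  · convert R.commute_w_W23 using 3 <;> simp [Nat.mod_eq_of_lt (show 2 < d + 4 by omega),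
      Nat.mod_eq_of_lt (show 3 < d + 4 by omega)]
  set a : Fin (d + 4) := ⟨2 * m, by omega⟩ with ha
  set b : Fin (d + 4) := ⟨2 * m + 1, h⟩ with hb
  have v2 : ((2 : Fin (d + 4)) : ℕ) = 2 := by simp [Nat.mod_eq_of_lt (show 2 < d + 4 by omega)]
  have v3 : ((3 : Fin (d + 4)) : ℕ) = 3 := by simp [Nat.mod_eq_of_lt (show 3 < d + 4 by omega)]
  have h2a : (2 : Fin (d + 4)) ≠ a := fun e => by
    have e' := congrArg Fin.val e
    rw [v2] at e'
    simp only [ha, hb] at e'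
    omega
  have h3b : (3 : Fin (d + 4)) ≠ b := fun e => by
    have e' := congrArg Fin.val e
    rw [v3] at e'
    simp only [ha, hb] at e'
    omega
  have h2b : (2 : Fin (d + 4)) ≠ b := fun e => by
    have e' := congrArg Fin.val e
    rw [v2] at e'
    simp only [ha, hb] at e'
    omega
  have h3a : (3 : Fin (d + 4)) ≠ a := fun e => by
    have e' := congrArg Fin.val e
    rw [v3] at e'
    simp only [ha, hb] at e'
    omega
  have hab : a ≠ b := Fin.ne_of_val_ne (by rw [ha, hb]; simp)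
  have ha0 : a ≠ 0 ∧ a ≠ 1 := ⟨Fin.ne_of_val_ne (by simp [ha]; omega), Fin.ne_of_val_ne (by simp [ha])⟩
  have hb0 : b ≠ 0 ∧ b ≠ 1 := ⟨Fin.ne_of_val_ne (by simp [hb]), Fin.ne_of_val_ne (by simp [hb]; omega)⟩
  set σ := Equiv.swap (2 : Fin (d + 4)) a * Equiv.swap (3 : Fin (d + 4)) b with hσ
  have hev : σ ∈ alternatingGroup (Fin (d + 4)) := by
    rw [hσ, Perm.mem_alternatingGroup, Perm.sign_mul, Perm.sign_swap h2a, Perm.sign_swap h3b]; rfl
  have s0 : σ 0 = 0 := by
    rw [hσ, Perm.mul_apply, Equiv.swap_apply_of_ne_of_ne ne03 hb0.1.symm,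
      Equiv.swap_apply_of_ne_of_ne ne02 ha0.1.symm]
  have s1 : σ 1 = 1 := by
    rw [hσ, Perm.mul_apply, Equiv.swap_apply_of_ne_of_ne ne13 hb0.2.symm,
      Equiv.swap_apply_of_ne_of_ne ne12 ha0.2.symm]
  have s2 : σ 2 = a := by
    rw [hσ, Perm.mul_apply, Equiv.swap_apply_of_ne_of_ne ne23 h2b, Equiv.swap_apply_left]
  have s3 : σ 3 = b := by
    rw [hσ, Perm.mul_apply, Equiv.swap_apply_left, Equiv.swap_apply_of_ne_of_ne h2b.symm hab.symm]
  have hm := mono_permHom (F := F) (⟨σ, hev⟩ : alternatingGroup (Fin (d + 4)))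
  have hc := R.commute_w_block hm ⟨s0, s1⟩ ⟨rfl, rfl⟩
  have := (Commute.conj_iff (R.ψ (permHom (d + 4) F ⟨σ, hev⟩))).2 R.commute_w_W23
  rw [R.W_conj hm ne23 rfl rfl, ← hc.eq, mul_inv_cancel_right] at this
  simp only at this
  rwa [s2, s3] at this

theorem commute_Wn : ∀ {i j : ℕ}, i ≠ j → Commute (R.Wn i) (R.Wn j) := by
  suffices h : ∀ i j : ℕ, i < j → Commute (R.Wn i) (R.Wn j) by
    intro i j hij
    rcases Nat.lt_or_ge i j with h1 | h1
    · exact h i j h1
    · exact (h j i (by omega)).symm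
  intro i
  induction i with
  | zero => intro j hj; rw [R.Wn_zero]; exact R.commute_w_Wn hj
  | succ i ih =>
    intro j hj
    by_cases hj2 : 2 * j + 1 < d + 4
    swap
    · rw [show R.Wn j = 1 by rw [Wn, dif_neg hj2]]; exact Commute.one_right _
    obtain ⟨j', rfl⟩ : ∃ j', j = j' + 1 := ⟨j - 1, by omega⟩
    rw [← R.Wn_shift (by omega), ← R.Wn_shift (i := j') (by omega)]
    exact (Commute.conj_iff _).2 (ih j' (by omega))

/-- The product of the Weyl elements of a set of pairs. -/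
noncomputable def JS (S : Finset ℕ) : G := S.noncommProd R.Wn fun _ _ _ _ h => R.commute_Wn h

/-- The representatives. -/
noncomputable def J (k : ℕ) : G := R.JS (Finset.range k)

theorem JS_insert {S : Finset ℕ} {a : ℕ} (h : a ∉ S) : R.JS (insert a S) = R.Wn a * R.JS S :=
  Finset.noncommProd_insert_of_notMem _ _ _ _ h

theorem JS_erase {S : Finset ℕ} {a : ℕ} (h : a ∈ S) : R.JS S = R.Wn a * R.JS (S.erase a) := by
  rw [← R.JS_insert (Finset.notMem_erase a S), Finset.insert_erase h]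

theorem commute_JS {S : Finset ℕ} {x : G} (h : ∀ p ∈ S, Commute (R.Wn p) x) : Commute (R.JS S) x :=
  (Finset.noncommProd_commute _ _ _ x fun p hp => (h p hp).symm).symm

theorem J_zero : R.J 0 = 1 := rfl

theorem J_shift {k : ℕ} (hk : 2 * k + 2 ≤ d + 4) :
    R.J (k + 1) = R.w * (R.ψ (permHom (d + 4) F (shift d)) * R.J k * (R.ψ (permHom (d + 4) F (shift d)))⁻¹) := by
  induction k with
  | zero =>
    rw [J, J, Finset.range_one, Finset.range_zero, show ({0} : Finset ℕ) = insert 0 ∅ from rfl,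
      R.JS_insert (Finset.notMem_empty 0), R.Wn_zero, show R.JS ∅ = 1 from rfl]
    simp
  | succ k ih =>
    have h1 : R.J (k + 1 + 1) = R.Wn (k + 1) * R.J (k + 1) := by
      rw [J, J, Finset.range_add_one, R.JS_insert Finset.notMem_range_self]
    have h2 : R.J (k + 1) = R.Wn k * R.J k := by
      rw [J, J, Finset.range_add_one, R.JS_insert Finset.notMem_range_self]
    set π := R.ψ (permHom (d + 4) F (shift d))
    calc R.J (k + 1 + 1) = R.Wn (k + 1) * (R.w * (π * R.J k * π⁻¹)) := by rw [h1, ih (by omega)]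
      _ = (R.Wn (k + 1) * R.w) * (π * R.J k * π⁻¹) := (mul_assoc _ _ _).symm
      _ = (R.w * R.Wn (k + 1)) * (π * R.J k * π⁻¹) := by rw [(R.commute_w_Wn (m := k + 1) (by omega)).eq]
      _ = R.w * (π * (R.Wn k * R.J k) * π⁻¹) := by rw [← R.Wn_shift (i := k) (by omega)]; simp only [π]; group
      _ = _ := by rw [← h2]

theorem commute_Wn_X {p : ℕ} {i j : Fin (d + 4)} (hij : i ≠ j) (hi : (i : ℕ) / 2 ≠ p) (hj : (j : ℕ) / 2 ≠ p)
    (c : F) : Commute (R.Wn p) (R.X i j c) := by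
  unfold Wn
  split_ifs with h
  · exact (R.W_facts (Fin.ne_of_val_ne (by simp))).2.1 i j hij
      ⟨Fin.ne_of_val_ne (by simp only; omega), Fin.ne_of_val_ne (by simp only; omega)⟩
      ⟨Fin.ne_of_val_ne (by simp only; omega), Fin.ne_of_val_ne (by simp only; omega)⟩ c
  · exact Commute.one_left _

theorem commute_Wn_A {p : ℕ} {i j : Fin (d + 4)} (hij : i ≠ j)
    (h : ((i : ℕ) / 2 ≠ p ∧ (j : ℕ) / 2 ≠ p) ∨ ((i : ℕ) / 2 = p ∧ (j : ℕ) / 2 = p)) (c : F) :
    Commute (R.Wn p) (R.ψ (A i j c)) := by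
  unfold Wn
  split_ifs with hp
  · refine (R.W_facts (Fin.ne_of_val_ne (by simp))).1 i j hij ?_ c
    rcases h with ⟨hi, hj⟩ | ⟨hi, hj⟩
    · exact Or.inr ⟨⟨Fin.ne_of_val_ne (by simp only; omega), Fin.ne_of_val_ne (by simp only; omega)⟩,
        Fin.ne_of_val_ne (by simp only; omega), Fin.ne_of_val_ne (by simp only; omega)⟩
    · refine Or.inl ⟨?_, ?_⟩ <;> simp only [Fin.ext_iff] <;> omega
  · exact Commute.one_left _

/-- Conjugation by the Weyl element of the pair of `j`. -/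
theorem Wn_move {j : Fin (d + 4)} (h : 2 * ((j : ℕ) / 2) + 1 < d + 4) :
    ∃ j' : Fin (d + 4), j' ≠ j ∧ (j' : ℕ) / 2 = (j : ℕ) / 2 ∧ ∀ i : Fin (d + 4), (i : ℕ) / 2 ≠ (j : ℕ) / 2 →
      ∀ c, (∃ c', (R.Wn ((j : ℕ) / 2))⁻¹ * R.ψ (A i j c) * R.Wn ((j : ℕ) / 2) = R.X i j' c') ∧
        (∃ c', (R.Wn ((j : ℕ) / 2))⁻¹ * R.X i j c * R.Wn ((j : ℕ) / 2) = R.ψ (A i j' c')) := by
  rw [Wn, dif_pos h]
  set p := (j : ℕ) / 2
  set a : Fin (d + 4) := ⟨2 * p, by omega⟩ with ha
  set b : Fin (d + 4) := ⟨2 * p + 1, h⟩ with hb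
  have hf := (R.W_facts (a := a) (b := b) (Fin.ne_of_val_ne (by simp [ha, hb]))).2.2
  rcases Nat.mod_two_eq_zero_or_one (j : ℕ) with e | e
  · have hja : j = a := Fin.ext (by show (j : ℕ) = 2 * p; omega)
    refine ⟨b, Fin.ne_of_val_ne (by show 2 * p + 1 ≠ _; omega), by show (2 * p + 1) / 2 = p; omega,
      fun i hi c => ?_⟩
    have := hf i (Fin.ne_of_val_ne (by simp only [ha]; omega)) (Fin.ne_of_val_ne (by simp only [hb]; omega)) c
    rw [hja]
    exact ⟨this.1, this.2.2.2⟩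
  · have hjb : j = b := Fin.ext (by show (j : ℕ) = 2 * p + 1; omega)
    refine ⟨a, Fin.ne_of_val_ne (by show 2 * p ≠ _; omega), by show (2 * p) / 2 = p; omega,
      fun i hi c => ?_⟩
    have := hf i (Fin.ne_of_val_ne (by simp only [ha]; omega)) (Fin.ne_of_val_ne (by simp only [hb]; omega)) c
    rw [hjb]
    exact ⟨this.2.1, this.2.2.1⟩

/-- What may be moved right through the `k`-th representative. -/
noncomputable def Qk (k : ℕ) : Subgroup SLn :=
  R.P.comap ((MulAut.conj (R.J k)⁻¹).toMonoidHom.comp R.ψ)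

theorem mem_Qk {k : ℕ} {g : SLn} : g ∈ R.Qk k ↔ (R.J k)⁻¹ * R.ψ g * R.J k ∈ R.P := by
  show (R.J k)⁻¹ * R.ψ g * (R.J k)⁻¹⁻¹ ∈ R.P ↔ _
  rw [inv_inv]

theorem conj_J_erase {k p : ℕ} (hp : p < k) (x : G) :
    (R.J k)⁻¹ * x * R.J k =
      (R.JS ((Finset.range k).erase p))⁻¹ * ((R.Wn p)⁻¹ * x * R.Wn p) * R.JS ((Finset.range k).erase p) := by
  rw [J, R.JS_erase (Finset.mem_range.2 hp)]; group

theorem conj_eq_of_commute {a x : G} (h : Commute a x) : a⁻¹ * x * a = x := by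
  rw [mul_assoc, ← h.eq, inv_mul_cancel_left]

theorem X_high_low {k : ℕ} (hk : 2 * k ≤ d + 4) {i j : Fin (d + 4)} (hi : 2 * k ≤ (i : ℕ)) (hj : (j : ℕ) < 2 * k)
    (c : F) : (R.J k)⁻¹ * R.X i j c * R.J k ∈ R.P := by
  obtain ⟨j', hne, hdiv, hmv⟩ := R.Wn_move (j := j) (by omega)
  obtain ⟨c', e⟩ := (hmv i (by omega) c).2
  have hij' : i ≠ j' := fun e' => by rw [e'] at hi; omega
  rw [R.conj_J_erase (p := (j : ℕ) / 2) (by omega), e,
    conj_eq_of_commute (R.commute_JS fun p hp => ?_)]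
  · exact R.psi_mem_P _
  · rw [Finset.mem_erase, Finset.mem_range] at hp
    exact R.commute_Wn_A hij' (Or.inl ⟨by omega, by omega⟩) _

theorem A_mem_Qk {k : ℕ} (hk : 2 * k ≤ d + 4) {i j : Fin (d + 4)} (hij : i ≠ j)
    (h : ¬ ((i : ℕ) < 2 * k ∧ 2 * k ≤ (j : ℕ))) (c : F) : A i j c ∈ R.Qk k := by
  rw [mem_Qk]
  by_cases hj : (j : ℕ) < 2 * k
  · by_cases hs : (i : ℕ) / 2 = (j : ℕ) / 2
    · rw [J, conj_eq_of_commute (R.commute_JS fun p _ => R.commute_Wn_A hij (by omega) c)]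
      exact R.psi_mem_P _
    obtain ⟨j', hne, hdiv, hmv⟩ := R.Wn_move (j := j) (by omega)
    obtain ⟨c', e⟩ := (hmv i hs c).1
    have hij' : i ≠ j' := fun e' => hs (by rw [e', hdiv])
    rw [R.conj_J_erase (p := (j : ℕ) / 2) (by omega), e]
    by_cases hi : (i : ℕ) < 2 * k
    · -- both low, in different pairs
      obtain ⟨i', hne', hdiv', hmv'⟩ := R.Wn_move (j := i) (by omega)
      rw [R.X_swap j' i hij'.symm] at *
      obtain ⟨c'', e''⟩ := (hmv' j' (by omega) (-c')).2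
      have hmem : (i : ℕ) / 2 ∈ (Finset.range k).erase ((j : ℕ) / 2) :=
        Finset.mem_erase.2 ⟨hs, Finset.mem_range.2 (by omega)⟩
      have hne2 : j' ≠ i' := fun e' => hs (by rw [← hdiv', ← e', hdiv])
      rw [R.JS_erase hmem]
      set Jr := R.JS (((Finset.range k).erase ((j : ℕ) / 2)).erase ((i : ℕ) / 2))
      rw [show (R.Wn ((i : ℕ) / 2) * Jr)⁻¹ * R.X j' i (-c') * (R.Wn ((i : ℕ) / 2) * Jr) =
        Jr⁻¹ * ((R.Wn ((i : ℕ) / 2))⁻¹ * R.X j' i (-c') * R.Wn ((i : ℕ) / 2)) * Jr by group, e'',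
        conj_eq_of_commute (R.commute_JS fun p hp => ?_)]
      · exact R.psi_mem_P _
      · simp only [Finset.mem_erase, Finset.mem_range] at hp
        exact R.commute_Wn_A hne2 (Or.inl ⟨by omega, by omega⟩) _
    · rw [conj_eq_of_commute (R.commute_JS fun p hp => ?_)]
      · exact R.X_mem_P hij' _
      · rw [Finset.mem_erase, Finset.mem_range] at hp
        exact R.commute_Wn_X hij' (by omega) (by omega) _
  · have hi : 2 * k ≤ (i : ℕ) := by omega
    rw [J, conj_eq_of_commute (R.commute_JS fun p hp => R.commute_Wn_A hij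
      (Or.inl ⟨by rw [Finset.mem_range] at hp; omega, by rw [Finset.mem_range] at hp; omega⟩) c)]
    exact R.psi_mem_P _

end DRel

end Cfsg.Agent.Lib.ShortPresDn
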