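import Cfsg.Agent.Lib.ShortPresDn.Basic

/-!
# Short presentations of `Ω⁺`, part 2: the relations of type `D` and their first consequences
-/

set_option autoImplicit false
set_option linter.unusedSectionVars false

namespace Cfsg.Agent.Lib.ShortPresDn

open Equiv
open Schur.SteinbergSLn (trv trv_rel trv_smul)
open ShortPresSLn (permHom torS tS torS_weyl torS_tri)
open ShortPresSL2 (matU matD matT mem_of_gens matD_mul matT_sq)

variable {d : ℕ} {F : Type*} [Field F] {G : Type*} [Group G]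

local notation "SLn" => Matrix.SpecialLinearGroup (Fin (d + 4)) F
local notation "T₂" => (matT : Matrix.SpecialLinearGroup (Fin 2) F)

theorem ne01 : (0 : Fin (d + 4)) ≠ 1 := by simp [Fin.ext_iff]
theorem ne02 : (0 : Fin (d + 4)) ≠ 2 := by
  simp [Fin.ext_iff, Nat.mod_eq_of_lt (show 2 < d + 4 by omega), Nat.mod_eq_of_lt (show 3 < d + 4 by omega)]
theorem ne03 : (0 : Fin (d + 4)) ≠ 3 := by
  simp [Fin.ext_iff, Nat.mod_eq_of_lt (show 2 < d + 4 by omega), Nat.mod_eq_of_lt (show 3 < d + 4 by omega)]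
theorem ne12 : (1 : Fin (d + 4)) ≠ 2 := by
  simp [Fin.ext_iff, Nat.mod_eq_of_lt (show 2 < d + 4 by omega), Nat.mod_eq_of_lt (show 3 < d + 4 by omega)]
theorem ne13 : (1 : Fin (d + 4)) ≠ 3 := by
  simp [Fin.ext_iff, Nat.mod_eq_of_lt (show 2 < d + 4 by omega), Nat.mod_eq_of_lt (show 3 < d + 4 by omega)]
theorem ne23 : (2 : Fin (d + 4)) ≠ 3 := by
  simp [Fin.ext_iff, Nat.mod_eq_of_lt (show 2 < d + 4 by omega), Nat.mod_eq_of_lt (show 3 < d + 4 by omega)]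

/-- Both indices in the first pair, or both outside. -/
def Diag01 (i j : Fin (d + 4)) : Prop :=
  ((i = 0 ∨ i = 1) ∧ (j = 0 ∨ j = 1)) ∨ ((i ≠ 0 ∧ i ≠ 1) ∧ (j ≠ 0 ∧ j ≠ 1))

/-- The three-cycle `0 ↦ 2 ↦ 1 ↦ 0`. -/
def cyc : alternatingGroup (Fin (d + 4)) :=
  ⟨Equiv.swap 1 2 * Equiv.swap 0 1, by
    rw [Perm.mem_alternatingGroup, Perm.sign_mul, Perm.sign_swap ne12, Perm.sign_swap ne01]; rfl⟩

theorem cyc_zero : ((cyc : alternatingGroup (Fin (d + 4))) : Perm (Fin (d + 4))) 0 = 2 := by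
  show Equiv.swap (1 : Fin (d + 4)) 2 (Equiv.swap 0 1 0) = 2
  simp

theorem cyc_one : ((cyc : alternatingGroup (Fin (d + 4))) : Perm (Fin (d + 4))) 1 = 0 := by
  show Equiv.swap (1 : Fin (d + 4)) 2 (Equiv.swap 0 1 1) = 0
  rw [Equiv.swap_apply_right, Equiv.swap_apply_of_ne_of_ne ne01 ne02]

theorem cyc_two : ((cyc : alternatingGroup (Fin (d + 4))) : Perm (Fin (d + 4))) 2 = 1 := by
  show Equiv.swap (1 : Fin (d + 4)) 2 (Equiv.swap 0 1 2) = 1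
  rw [Equiv.swap_apply_of_ne_of_ne ne02.symm ne12.symm, Equiv.swap_apply_right]

theorem cyc_of_ne {k : Fin (d + 4)} (h0 : k ≠ 0) (h1 : k ≠ 1) (h2 : k ≠ 2) :
    ((cyc : alternatingGroup (Fin (d + 4))) : Perm (Fin (d + 4))) k = k := by
  show Equiv.swap (1 : Fin (d + 4)) 2 (Equiv.swap 0 1 k) = k
  rw [Equiv.swap_apply_of_ne_of_ne h0 h1, Equiv.swap_apply_of_ne_of_ne h1 h2]

/-- The relations of type `D` used by the criterion. -/
structure DRel (d : ℕ) (F : Type*) [Field F] (G : Type*) [Group G] where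
  ψ : Matrix.SpecialLinearGroup (Fin (d + 4)) F →* G
  X : Fin (d + 4) → Fin (d + 4) → F → G
  χ : Matrix.SpecialLinearGroup (Fin 2) F →* G
  X_add : ∀ i j, i ≠ j → ∀ s t, X i j (s + t) = X i j s * X i j t
  X_swap : ∀ i j, i ≠ j → ∀ t, X j i t = X i j (-t)
  X_comm : ∀ i j k l, i ≠ j → k ≠ l → ∀ s t, Commute (X i j s) (X k l t)
  X_conj : ∀ g σ α, Mono g σ α → ∀ i j, i ≠ j → ∀ t,
    ψ g * X i j t * (ψ g)⁻¹ = X (σ i) (σ j) ((α i : F) * (α j : F) * t)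
  X_fix : ∀ a b i j, a ≠ b → i ≠ j → ((b ≠ i ∧ b ≠ j) ∨ (a = i ∧ b = j)) → ∀ s t,
    Commute (ψ (trv (d + 4) F a b s)) (X i j t)
  X_act : ∀ a b j, a ≠ b → a ≠ j → b ≠ j → ∀ s t,
    ψ (trv (d + 4) F a b s) * X b j t * (ψ (trv (d + 4) F a b s))⁻¹ = X b j t * X a j (s * t)
  χ_U : ∀ t, χ (matU t) = X 0 1 t
  w_A : ∀ i j, i ≠ j → Diag01 i j → ∀ c, Commute (χ matT) (ψ (trv (d + 4) F i j c))
  w_X : ∀ i j, i ≠ j → (i ≠ 0 ∧ i ≠ 1) → (j ≠ 0 ∧ j ≠ 1) → ∀ t, Commute (χ matT) (X i j t)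
  w_lo : ∀ j, j ≠ 0 → j ≠ 1 → ∀ c,
    χ matT * ψ (trv (d + 4) F j 0 c) * (χ matT)⁻¹ = X j 1 (-c)
  w_sq : χ matT * χ matT = ψ (torS (-1) 0 1)
  w_torus : ∀ t : Fˣ, ψ (torS t 1 3) * χ matT * (ψ (torS t 1 3))⁻¹ = χ (matD t * matT)
  w_braid : ψ (permHom (d + 4) F cyc) * (χ matT * ψ (tS 2 0) * (χ matT)⁻¹) *
    (ψ (permHom (d + 4) F cyc))⁻¹ = χ matT

theorem diag01_or (i j : Fin (d + 4)) : Diag01 i j ∨ ((i ≠ 0 ∧ i ≠ 1) ∧ (j = 0 ∨ j = 1)) ∨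
    ((i = 0 ∨ i = 1) ∧ (j ≠ 0 ∧ j ≠ 1)) := by
  unfold Diag01; tauto

namespace DRel

variable (R : DRel d F G)

/-- The Weyl element of the first pair. -/
def w : G := R.χ matT

theorem X_zero {i j : Fin (d + 4)} (h : i ≠ j) : R.X i j 0 = 1 := by
  have := R.X_add i j h 0 0
  rw [add_zero] at this
  exact left_eq_mul.1 this

theorem X_inv {i j : Fin (d + 4)} (h : i ≠ j) (t : F) : (R.X i j t)⁻¹ = R.X i j (-t) :=
  inv_eq_of_mul_eq_one_right (by rw [← R.X_add i j h, add_neg_cancel, R.X_zero h])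

theorem chi_mem {K : Subgroup G} (hU : ∀ t, R.X 0 1 t ∈ K) (hw : R.w ∈ K)
    (g : Matrix.SpecialLinearGroup (Fin 2) F) : R.χ g ∈ K := by
  refine mem_of_gens (K := K.comap R.χ) (fun t => ?_) (fun l => ?_) hw g
  · show R.χ _ ∈ K
    rw [R.χ_U]; exact hU t
  · show R.χ _ ∈ K
    have e : (matD l : Matrix.SpecialLinearGroup (Fin 2) F) =
        matU (l : F) * (T₂ * matU ((l : F)⁻¹) * T₂⁻¹) * matU (l : F) * T₂⁻¹ := by
      have h1 : (matD l : Matrix.SpecialLinearGroup (Fin 2) F) * T₂ =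
          matU (l : F) * (T₂ * matU ((l : F)⁻¹) * T₂⁻¹) * matU (l : F) := by
        refine Subtype.ext ?_
        simp only [Matrix.SpecialLinearGroup.coe_mul, Matrix.SpecialLinearGroup.coe_inv]
        simp [matD, matU, matT, Matrix.adjugate_fin_two, Units.val_inv_eq_inv_val]
      rw [← h1, mul_inv_cancel_right]
    rw [e, map_mul, map_mul, map_mul, map_mul, map_mul, map_inv, R.χ_U, R.χ_U]
    exact K.mul_mem (K.mul_mem (K.mul_mem (hU _) (K.mul_mem (K.mul_mem hw (hU _)) (K.inv_mem hw))) (hU _))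
      (K.inv_mem hw)

theorem commute_chi {x : G} (hU : ∀ t, Commute (R.X 0 1 t) x) (hw : Commute R.w x)
    (g : Matrix.SpecialLinearGroup (Fin 2) F) : Commute (R.χ g) x :=
  (Subgroup.mem_centralizer_singleton_iff.1
    (R.chi_mem (K := Subgroup.centralizer {x})
      (fun t => Subgroup.mem_centralizer_singleton_iff.2 (hU t).eq)
      (Subgroup.mem_centralizer_singleton_iff.2 hw.eq) g) :)

theorem chi_commute_A {i j : Fin (d + 4)} (hij : i ≠ j) (h : Diag01 i j) (c : F)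
    (g : Matrix.SpecialLinearGroup (Fin 2) F) : Commute (R.χ g) (R.ψ (trv (d + 4) F i j c)) := by
  refine R.commute_chi (fun t => (Commute.symm ?_)) (R.w_A i j hij h c) g
  rcases h with ⟨hi, hj⟩ | ⟨hi, hj⟩
  · rcases hi with rfl | rfl <;> rcases hj with rfl | rfl
    · exact absurd rfl hij
    · exact R.X_fix _ _ _ _ hij ne01 (Or.inr ⟨rfl, rfl⟩) _ _
    · rw [R.X_swap 1 0 hij]
      exact R.X_fix _ _ _ _ hij hij (Or.inr ⟨rfl, rfl⟩) _ _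
    · exact absurd rfl hij
  · exact R.X_fix _ _ _ _ hij ne01 (Or.inl hj) _ _

theorem chi_commute_X {i j : Fin (d + 4)} (hij : i ≠ j) (hi : i ≠ 0 ∧ i ≠ 1) (hj : j ≠ 0 ∧ j ≠ 1) (c : F)
    (g : Matrix.SpecialLinearGroup (Fin 2) F) : Commute (R.χ g) (R.X i j c) :=
  R.commute_chi (fun _ => R.X_comm _ _ _ _ ne01 hij _ _) (R.w_X i j hij hi hj c) g

/-- Conjugation of a transvection by a monomial matrix, in `G`. -/
theorem A_conj {g : SLn} {σ : Perm (Fin (d + 4))} {α : Fin (d + 4) → Fˣ} (hg : Mono g σ α)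
    {i j : Fin (d + 4)} (h : i ≠ j) (c : F) :
    R.ψ g * R.ψ (trv (d + 4) F i j c) * (R.ψ g)⁻¹ =
      R.ψ (trv (d + 4) F (σ i) (σ j) ((α i : F) * ((α j)⁻¹ : Fˣ) * c)) := by
  rw [← map_inv, ← map_mul, ← map_mul, hg.conj_trv h]

theorem commute_w_block {g : SLn} {σ : Perm (Fin (d + 4))} {α : Fin (d + 4) → Fˣ} (hg : Mono g σ α)
    (hσ : σ 0 = 0 ∧ σ 1 = 1) (hα : α 0 = 1 ∧ α 1 = 1) : Commute R.w (R.ψ g) := by
  have : g ∈ (Subgroup.centralizer ({R.w} : Set G)).comap R.ψ :=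
    mem_of_block_mono (a := 0) (b := 1) ((Subgroup.centralizer ({R.w} : Set G)).comap R.ψ)
      (fun i j hij i0 i1 j0 j1 c =>
      show R.ψ _ ∈ Subgroup.centralizer ({R.w} : Set G) from
      Subgroup.mem_centralizer_singleton_iff.2 (R.w_A i j hij (Or.inr ⟨⟨i0, i1⟩, j0, j1⟩) c).symm.eq)
      hg hσ hα
  exact (Subgroup.mem_centralizer_singleton_iff.1 this : R.ψ g * R.w = R.w * R.ψ g).symm

/-- The swap of the first pair. -/
theorem commute_w_n01 : Commute R.w (R.ψ (tS 0 1)) := by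
  rw [ShortPresSLn.tS_eq ne01, map_mul, map_mul]
  have h : Diag01 (0 : Fin (d + 4)) 1 := Or.inl ⟨Or.inl rfl, Or.inr rfl⟩
  have h' : Diag01 (1 : Fin (d + 4)) 0 := Or.inl ⟨Or.inr rfl, Or.inl rfl⟩
  exact ((R.w_A _ _ ne01 h _).mul_right (R.w_A _ _ ne01.symm h' _)).mul_right (R.w_A _ _ ne01 h _)

theorem w_lo1 {j : Fin (d + 4)} (h0 : j ≠ 0) (h1 : j ≠ 1) (c : F) :
    R.w * R.ψ (trv (d + 4) F j 1 c) * R.w⁻¹ = R.X j 0 c := by
  have hm := mono_tS (F := F) (ne01 : (0 : Fin (d + 4)) ≠ 1)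
  have e : R.ψ (trv (d + 4) F j 1 c) =
      R.ψ (tS 0 1) * R.ψ (trv (d + 4) F j 0 (-c)) * (R.ψ (tS 0 1))⁻¹ := by
    rw [R.A_conj hm h0, Equiv.swap_apply_of_ne_of_ne h0 h1, Equiv.swap_apply_left]
    simp [h0]
  have hc := R.commute_w_n01
  rw [e]
  calc R.w * (R.ψ (tS 0 1) * R.ψ (trv (d + 4) F j 0 (-c)) * (R.ψ (tS 0 1))⁻¹) * R.w⁻¹ =
        R.ψ (tS 0 1) * (R.w * R.ψ (trv (d + 4) F j 0 (-c)) * R.w⁻¹) * (R.ψ (tS 0 1))⁻¹ := by
        rw [← mul_assoc, ← mul_assoc, hc.eq, mul_assoc _ (R.ψ (tS 0 1))⁻¹ R.w⁻¹,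
          hc.symm.inv_inv.eq]
        simp only [mul_assoc]
    _ = _ := by
        rw [show R.w = R.χ matT from rfl, R.w_lo j h0 h1, neg_neg, R.X_conj _ _ _ hm _ _ h1,
          Equiv.swap_apply_of_ne_of_ne h0 h1, Equiv.swap_apply_right]
        simp [h0]

theorem w_sq_conj (x : G) :
    R.w⁻¹ * x * R.w = R.w * ((R.ψ (torS (-1) 0 1))⁻¹ * x * R.ψ (torS (-1) 0 1)) * R.w⁻¹ := by
  rw [← R.w_sq, show R.χ matT = R.w from rfl]
  group

theorem torS01_conj_low {j b : Fin (d + 4)} (h0 : j ≠ 0) (h1 : j ≠ 1) (hb : b = 0 ∨ b = 1) (c : F) :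
    (R.ψ (torS (-1) 0 1))⁻¹ * R.ψ (trv (d + 4) F j b c) * R.ψ (torS (-1) 0 1) =
      R.ψ (trv (d + 4) F j b (-c)) := by
  have hm := (mono_torS (F := F) (-1 : Fˣ) (0 : Fin (d + 4)) 1).inv
  have hjb : j ≠ b := by rcases hb with rfl | rfl; exacts [h0, h1]
  have := R.A_conj hm hjb c
  rw [map_inv, inv_inv] at this
  rw [this]
  rcases hb with rfl | rfl <;> simp [h0, h1, ne01, ne01.symm]

theorem winv_lo {j : Fin (d + 4)} (h0 : j ≠ 0) (h1 : j ≠ 1) (c : F) :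
    R.w⁻¹ * R.ψ (trv (d + 4) F j 0 c) * R.w = R.X j 1 c := by
  rw [R.w_sq_conj, R.torS01_conj_low h0 h1 (Or.inl rfl)]
  exact (R.w_lo j h0 h1 _).trans (by rw [neg_neg])

theorem winv_lo1 {j : Fin (d + 4)} (h0 : j ≠ 0) (h1 : j ≠ 1) (c : F) :
    R.w⁻¹ * R.ψ (trv (d + 4) F j 1 c) * R.w = R.X j 0 (-c) := by
  rw [R.w_sq_conj, R.torS01_conj_low h0 h1 (Or.inr rfl)]
  exact R.w_lo1 h0 h1 _

theorem winv_X1 {j : Fin (d + 4)} (h0 : j ≠ 0) (h1 : j ≠ 1) (c : F) :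
    R.w⁻¹ * R.X j 1 c * R.w = R.ψ (trv (d + 4) F j 0 (-c)) := by
  have : R.X j 1 c = R.w * R.ψ (trv (d + 4) F j 0 (-c)) * R.w⁻¹ :=
    ((R.w_lo j h0 h1 _).trans (by rw [neg_neg])).symm
  rw [this]; group

theorem winv_X0 {j : Fin (d + 4)} (h0 : j ≠ 0) (h1 : j ≠ 1) (c : F) :
    R.w⁻¹ * R.X j 0 c * R.w = R.ψ (trv (d + 4) F j 1 c) := by
  rw [← R.w_lo1 h0 h1]; group

theorem w_X0 {j : Fin (d + 4)} (h0 : j ≠ 0) (h1 : j ≠ 1) (c : F) :
    R.w * R.X j 0 c * R.w⁻¹ = R.ψ (trv (d + 4) F j 1 (-c)) := by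
  have : R.X j 0 c = R.w⁻¹ * R.ψ (trv (d + 4) F j 1 (-c)) * R.w := by
    rw [R.winv_lo1 h0 h1, neg_neg]
  rw [this]; group

theorem w_X1 {j : Fin (d + 4)} (h0 : j ≠ 0) (h1 : j ≠ 1) (c : F) :
    R.w * R.X j 1 c * R.w⁻¹ = R.ψ (trv (d + 4) F j 0 c) := by
  rw [← R.winv_lo h0 h1]; group

theorem w_inv : R.w⁻¹ = (R.ψ (torS (-1) 0 1))⁻¹ * R.w := by
  rw [← R.w_sq, show R.χ matT = R.w from rfl]; group

/-! ### The torus of the first pair -/

/-- The torus element of the first pair. -/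
def hHom : Fˣ →* G := R.χ.comp (MonoidHom.mk' matD matD_mul)

/-- The torus element of the first pair, as a function. -/
def h (t : Fˣ) : G := R.χ (matD t)

theorem hHom_apply (t : Fˣ) : R.hHom t = R.h t := rfl

theorem h_inv (t : Fˣ) : (R.h t)⁻¹ = R.h t⁻¹ := by rw [← R.hHom_apply, ← map_inv, R.hHom_apply]

theorem w_h (t : Fˣ) : R.w * R.h t = R.h t⁻¹ * R.w := by
  rw [← R.h_inv, ← mul_inv_eq_iff_eq_mul, show R.w = R.χ matT from rfl, h, ← map_inv, ← map_mul,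
    ← map_mul, ShortPresSL2.matT_conj_matD, map_inv]

theorem torus_w (t : Fˣ) :
    R.ψ (torS t 1 3) * R.w * (R.ψ (torS t 1 3))⁻¹ * R.w⁻¹ = R.h t := by
  rw [show R.w = R.χ matT from rfl, R.w_torus, map_mul, mul_inv_cancel_right]; rfl

theorem h_neg_one : R.h (-1) = R.ψ (torS (-1) 0 1) := by
  rw [← R.w_sq, ← map_mul, matT_sq]; rfl

/-- The torus element of the pair `(1,2)`. -/
theorem h_braid (t : Fˣ) :
    (R.ψ (permHom (d + 4) F cyc))⁻¹ * R.h t * R.ψ (permHom (d + 4) F cyc) =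
      R.w * R.ψ (torS t 2 0) * R.w⁻¹ := by
  set g := R.ψ (permHom (d + 4) F cyc) with hg
  have hd : g⁻¹ * R.ψ (torS t 1 3) * g = R.ψ (torS t 2 3) := by
    rw [hg, ← map_inv, ← map_mul, ← map_mul]
    congr 1
    rw [← map_inv]
    conv_lhs => arg 2; rw [← inv_inv cyc, map_inv]
    rw [ShortPresSLn.torS_perm]
    congr 1
  have hb : g⁻¹ * R.w * g = R.w * R.ψ (tS 2 0) * R.w⁻¹ := by
    have e : g * (R.w * R.ψ (tS 2 0) * R.w⁻¹) * g⁻¹ = R.w := R.w_braid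
    conv_lhs => rw [← e]
    group
  have hc : Commute R.w (R.ψ (torS t 2 3)) :=
    R.commute_w_block (mono_torS t 2 3) ⟨rfl, rfl⟩ ⟨by simp [ne02, ne03], by simp [ne12, ne13]⟩
  have hcomm : (torS t 2 3 : SLn) * tS 2 0 * (torS t 2 3)⁻¹ * (tS 2 0)⁻¹ = torS t 2 0 := by
    refine mul_inv_eq_of_eq_mul ?_
    rw [mul_inv_eq_iff_eq_mul]
    refine Linear.sl_ext_single fun k => ?_
    rw [mul_smul, mul_smul, mul_smul, ShortPresSLn.tS_single ne02.symm]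
    split_ifs with a b
    · subst a
      simp [ShortPresSLn.torS_single, ShortPresSLn.tS_single (ne02.symm : (2 : Fin (d + 4)) ≠ 0), ne02,
        ne03, ne23, ne02.symm, ne23.symm, ne03.symm]
    · subst b
      simp [ShortPresSLn.torS_single, ShortPresSLn.tS_single (ne02.symm : (2 : Fin (d + 4)) ≠ 0), ne02,
        ne03, ne23, ne02.symm, ne23.symm, ne03.symm]
    · simp [ShortPresSLn.torS_single, ShortPresSLn.tS_single (ne02.symm : (2 : Fin (d + 4)) ≠ 0), a, b]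
  calc g⁻¹ * R.h t * g = (g⁻¹ * R.ψ (torS t 1 3) * g) * (g⁻¹ * R.w * g) *
        (g⁻¹ * R.ψ (torS t 1 3) * g)⁻¹ * (g⁻¹ * R.w * g)⁻¹ := by rw [← R.torus_w]; group
    _ = R.ψ (torS t 2 3) * R.w * R.ψ (tS 2 0) * (R.ψ (torS t 2 3) * R.w)⁻¹ *
        (R.w * R.ψ (tS 2 0) * R.w⁻¹)⁻¹ := by rw [hd, hb]; group
    _ = _ := by rw [← hc.eq, ← hcomm, map_mul, map_mul, map_mul, map_inv, map_inv]; group

end DRel

end Cfsg.Agent.Lib.ShortPresDn
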