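import Cfsg.Agent.Lib.ShortPresDn.Model
import Cfsg.Agent.Lib.ShortPresDn.Derive

/-!
# Short presentations of `Ω⁺`, part 12: the relations hold in the orthogonal group
-/

set_option autoImplicit false
set_option linter.unusedSectionVars false

namespace Cfsg.Agent.Lib.ShortPresDn

open Equiv QuadraticMap
open Cfsg.Agent.Lib.Forms Cfsg.Agent.Lib.OrthOmega
open Schur.SteinbergSLn (trv trv_rel trv_smul)
open ShortPresSLn (permHom torS tS torS_single tS_eq)

variable {F : Type*} [Field F] {d : ℕ}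

local notation "SLn" => Matrix.SpecialLinearGroup (Fin (d + 4)) F
local notation "A" => trv (d + 4) F
local notation "wₒ" => (wO (F := F) (d := d))

theorem wO_sq : wₒ * wₒ = psiO (torS (-1 : Fˣ) 0 1) := by
  refine orth_ext fun v => ?_
  rw [orth_mul_apply, wO_apply, wO_apply, psiO_apply, torS_inv, trp_torS_smul]
  funext k
  rcases k with k | k <;>
  · simp only [Sum.elim_inl, Sum.elim_inr, Function.update_apply, ShortPresSLn.torS_smul]
    by_cases h0 : k = 0
    · subst h0; simp [ne01, ne01.symm]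
    by_cases h1 : k = 1
    · subst h1; simp [ne01, ne01.symm]
    simp [h0, h1]

theorem wO_vl_one (c : F) : (wₒ).1 (vl 1 c) = vr 0 c := by
  rw [wO_apply]
  funext k
  rcases k with k | k <;>
  · by_cases hk0 : k = 0
    · subst hk0; simp [ne01, ne01.symm]
    by_cases hk1 : k = 1
    · subst hk1; simp [ne01, ne01.symm]
    simp [Function.update_apply, hk0, hk1]

theorem wO_vr_one (c : F) : (wₒ).1 (vr 1 c) = vl 0 c := by
  rw [wO_apply]
  funext k
  rcases k with k | k <;>
  · by_cases hk0 : k = 0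
    · subst hk0; simp [ne01, ne01.symm]
    by_cases hk1 : k = 1
    · subst hk1; simp [ne01, ne01.symm]
    simp [Function.update_apply, hk0, hk1]

theorem rho_swap {e u : VQ d F} (h : SPair (Q d F) e u) (h' : SPair (Q d F) u (-e)) :
    rho h = rho h' := by
  refine orth_ext fun x => ?_
  rw [rho_apply, rho_apply, polar_neg_left, QuadraticMap.map_neg, h.sing, h'.sing]
  simp only [zero_mul, add_zero, smul_neg, neg_smul, sub_neg_eq_add]
  abel

theorem wO_comm_A {i j : Fin (d + 4)} (hij : i ≠ j) (h : Diag01 i j) (c : F) :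
    Commute wₒ (psiO (A i j c)) := by
  refine eq_mul_inv_iff_mul_eq.1 ?_ |>.symm
  rw [psiO_trv hij, Ao, rho_conj]
  rcases h with ⟨hi, hj⟩ | ⟨hi, hj⟩
  · rcases hi with rfl | rfl <;> rcases hj with rfl | rfl
    · exact absurd rfl hij
    · -- the pair `(f₁, c e₀)` goes to `(e₀, -c f₁)`
      symm
      refine orth_ext fun x => ?_
      rw [rho_apply, rho_apply, wO_vr_one, wO_vl0, pol_vl, pol_vr, pol_vr, pol_vl, Q_vr, Q_vl]
      simp only [zero_mul, add_zero, smul_vl, smul_vr, one_mul, mul_one]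
      funext k
      rcases k with k | k <;> simp <;> split_ifs <;> ring
    · symm
      refine orth_ext fun x => ?_
      rw [rho_apply, rho_apply, wO_vr0, wO_vl_one, pol_vl, pol_vr, pol_vr, pol_vl, Q_vr, Q_vl]
      simp only [zero_mul, add_zero, smul_vl, smul_vr, one_mul, mul_one]
      funext k
      rcases k with k | k <;> simp <;> split_ifs <;> ring
    · exact absurd rfl hij
  · refine rho_congr _ _ ?_ ?_
    · rw [wO_vr_other hj.1 hj.2]
    · rw [wO_vl_other hi.1 hi.2]

theorem vO_eq : wₒ * psiO (A 2 0 1) * (wₒ)⁻¹ = Xo 2 1 (-1) := wO_conj_low ne02.symm ne12.symm 1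

theorem psiO_vl_trv {a b : Fin (d + 4)} (hab : a ≠ b) (s : F) (i : Fin (d + 4)) (c : F) :
    (psiO (A a b s)).1 (vl i c) = vl i c + if i = b then vl a (s * c) else 0 := by
  rw [psiO_trv hab, Ao, rho_apply, pol_vr, pol_vl, Q_vl, zero_mul, add_zero, smul_vl, smul_vr]
  simp only [vl_inl, vl_inr, mul_zero, vr, Pi.single_zero, zero_mul, sub_zero, one_mul]
  by_cases h : i = b
  · subst h; simp [mul_comm]
  · simp [h, Ne.symm h, vl]

theorem vO_comm {a b : Fin (d + 4)} (hab : a ≠ b) (h : InStab a b) (s : F) :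
    Commute (Xo (F := F) 2 1 (-1)) (psiO (A a b s)) := by
  refine eq_mul_inv_iff_mul_eq.1 ?_
  symm
  rw [Xo, rho_conj]
  rcases h with ⟨ha, hb⟩ | ⟨hb1, hb2⟩
  · refine orth_ext fun x => ?_
    rw [rho_apply, rho_apply, psiO_vl_trv hab, psiO_vl_trv hab]
    rcases ha with rfl | rfl <;> rcases hb with rfl | rfl
    · exact absurd rfl hab
    · simp only [if_neg (ne12 : (1 : Fin (d + 4)) ≠ 2), if_pos rfl, add_zero, polar_add_left, pol_vl, Q_vl,
        Q_add, polar_smul_left, one_mul, mul_one, zero_mul, add_zero]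
      simp only [vl_inr, mul_zero, add_zero, zero_mul, smul_add, smul_vl, add_mul, mul_one, pol_vl, Q_vl,
        polar_add_left, Q_add]
      funext k
      rcases k with k | k <;> simp [pol_vl, Q_vl, polar_add_left, Q_add, QuadraticMap.map_neg, polar_neg_left] <;>
        split_ifs <;> ring
    · simp only [if_neg (ne12.symm : (2 : Fin (d + 4)) ≠ 1), if_pos rfl, add_zero, polar_add_left, pol_vl, Q_vl,
        Q_add, polar_smul_left, one_mul, mul_one, zero_mul, add_zero]
      simp only [vl_inr, mul_zero, add_zero, zero_mul, smul_add, smul_vl, add_mul, mul_one, pol_vl, Q_vl,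
        polar_add_left, Q_add]
      funext k
      rcases k with k | k <;> simp [pol_vl, Q_vl, polar_add_left, Q_add, QuadraticMap.map_neg, polar_neg_left] <;>
        split_ifs <;> ring
    · exact absurd rfl hab
  · refine rho_congr _ _ ?_ ?_
    · rw [psiO_vl_trv hab, if_neg (Ne.symm hb1), add_zero]
    · rw [psiO_vl_trv hab, if_neg (Ne.symm hb2), add_zero]

theorem Mo_swap (i j : Fin (d + 4)) (t : F) : Mo j i t = Mo i j (-t) := by
  refine orth_ext fun v => ?_
  rw [Mo_apply, Mo_apply]
  funext k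
  rcases k with k | k <;> simp <;> split_ifs <;> ring

theorem wO_braid : psiO (permHom (d + 4) F cyc) * (wₒ * psiO (tS 2 0) * (wₒ)⁻¹) *
    (psiO (permHom (d + 4) F cyc))⁻¹ = wₒ := by
  have h := mono_permHom (F := F) (cyc : alternatingGroup (Fin (d + 4)))
  rw [tS_eq ne02.symm, map_mul, map_mul]
  calc _ = (psiO (permHom (d + 4) F cyc) * (wₒ * psiO (A 2 0 1) * (wₒ)⁻¹) *
        (psiO (permHom (d + 4) F cyc))⁻¹) * (psiO (permHom (d + 4) F cyc) * (wₒ * psiO (A 0 2 (-1)) * (wₒ)⁻¹) *
        (psiO (permHom (d + 4) F cyc))⁻¹) * (psiO (permHom (d + 4) F cyc) * (wₒ * psiO (A 2 0 1) * (wₒ)⁻¹) *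
        (psiO (permHom (d + 4) F cyc))⁻¹) := by group
    _ = _ := by
      rw [wO_conj_low ne02.symm ne12.symm, wO_conj_up ne02.symm ne12.symm, Xo_conj h, Mo_conj h, cyc_two,
        cyc_one, Xo_swap, Mo_swap]
      simp [wO]

end Cfsg.Agent.Lib.ShortPresDn
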